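import Groth.Agent.BigCell29.Quot
import Mathlib.RingTheory.Etale.Basic
import Mathlib.RingTheory.TensorProduct.Basic
import Mathlib.AlgebraicGeometry.Morphisms.FlatMono
import Mathlib.AlgebraicGeometry.Morphisms.Etale

/-!
# The big cell is open
-/

set_option autoImplicit false

universe u

set_option synthInstance.maxHeartbeats 100000

open TensorProduct WithConv Finsupp AlgebraicGeometry CategoryTheory

namespace Groth.Agent.BigCell29

variable {R : Type u} [CommRing R] {A : Type u} [CommRing A] [HopfAlgebra R A]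
  {B : Type u} [CommRing B] [Algebra R B] (D : Coact R A ℤ)

/-- Functions on `U⁻ × Z × U⁺`. -/
def Coact.CellRing : Type u := (D.inv.URing ⊗[R] D.ZRing) ⊗[R] D.URing

noncomputable instance : CommRing D.CellRing :=
  inferInstanceAs (CommRing ((D.inv.URing ⊗[R] D.ZRing) ⊗[R] D.URing))

noncomputable instance : Algebra R D.CellRing :=
  inferInstanceAs (Algebra R ((D.inv.URing ⊗[R] D.ZRing) ⊗[R] D.URing))

noncomputable def Coact.inclM : D.inv.URing →ₐ[R] D.CellRing :=
  Algebra.TensorProduct.includeLeft.comp Algebra.TensorProduct.includeLeft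

noncomputable def Coact.inclZ : D.ZRing →ₐ[R] D.CellRing :=
  Algebra.TensorProduct.includeLeft.comp Algebra.TensorProduct.includeRight

noncomputable def Coact.inclP : D.URing →ₐ[R] D.CellRing := Algebra.TensorProduct.includeRight

/-- The universal point of the cell. -/
noncomputable def Coact.cellPt : Pt R A D.CellRing :=
  mapPt D.inclM D.inv.uPt * mapPt D.inclZ D.zPt * mapPt D.inclP D.uPt

/-- The comorphism of the cell map. -/
noncomputable def Coact.cellHom : A →ₐ[R] D.CellRing := D.cellPt.ofConv

/-- The map out of the cell ring given by three points. -/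
noncomputable def Coact.cellLift {x z y : Pt R A B} (hx : D.inv.InU x) (hz : D.InZ z) (hy : D.InU y) :
    D.CellRing →ₐ[R] B :=
  Algebra.TensorProduct.lift
    (Algebra.TensorProduct.lift (D.inv.uLift hx) (D.zLift hz) fun _ _ => .all ..) (D.uLift hy) fun _ _ => .all ..

theorem Coact.cellLift_inclM {x z y : Pt R A B} (hx : D.inv.InU x) (hz : D.InZ z) (hy : D.InU y) :
    (D.cellLift hx hz hy).comp D.inclM = D.inv.uLift hx :=
  (congrArg (fun f => AlgHom.comp f Algebra.TensorProduct.includeLeft) (Algebra.TensorProduct.lift_comp_includeLeft _ _ fun _ _ => .all ..)).trans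
    (Algebra.TensorProduct.lift_comp_includeLeft _ _ fun _ _ => .all ..)

theorem Coact.cellLift_inclZ {x z y : Pt R A B} (hx : D.inv.InU x) (hz : D.InZ z) (hy : D.InU y) :
    (D.cellLift hx hz hy).comp D.inclZ = D.zLift hz :=
  (congrArg (fun f => AlgHom.comp f Algebra.TensorProduct.includeRight) (Algebra.TensorProduct.lift_comp_includeLeft _ _ fun _ _ => .all ..)).trans
    (Algebra.TensorProduct.lift_comp_includeRight _ _ fun _ _ => .all ..)

theorem Coact.cellLift_inclP {x z y : Pt R A B} (hx : D.inv.InU x) (hz : D.InZ z) (hy : D.InU y) :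
    (D.cellLift hx hz hy).comp D.inclP = D.uLift hy :=
  Algebra.TensorProduct.lift_comp_includeRight _ _ fun _ _ => .all ..

theorem Coact.mapPt_cellLift {x z y : Pt R A B} (hx : D.inv.InU x) (hz : D.InZ z) (hy : D.InU y) :
    mapPt (D.cellLift hx hz hy) D.cellPt = x * z * y := by
  simp only [cellPt, map_mul, mapPt_mapPt, D.cellLift_inclM, D.cellLift_inclZ, D.cellLift_inclP,
    D.mapPt_zLift, Coact.mapPt_uLift]

theorem Coact.cellRing_hom_ext {f f' : D.CellRing →ₐ[R] B}
    (h1 : mapPt (f.comp D.inclM) D.inv.uPt = mapPt (f'.comp D.inclM) D.inv.uPt)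
    (h2 : mapPt (f.comp D.inclZ) D.zPt = mapPt (f'.comp D.inclZ) D.zPt)
    (h3 : mapPt (f.comp D.inclP) D.uPt = mapPt (f'.comp D.inclP) D.uPt) : f = f' := by
  refine Algebra.TensorProduct.ext (Algebra.TensorProduct.ext (D.inv.uHom_ext ?_) (D.zHom_ext ?_)) (D.uHom_ext ?_)
  · exact h1
  · exact h2
  · exact h3

/-- A map out of the cell ring is determined by its composite with the cell map. -/
theorem Coact.cellHom_epi {f f' : D.CellRing →ₐ[R] B} (h : f.comp D.cellHom = f'.comp D.cellHom) : f = f' := by
  have e : mapPt f D.cellPt = mapPt f' D.cellPt := WithConv.ext h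
  simp only [cellPt, map_mul, mapPt_mapPt] at e
  obtain ⟨e1, e2, e3⟩ := D.cell_inj (Coact.InU.map _ D.inv.inU_uPt _) (Coact.InU.map _ D.inv.inU_uPt _)
    (Coact.InZ.map D D.inZ_zPt _) (Coact.InZ.map D D.inZ_zPt _) (Coact.InU.map D D.inU_uPt _)
    (Coact.InU.map D D.inU_uPt _) e
  exact D.cellRing_hom_ext e1 e2 e3

/-- The cell map as a map of schemes. -/
noncomputable def Coact.cellMor : Spec (CommRingCat.of D.CellRing) ⟶ Spec (CommRingCat.of A) :=
  Spec.map (CommRingCat.ofHom D.cellHom.toRingHom)

/-- The cell ring as an algebra over the Hopf algebra. -/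
@[implicit_reducible]
noncomputable def Coact.cellAlgebra : Algebra A D.CellRing := RingHom.toAlgebra D.cellHom.toRingHom

theorem Coact.formallyEtale_cellHom [Algebra.FormallySmooth R A] :
    letI := D.cellAlgebra
    Algebra.FormallyEtale A D.CellRing := by
  let := D.cellAlgebra
  have : IsScalarTower R A D.CellRing := .of_algebraMap_eq fun r => (D.cellHom.commutes r).symm
  refine Algebra.FormallyEtale.iff_comp_bijective.mpr fun B _ _ I hI => ⟨fun f f' h => ?_, fun gb => ?_⟩
  · let : Algebra R B := ((algebraMap A B).comp (algebraMap R A)).toAlgebra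
    have : IsScalarTower R A B := .of_algebraMap_eq fun r => rfl
    refine AlgHom.restrictScalars_injective R (D.cellHom_epi (AlgHom.ext fun a => ?_))
    show f (algebraMap A D.CellRing a) = f' (algebraMap A D.CellRing a)
    rw [f.commutes, f'.commutes]
  · let : Algebra R B := ((algebraMap A B).comp (algebraMap R A)).toAlgebra
    have : IsScalarTower R A B := .of_algebraMap_eq fun r => rfl
    let π : B →ₐ[R] B ⧸ I := Ideal.Quotient.mkₐ R I
    have hsq : SqZero π := fun x y hx hy => by
      have : x * y ∈ I * I := Ideal.mul_mem_mul (Ideal.Quotient.eq_zero_iff_mem.mp hx)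
        (Ideal.Quotient.eq_zero_iff_mem.mp hy)
      rwa [← pow_two, hI] at this
    let gb' : D.CellRing →ₐ[R] B ⧸ I := gb.restrictScalars R
    let g : Pt R A B := toConv (IsScalarTower.toAlgHom R A B)
    have hg : mapPt π g = mapPt (gb'.comp D.inclM) D.inv.uPt * mapPt (gb'.comp D.inclZ) D.zPt *
        mapPt (gb'.comp D.inclP) D.uPt := by
      rw [← mapPt_mapPt, ← mapPt_mapPt, ← mapPt_mapPt, ← map_mul, ← map_mul]
      exact pt_ext fun a => (gb.commutes a).symm
    obtain ⟨x, z, y, hx, hz, hy, ex, ez, ey, e⟩ := D.exists_cell_lift hsq Ideal.Quotient.mk_surjective g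
      (Coact.InU.map _ D.inv.inU_uPt _) (Coact.InZ.map D D.inZ_zPt _) (Coact.InU.map D D.inU_uPt _) hg
    let F := D.cellLift hx hz hy
    have hF : ∀ a, F (algebraMap A D.CellRing a) = algebraMap A B a := fun a => by
      have := DFunLike.congr_fun (congrArg WithConv.ofConv ((D.mapPt_cellLift hx hz hy).trans e.symm)) a
      exact this
    refine ⟨⟨F.toRingHom, hF⟩, ?_⟩
    refine AlgHom.restrictScalars_injective R ?_
    change π.comp F = gb'
    refine D.cellRing_hom_ext ?_ ?_ ?_
    · rw [AlgHom.comp_assoc, D.cellLift_inclM, ← mapPt_mapPt, Coact.mapPt_uLift, ex]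
    · rw [AlgHom.comp_assoc, D.cellLift_inclZ, ← mapPt_mapPt, Coact.mapPt_zLift, ez]
    · rw [AlgHom.comp_assoc, D.cellLift_inclP, ← mapPt_mapPt, Coact.mapPt_uLift, ey]

/-- `U⁻ × Z × U⁺ ⟶ G` is an open immersion. -/
theorem Coact.isOpenImmersion_cellMor [Algebra.FormallySmooth R A] [Algebra.FinitePresentation R A] :
    IsOpenImmersion D.cellMor := by
  let := D.cellAlgebra
  have : IsScalarTower R A D.CellRing := .of_algebraMap_eq fun r => (D.cellHom.commutes r).symm
  have : Algebra.FinitePresentation R (D.inv.URing ⊗[R] D.ZRing) :=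
    .trans R D.inv.URing _
  have : Algebra.FinitePresentation R D.CellRing :=
    Algebra.FinitePresentation.trans R (D.inv.URing ⊗[R] D.ZRing) ((D.inv.URing ⊗[R] D.ZRing) ⊗[R] D.URing)
  have : Algebra.FormallyEtale A D.CellRing := D.formallyEtale_cellHom
  have : Algebra.FinitePresentation A D.CellRing := .of_restrict_scalars_finitePresentation R A _
  have : Algebra.Etale A D.CellRing := ⟨inferInstance, inferInstance⟩
  have : AlgebraicGeometry.Etale D.cellMor := (HasRingHomProperty.Spec_iff (P := @AlgebraicGeometry.Etale)).mpr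
    (RingHom.etale_algebraMap.mpr inferInstance)
  have : Mono D.cellMor := by
    have : Epi (CommRingCat.ofHom D.cellHom.toRingHom) := ⟨fun {C} f g h => by
      let : Algebra R C := (f.hom.comp (algebraMap R D.CellRing)).toAlgebra
      let f' : D.CellRing →ₐ[R] C := ⟨f.hom, fun r => rfl⟩
      let g' : D.CellRing →ₐ[R] C := ⟨g.hom, fun r => by
        show g.hom (algebraMap R D.CellRing r) = f.hom (algebraMap R D.CellRing r)
        rw [← D.cellHom.commutes r]
        exact (congrArg (fun k : CommRingCat.of A ⟶ C => k.hom (algebraMap R A r)) h).symm⟩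
      have := D.cellHom_epi (f := f') (f' := g')
        (AlgHom.ext fun a => congrArg (fun k : CommRingCat.of A ⟶ C => k.hom a) h)
      exact CommRingCat.hom_ext (congrArg (fun k : D.CellRing →ₐ[R] C => k.toRingHom) this)⟩
    exact inferInstanceAs (Mono (Scheme.Spec.map (CommRingCat.ofHom D.cellHom.toRingHom).op))
  exact IsOpenImmersion.of_flat_of_mono _

end Groth.Agent.BigCell29
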