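import Groth.Agent.BigCell29.TorusPart
import Groth.Agent.BigCell29.CellAlg
import Mathlib.RingTheory.TensorProduct.MonoidAlgebra
import Mathlib.RingTheory.FiniteType

/-!
# The big cell of a frame is open
-/

set_option autoImplicit false
set_option synthInstance.maxHeartbeats 100000

universe u

open TensorProduct WithConv Finsupp AlgebraicGeometry CategoryTheory
open scoped AddMonoidAlgebra

namespace Groth.Agent.BigCell29

variable {R : Type u} [CommRing R] {A : Type u} [CommRing A] [HopfAlgebra R A]
  {B C : Type u} [CommRing B] [Algebra R B] [CommRing C] [Algebra R C] {M ι : Type} [AddCommGroup M]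
  (F : Frame R A M ι) (lam : M →+ ℤ)

theorem Coact.ext' {Γ : Type} [AddCommGroup Γ] {D D' : Coact R A Γ} (h : D.c = D'.c) : D = D' := by
  cases D; cases D'; simp_all

theorem Frame.inv_cochar : (F.cochar lam).inv = F.cochar (-lam) := by
  refine Coact.ext' (AlgHom.ext fun a => ?_)
  refine AddMonoidAlgebra.coeff_injective ?_
  simp only [Coact.inv, Coact.push, AlgHom.comp_apply, AddMonoidAlgebra.mapDomainAlgHom_apply,
    AddMonoidAlgebra.coeff_mapDomain, ← Finsupp.mapDomain_comp]
  rfl

theorem finitePresentation_addMonoidAlgebra (R : Type u) [CommRing R] (M : Type) [AddCommGroup M]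
    [Module.Finite ℤ M] : Algebra.FinitePresentation R R[M] := by
  have : IsNoetherianRing (ULift.{u} ℤ) := isNoetherianRing_of_ringEquiv ℤ ULift.ringEquiv.symm
  have : AddMonoid.FG M := by
    rw [← AddGroup.fg_iff_addMonoid_fg, ← Module.Finite.iff_addGroup_fg]; infer_instance
  have : Algebra.FinitePresentation (ULift.{u} ℤ) (ULift.{u} ℤ)[M] :=
    Algebra.FinitePresentation.of_finiteType.mp inferInstance
  let : Algebra (ULift.{u} ℤ) R := ((algebraMap ℤ R).comp ULift.ringEquiv.toRingHom).toAlgebra
  exact Algebra.FinitePresentation.equiv (AddMonoidAlgebra.scalarTensorEquiv (ULift.{u} ℤ) R (M := M))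

variable {n m : ℕ} (eneg : Fin n → ι) (epos : Fin m → ι)

variable (R M n m) in
/-- Functions on `𝔸ⁿ × T × 𝔸ᵐ`. -/
def SplitRing : Type u := (MvPolynomial (Fin n) R ⊗[R] R[M]) ⊗[R] MvPolynomial (Fin m) R

noncomputable instance : CommRing (SplitRing R M n m) :=
  inferInstanceAs (CommRing ((MvPolynomial (Fin n) R ⊗[R] R[M]) ⊗[R] MvPolynomial (Fin m) R))

noncomputable instance : Algebra R (SplitRing R M n m) :=
  inferInstanceAs (Algebra R ((MvPolynomial (Fin n) R ⊗[R] R[M]) ⊗[R] MvPolynomial (Fin m) R))

variable (R M n m) in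
noncomputable def splY : MvPolynomial (Fin n) R →ₐ[R] SplitRing R M n m :=
  Algebra.TensorProduct.includeLeft.comp Algebra.TensorProduct.includeLeft

variable (R M n m) in
noncomputable def splT : R[M] →ₐ[R] SplitRing R M n m :=
  Algebra.TensorProduct.includeLeft.comp Algebra.TensorProduct.includeRight

variable (R M n m) in
noncomputable def splX : MvPolynomial (Fin m) R →ₐ[R] SplitRing R M n m :=
  Algebra.TensorProduct.includeRight

/-- The map out of `SplitRing` given by coordinates. -/
noncomputable def splLift (y : Fin n → B) (χ : Multiplicative M →* B) (x : Fin m → B) :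
    SplitRing R M n m →ₐ[R] B :=
  Algebra.TensorProduct.lift
    (Algebra.TensorProduct.lift (MvPolynomial.aeval y) (AddMonoidAlgebra.lift R B M χ) fun _ _ => .all ..)
    (MvPolynomial.aeval x) fun _ _ => .all ..

/-- The coordinates of a map out of `SplitRing`. -/
noncomputable def coordY (f : SplitRing R M n m →ₐ[R] B) : Fin n → B := fun j => f (splY R M n m (MvPolynomial.X j))

noncomputable def coordX (f : SplitRing R M n m →ₐ[R] B) : Fin m → B := fun j => f (splX R M n m (MvPolynomial.X j))

noncomputable def coordT (f : SplitRing R M n m →ₐ[R] B) : Multiplicative M →* B :=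
  (AddMonoidAlgebra.lift R B M).symm (f.comp (splT R M n m))

theorem spl_hom_ext {f f' : SplitRing R M n m →ₐ[R] B} (hy : coordY f = coordY f') (ht : coordT f = coordT f')
    (hx : coordX f = coordX f') : f = f' := by
  refine Algebra.TensorProduct.ext (Algebra.TensorProduct.ext ?_ ?_) ?_
  · exact MvPolynomial.algHom_ext fun j => congrFun hy j
  · exact (AddMonoidAlgebra.lift R B M).symm.injective ht
  · exact MvPolynomial.algHom_ext fun j => congrFun hx j

theorem splLift_Y (y : Fin n → B) (χ : Multiplicative M →* B) (x : Fin m → B) :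
    coordY (splLift (R := R) y χ x) = y := funext fun j => by
  show Algebra.TensorProduct.lift _ _ (fun _ _ => .all ..) ((MvPolynomial.X j ⊗ₜ[R] (1 : R[M])) ⊗ₜ[R] (1 : MvPolynomial (Fin m) R)) = _
  simp

theorem splLift_X (y : Fin n → B) (χ : Multiplicative M →* B) (x : Fin m → B) :
    coordX (splLift (R := R) y χ x) = x := funext fun j => by
  show Algebra.TensorProduct.lift _ _ (fun _ _ => .all ..) ((1 : MvPolynomial (Fin n) R ⊗[R] R[M]) ⊗ₜ[R] MvPolynomial.X j) = _
  simp

theorem splLift_T (y : Fin n → B) (χ : Multiplicative M →* B) (x : Fin m → B) :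
    coordT (splLift (R := R) y χ x) = χ := by
  refine (AddMonoidAlgebra.lift R B M).injective ?_
  rw [coordT, Equiv.apply_symm_apply]
  refine AlgHom.ext fun q => ?_
  show Algebra.TensorProduct.lift _ _ (fun _ _ => .all ..) (((1 : MvPolynomial (Fin n) R) ⊗ₜ[R] q) ⊗ₜ[R] (1 : MvPolynomial (Fin m) R)) = _
  simp

/-- The comorphism of the big cell. -/
noncomputable def Frame.splitHom : A →ₐ[R] SplitRing R M n m :=
  (F.prodPt eneg (coordY (AlgHom.id R _)) * F.T.tor (coordT (AlgHom.id R _)) *
    F.prodPt epos (coordX (AlgHom.id R _))).ofConv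

theorem Frame.mapPt_splitHom (f : SplitRing R M n m →ₐ[R] B) :
    mapPt f (toConv (F.splitHom eneg epos)) =
      F.prodPt eneg (coordY f) * F.T.tor (coordT f) * F.prodPt epos (coordX f) := by
  rw [splitHom, toConv_ofConv, map_mul, map_mul, F.mapPt_prodPt, F.mapPt_prodPt, F.T.mapPt_tor]
  congr 3

/-- The big cell map. -/
noncomputable def Frame.splitMor : Spec (CommRingCat.of (SplitRing R M n m)) ⟶ Spec (CommRingCat.of A) :=
  Spec.map (CommRingCat.ofHom (F.splitHom eneg epos).toRingHom)

/-- Enumerations of the roots of each sign. -/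
structure Frame.IsSignEnum : Prop where
  neg : ∀ j, lam (F.root (eneg j)) < 0
  pos : ∀ j, 0 < lam (F.root (epos j))
  neg_inj : Function.Injective eneg
  pos_inj : Function.Injective epos
  neg_range : ∀ i, lam (F.root i) < 0 → i ∈ Set.range eneg
  pos_range : ∀ i, 0 < lam (F.root i) → i ∈ Set.range epos
  reg : ∀ i, lam (F.root i) ≠ 0

variable {eneg epos lam}

theorem Frame.exists_coords {k : ℕ} {e : Fin k → ι} (he : ∀ j, 0 < lam (F.root (e j))) (hinj : Function.Injective e)
    (hr : ∀ i, 0 < lam (F.root i) → i ∈ Set.range e) {g : Pt R A B} (hg : (F.cochar lam).InU g) :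
    ∃! x : Fin k → B, F.prodPt e x = g := by
  set ψ := (F.cochar lam).uLift (F.prodPt_inU lam e he (MvPolynomial.X (R := R)))
  have hb := F.bijective_uLift_prodPt lam e he hinj hr
  have key : ∀ x : Fin k → B, mapPt ((MvPolynomial.aeval x).comp ψ) (F.cochar lam).uPt = F.prodPt e x := fun x => by
    rw [← mapPt_mapPt, Coact.mapPt_uLift, F.mapPt_prodPt]
    congr 1; ext j; simp
  let e' := AlgEquiv.ofBijective ψ hb
  refine ⟨fun j => ((F.cochar lam).uLift hg) (e'.symm (MvPolynomial.X j)), ?_, fun x hx => funext fun j => ?_⟩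
  · show F.prodPt e _ = g
    rw [← key]
    refine Eq.trans ?_ ((F.cochar lam).mapPt_uLift hg)
    congr 2
    have h2 : (MvPolynomial.aeval fun j => ((F.cochar lam).uLift hg) (e'.symm (MvPolynomial.X j))) =
        ((F.cochar lam).uLift hg).comp e'.symm.toAlgHom := MvPolynomial.algHom_ext fun j => by simp
    rw [h2]
    refine AlgHom.ext fun z => ?_
    exact congrArg ((F.cochar lam).uLift hg) (e'.symm_apply_apply z)
  · have h3 : (MvPolynomial.aeval x).comp ψ = (F.cochar lam).uLift hg :=
      (F.cochar lam).uHom_ext (by rw [key, hx, Coact.mapPt_uLift])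
    show x j = _
    rw [← h3]
    show x j = MvPolynomial.aeval x (e' (e'.symm (MvPolynomial.X j)))
    rw [AlgEquiv.apply_symm_apply, MvPolynomial.aeval_X]

variable (h : F.IsSignEnum lam eneg epos)
include h

theorem Frame.neg_inU (y : Fin n → B) : (F.cochar lam).inv.InU (F.prodPt eneg y) := by
  rw [F.inv_cochar]
  exact F.prodPt_inU _ _ (fun j => by simp [h.neg j]) _

theorem Frame.exists_coords_neg {g : Pt R A B} (hg : (F.cochar lam).inv.InU g) :
    ∃! y : Fin n → B, F.prodPt eneg y = g := by
  rw [F.inv_cochar] at hg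
  exact F.exists_coords (fun j => by simp [h.neg j]) h.neg_inj
    (fun i hi => h.neg_range i (by simpa using hi)) hg

theorem Frame.splitHom_epi {f f' : SplitRing R M n m →ₐ[R] B}
    (e : f.comp (F.splitHom eneg epos) = f'.comp (F.splitHom eneg epos)) : f = f' := by
  have e' : mapPt f (toConv (F.splitHom eneg epos)) = mapPt f' (toConv (F.splitHom eneg epos)) := WithConv.ext e
  rw [F.mapPt_splitHom, F.mapPt_splitHom] at e'
  obtain ⟨e1, e2, e3⟩ := (F.cochar lam).cell_inj (F.neg_inU h _) (F.neg_inU h _) (F.cochar_inZ_tor lam _)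
    (F.cochar_inZ_tor lam _) (F.prodPt_inU lam _ h.pos _) (F.prodPt_inU lam _ h.pos _) e'
  refine spl_hom_ext ?_ ?_ ?_
  · exact (F.exists_coords_neg h (F.neg_inU h _)).unique e1 rfl
  · refine (AddMonoidAlgebra.lift R B M).injective (AlgHom.ext fun x => ?_)
    obtain ⟨a, rfl⟩ := F.π_surj x
    exact DFunLike.congr_fun (congrArg WithConv.ofConv e2) a
  · exact (F.exists_coords h.pos h.pos_inj h.pos_range (F.prodPt_inU lam _ h.pos _)).unique e3 rfl

variable [Fintype ι] [Module.Free ℤ M] [Module.Finite ℤ M]

theorem Frame.exists_split_lift [Algebra.FormallySmooth R A] {φ : B →ₐ[R] C} (hsq : SqZero φ)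
    (hφ : Function.Surjective φ) (g : Pt R A B) (f : SplitRing R M n m →ₐ[R] C)
    (hg : mapPt φ g = mapPt f (toConv (F.splitHom eneg epos))) :
    ∃ f' : SplitRing R M n m →ₐ[R] B, φ.comp f' = f ∧ mapPt f' (toConv (F.splitHom eneg epos)) = g := by
  rw [F.mapPt_splitHom] at hg
  obtain ⟨a, z, c, ha, hz, hc, ea, ez, ec, e⟩ := (F.cochar lam).exists_cell_lift hsq hφ g (F.neg_inU h _)
    (F.cochar_inZ_tor lam _) (F.prodPt_inU lam _ h.pos _) hg
  obtain ⟨y, hy, -⟩ := F.exists_coords_neg h ha
  obtain ⟨x, hx, -⟩ := F.exists_coords h.pos h.pos_inj h.pos_range hc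
  obtain ⟨χ, hχ, eχ⟩ := F.exists_tor_lift lam h.reg hsq hφ z hz (coordT f) ez
  refine ⟨splLift y χ x, ?_, by rw [F.mapPt_splitHom, splLift_Y, splLift_T, splLift_X, hy, hx, eχ, e]⟩
  refine spl_hom_ext ?_ ?_ ?_
  · refine (F.exists_coords_neg h (F.neg_inU h _)).unique ?_ rfl
    show F.prodPt eneg (φ ∘ coordY (splLift (R := R) y χ x)) = _
    rw [splLift_Y, ← F.mapPt_prodPt, hy, ea]
  · refine Eq.trans ?_ hχ
    conv_rhs => rw [← splLift_T (R := R) y χ x]
    refine MonoidHom.ext fun q => ?_
    simp [coordT]
  · refine (F.exists_coords h.pos h.pos_inj h.pos_range (F.prodPt_inU lam _ h.pos _)).unique ?_ rfl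
    show F.prodPt epos (φ ∘ coordX (splLift (R := R) y χ x)) = _
    rw [splLift_X, ← F.mapPt_prodPt, hx, ec]

/-- The big cell of a frame is open. -/
theorem Frame.isOpenImmersion_splitMor [Algebra.FormallySmooth R A] [Algebra.FinitePresentation R A] :
    IsOpenImmersion (F.splitMor eneg epos) := by
  let := (F.splitHom eneg epos).toRingHom.toAlgebra
  have : IsScalarTower R A (SplitRing R M n m) :=
    .of_algebraMap_eq fun r => ((F.splitHom eneg epos).commutes r).symm
  have : Algebra.FinitePresentation R R[M] := finitePresentation_addMonoidAlgebra R M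
  have : Algebra.FinitePresentation R (MvPolynomial (Fin n) R ⊗[R] R[M]) :=
    .trans R (MvPolynomial (Fin n) R) _
  have : Algebra.FinitePresentation R (SplitRing R M n m) :=
    Algebra.FinitePresentation.trans R (MvPolynomial (Fin n) R ⊗[R] R[M])
      ((MvPolynomial (Fin n) R ⊗[R] R[M]) ⊗[R] MvPolynomial (Fin m) R)
  have : Algebra.FormallyEtale A (SplitRing R M n m) := by
    refine Algebra.FormallyEtale.iff_comp_bijective.mpr fun B _ _ I hI => ⟨fun f f' _ => ?_, fun gb => ?_⟩
    · let : Algebra R B := ((algebraMap A B).comp (algebraMap R A)).toAlgebra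
      have : IsScalarTower R A B := .of_algebraMap_eq fun r => rfl
      refine AlgHom.restrictScalars_injective R (F.splitHom_epi h (AlgHom.ext fun a => ?_))
      show f (algebraMap A _ a) = f' (algebraMap A _ a)
      rw [f.commutes, f'.commutes]
    · let : Algebra R B := ((algebraMap A B).comp (algebraMap R A)).toAlgebra
      have : IsScalarTower R A B := .of_algebraMap_eq fun r => rfl
      have hsq : SqZero (Ideal.Quotient.mkₐ R I) := fun x y hx hy => by
        have : x * y ∈ I * I := Ideal.mul_mem_mul (Ideal.Quotient.eq_zero_iff_mem.mp hx)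
          (Ideal.Quotient.eq_zero_iff_mem.mp hy)
        rwa [← pow_two, hI] at this
      obtain ⟨f', h1, h2⟩ := F.exists_split_lift h hsq Ideal.Quotient.mk_surjective
        (toConv (IsScalarTower.toAlgHom R A B)) (gb.restrictScalars R)
        (pt_ext fun a => (gb.commutes a).symm)
      exact ⟨⟨f'.toRingHom, fun a => DFunLike.congr_fun (congrArg WithConv.ofConv h2) a⟩,
        AlgHom.restrictScalars_injective R h1⟩
  have : Algebra.FinitePresentation A (SplitRing R M n m) := .of_restrict_scalars_finitePresentation R A _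
  have : Algebra.Etale A (SplitRing R M n m) := ⟨inferInstance, inferInstance⟩
  have : AlgebraicGeometry.Etale (F.splitMor eneg epos) :=
    (HasRingHomProperty.Spec_iff (P := @AlgebraicGeometry.Etale)).mpr (RingHom.etale_algebraMap.mpr inferInstance)
  have : Mono (F.splitMor eneg epos) := by
    have : Epi (CommRingCat.ofHom (F.splitHom eneg epos).toRingHom) := ⟨fun {C} f g hfg => by
      let : Algebra R C := (f.hom.comp (algebraMap R (SplitRing R M n m))).toAlgebra
      let f' : SplitRing R M n m →ₐ[R] C := ⟨f.hom, fun r => rfl⟩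
      let g' : SplitRing R M n m →ₐ[R] C := ⟨g.hom, fun r => by
        show g.hom (algebraMap R _ r) = f.hom (algebraMap R _ r)
        rw [← (F.splitHom eneg epos).commutes r]
        exact (congrArg (fun k : CommRingCat.of A ⟶ C => k.hom (algebraMap R A r)) hfg).symm⟩
      have := F.splitHom_epi h (f := f') (f' := g')
        (AlgHom.ext fun a => congrArg (fun k : CommRingCat.of A ⟶ C => k.hom a) hfg)
      exact CommRingCat.hom_ext (congrArg (fun k : SplitRing R M n m →ₐ[R] C => k.toRingHom) this)⟩
    exact inferInstanceAs (Mono (Scheme.Spec.map (CommRingCat.ofHom (F.splitHom eneg epos).toRingHom).op))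
  exact IsOpenImmersion.of_flat_of_mono _

end Groth.Agent.BigCell29
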