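import Groth.Agent.BigCell29.Bridge
import Groth.Agent.BigCell29.SplitCell
import Groth.Prelude.Def_RedSub

/-!
# The big cell map of a splitting on an affine piece of the base
-/

set_option autoImplicit false
set_option synthInstance.maxHeartbeats 100000

universe u

open CategoryTheory CategoryTheory.Limits MonoidalCategory CartesianMonoidalCategory AlgebraicGeometry WithConv
open scoped MonObj AddMonoidAlgebra

namespace Groth.Agent.BigCell29

open GrpSchLib.AffineHopf DSPtsLib

variable {S : Scheme.{u}} {R : Type u} [CommRing R] {f : Spec (CommRingCat.of R) ⟶ S}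
  {B C : Type u} [CommRing B] [Algebra R B] [CommRing C] [Algebra R C]

variable (f) in
/-- A point of a power of the additive group. -/
noncomputable def powPt : {n : ℕ} → (Fin n → B) → (tObj f B ⟶ RedSub.pow (Red.Ga S) n)
  | 0, _ => toUnit _
  | _ + 1, x => lift (gaPt f (x 0)) (powPt fun k => x k.succ)

theorem powPt_map (φ : B →ₐ[R] C) {n : ℕ} (x : Fin n → B) : tMap f φ ≫ powPt f x = powPt f (φ ∘ x) := by
  induction n with
  | zero => exact toUnit_unique _ _
  | succ n ih =>
    show tMap f φ ≫ lift _ _ = lift _ _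
    rw [comp_lift, gaPt_map, ih]
    rfl

theorem powPt_bijective (n : ℕ) : Function.Bijective (powPt f : (Fin n → B) → (tObj f B ⟶ RedSub.pow (Red.Ga S) n)) := by
  induction n with
  | zero => exact ⟨fun x y _ => Subsingleton.elim _ _, fun p => ⟨Fin.elim0, toUnit_unique _ _⟩⟩
  | succ n ih =>
    refine ⟨fun x y h => ?_, fun p => ?_⟩
    · change lift _ _ = lift _ _ at h
      have h1 := congrArg (· ≫ fst (Red.Ga S) (RedSub.pow (Red.Ga S) n)) h
      have h2 := congrArg (· ≫ snd (Red.Ga S) (RedSub.pow (Red.Ga S) n)) h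
      simp only [lift_fst, lift_snd] at h1 h2
      exact funext (Fin.cases ((gaPt_bijective f).injective h1) fun k => congrFun (ih.injective h2) k)
    · obtain ⟨a, ha⟩ := (gaPt_bijective f).surjective (p ≫ fst _ _)
      obtain ⟨b, hb⟩ := ih.surjective (p ≫ snd _ _)
      refine ⟨Fin.cons a b, ?_⟩
      show lift _ _ = p
      simp only [Fin.cons_zero, Fin.cons_succ]
      exact CartesianMonoidalCategory.hom_ext _ _ ((lift_fst _ _).trans ha) ((lift_snd _ _).trans hb)

theorem isAffineHom_Ga : IsAffineHom (Red.Ga S).hom := by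
  have : IsAffine Red.GaZ.{u}.left := inferInstanceAs (IsAffine (Spec _))
  have : IsAffineHom Red.GaZ.{u}.hom := isAffineHom_of_isAffine _
  exact MorphismProperty.of_isPullback (P := @IsAffineHom.{u}) (IsPullback.of_hasPullback Red.GaZ.{u}.hom
    (IsTerminal.from specULiftZIsTerminal S)) ‹_›

theorem isAffineHom_DS (M : Type) [AddCommGroup M] : IsAffineHom (Red.DS S M).hom := by
  have : IsAffine (Red.diag (ULift.{u} ℤ) M).left := inferInstanceAs (IsAffine (Spec _))
  have : IsAffineHom (Red.diag (ULift.{u} ℤ) M).hom := isAffineHom_of_isAffine _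
  exact MorphismProperty.of_isPullback (P := @IsAffineHom.{u}) (IsPullback.of_hasPullback (Red.diag (ULift.{u} ℤ) M).hom
    (IsTerminal.from specULiftZIsTerminal S)) ‹_›

theorem isAffineHom_tensor (X Y : Over S) [IsAffineHom X.hom] [IsAffineHom Y.hom] : IsAffineHom (X ⊗ Y).hom := by
  have : IsAffineHom (pullback.fst X.hom Y.hom) :=
    MorphismProperty.of_isPullback (P := @IsAffineHom.{u}) (IsPullback.of_hasPullback X.hom Y.hom).flip ‹_›
  show IsAffineHom (pullback.fst X.hom Y.hom ≫ X.hom)
  infer_instance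

theorem isAffineHom_pow (n : ℕ) : IsAffineHom (RedSub.pow (Red.Ga S) n).hom := by
  induction n with
  | zero => exact inferInstanceAs (IsAffineHom (𝟙 S))
  | succ n ih =>
    have := isAffineHom_Ga (S := S)
    exact isAffineHom_tensor _ _

variable {G : Over S} [GrpObj G] (D : Red.SplitRed G)

/-- The domain of the big cell map. -/
noncomputable abbrev cellObj (n m : ℕ) : Over S := RedSub.pow (Red.Ga S) n ⊗ (D.T ⊗ RedSub.pow (Red.Ga S) m)

theorem isAffine_bc_cellObj (n m : ℕ) : IsAffine (Red.bc f (cellObj D n m)).left := by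
  have := isAffineHom_pow (S := S) n
  have := isAffineHom_pow (S := S) m
  have := isAffineHom_DS (S := S) D.M
  have : IsIso D.split.hom.hom.hom := ((Grp.forget _).mapIso D.split).isIso_hom
  have : IsIso D.split.hom.hom.hom.left := inferInstanceAs (IsIso ((Over.forget _).map D.split.hom.hom.hom))
  have : IsAffineHom D.T.hom := by
    rw [← Over.w D.split.hom.hom.hom]; infer_instance
  have := isAffineHom_tensor D.T (RedSub.pow (Red.Ga S) m)
  have := isAffineHom_tensor (RedSub.pow (Red.Ga S) n) (D.T ⊗ RedSub.pow (Red.Ga S) m)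
  have : IsAffineHom (pullback.snd (cellObj D n m).hom f) :=
    MorphismProperty.of_isPullback (P := @IsAffineHom.{u}) (IsPullback.of_hasPullback (cellObj D n m).hom f) ‹_›
  exact isAffine_of_isAffineHom (pullback.snd (cellObj D n m).hom f)

variable (f) in
/-- A point of the domain of the big cell map. -/
noncomputable def cellPt {n m : ℕ} (y : Fin n → B) (χ : Multiplicative D.M →* B) (x : Fin m → B) :
    tObj f B ⟶ cellObj D n m :=
  lift (powPt f y) (lift (chPt f χ ≫ D.split.inv.hom.hom) (powPt f x))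

theorem cellPt_map (φ : B →ₐ[R] C) {n m : ℕ} (y : Fin n → B) (χ : Multiplicative D.M →* B) (x : Fin m → B) :
    tMap f φ ≫ cellPt f D y χ x = cellPt f D (φ ∘ y) (φ.toRingHom.toMonoidHom.comp χ) (φ ∘ x) := by
  rw [cellPt, cellPt, comp_lift, comp_lift, powPt_map, powPt_map, ← Category.assoc, chPt_map]

theorem cellPt_bijective {n m : ℕ} (p : tObj f B ⟶ cellObj D n m) :
    ∃! q : (Fin n → B) × (Multiplicative D.M →* B) × (Fin m → B), cellPt f D q.1 q.2.1 q.2.2 = p := by
  have hi : IsIso D.split.inv.hom.hom := ((Grp.forget _).mapIso D.split.symm).isIso_hom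
  obtain ⟨y, hy⟩ := (powPt_bijective n).surjective (p ≫ fst _ _)
  obtain ⟨χ, hχ⟩ := (chPt_bijective f).surjective ((p ≫ snd _ _ ≫ fst _ _) ≫ inv D.split.inv.hom.hom)
  obtain ⟨x, hx⟩ := (powPt_bijective m).surjective (p ≫ snd _ _ ≫ snd _ _)
  refine ⟨(y, χ, x), ?_, fun q hq => ?_⟩
  · show cellPt f D y χ x = p
    rw [cellPt, hy, hχ, hx, Category.assoc, Category.assoc, Category.assoc, IsIso.inv_hom_id, Category.comp_id]
    apply CartesianMonoidalCategory.hom_ext
    · simp
    · apply CartesianMonoidalCategory.hom_ext <;> simp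
  · subst hq
    simp only [cellPt, lift_fst, lift_snd, lift_snd_assoc, Category.assoc, IsIso.hom_inv_id, Category.comp_id] at hy hχ hx
    rw [(powPt_bijective n).injective hy, (chPt_bijective f).injective hχ, (powPt_bijective m).injective hx]

variable {A : Type u} [CommRing A] [HopfAlgebra R A] (Md : Model f G A) [IsOpenImmersion f]

theorem Model.powPt_prodMap {k : ℕ} (e : Fin k → D.idx) (x : Fin k → B) :
    powPt f x ≫ RedSub.prodMap (Red.Ga S) k (fun j => D.u (e j)) = Md.pt ((Md.frame D).prodPt e x) := by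
  induction k with
  | zero =>
    show toUnit _ ≫ (1 : RedSub.pow (Red.Ga S) 0 ⟶ G) = _
    exact (MonObj.comp_one _).trans ((congrArg Md.pt (by simp [Frame.prodPt])).trans Md.pt_one).symm
  | succ k ih =>
    show lift _ _ ≫ (_ * _) = _
    rw [MonObj.comp_mul, lift_fst_assoc, lift_snd_assoc, ih]
    rw [Frame.prodPt, Frame.prodPt, List.ofFn_succ, List.prod_cons, Md.pt_mul]
    congr 1
    exact (Md.pt_rt D _ _).symm

theorem Model.cellPt_cellMap {n m : ℕ} (eneg : Fin n → D.idx) (epos : Fin m → D.idx) (y : Fin n → B)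
    (χ : Multiplicative D.M →* B) (x : Fin m → B) :
    cellPt f D y χ x ≫ RedSub.cellMap D eneg epos =
      Md.pt ((Md.frame D).prodPt eneg y * (Md.frame D).T.tor χ * (Md.frame D).prodPt epos x) := by
  rw [RedSub.cellMap, MonObj.comp_mul, MonObj.comp_mul, cellPt, lift_fst_assoc, lift_snd_assoc, lift_fst_assoc,
    lift_snd_assoc, lift_snd_assoc, Md.powPt_prodMap, Md.powPt_prodMap, Md.pt_mul, Md.pt_mul, mul_assoc, Md.pt_tor,
    torG, Category.assoc]

/-- The big cell map over an affine open of the base is the algebraic one. -/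
theorem Model.isPullback_cellMap {n m : ℕ} (eneg : Fin n → D.idx) (epos : Fin m → D.idx) :
    ∃ c : Spec (CommRingCat.of (SplitRing R D.M n m)) ⟶ (cellObj D n m).left,
      IsPullback ((Md.frame D).splitMor eneg epos) c Md.toG (RedSub.cellMap D eneg epos).left := by
  have := isAffine_bc_cellObj (f := f) D n m
  let x₀ : tObj f (SplitRing R D.M n m) ⟶ cellObj D n m :=
    cellPt f D (coordY (AlgHom.id R (SplitRing R D.M n m))) (coordT (AlgHom.id R _)) (coordX (AlgHom.id R _))
  have hx₀ : ∀ {B : Type u} [CommRing B] [Algebra R B] (φ : SplitRing R D.M n m →ₐ[R] B),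
      tMap f φ ≫ x₀ = cellPt f D (coordY φ) (coordT φ) (coordX φ) := fun φ => by
    rw [cellPt_map]
    congr 1
  obtain ⟨c, hc, hciso⟩ := isIso_of_points f x₀ fun B _ _ => by
    refine ⟨fun φ ψ h => ?_, fun p => ?_⟩
    · simp only [hx₀] at h
      obtain ⟨q, -, hq⟩ := cellPt_bijective D (cellPt f D (coordY φ) (coordT φ) (coordX φ))
      have h1 := hq (coordY φ, coordT φ, coordX φ) rfl
      have h2 := hq (coordY ψ, coordT ψ, coordX ψ) h.symm
      have h3 := h1.trans h2.symm
      exact spl_hom_ext (congrArg (·.1) h3) (congrArg (·.2.1) h3) (congrArg (·.2.2) h3)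
    · obtain ⟨⟨y, χ, x⟩, hq, -⟩ := cellPt_bijective D p
      exact ⟨splLift y χ x, by simp only [hx₀, splLift_Y, splLift_T, splLift_X]; exact hq⟩
  have hk : c ≫ (Over.pullback f).map (RedSub.cellMap D eneg epos) =
      spMap ((Md.frame D).splitHom eneg epos) ≫ Md.hom := by
    apply (theta_bijective f).injective
    rw [theta_map, hc]
    exact Md.cellPt_cellMap D eneg epos _ _ _
  have : IsIso c.left := inferInstanceAs (IsIso ((Over.forget _).map c))
  refine ⟨c.left ≫ pullback.fst _ _, ?_⟩
  refine IsPullback.of_iso (isPullback_map f (RedSub.cellMap D eneg epos)) (asIso c.left).symm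
    (asIso Md.hom.left).symm (Iso.refl _) (Iso.refl _) ?_ ?_ ?_ (by simp)
  · simp only [Iso.symm_hom, asIso_inv]
    have hk' : c.left ≫ ((Over.pullback f).map (RedSub.cellMap D eneg epos)).left =
        (Md.frame D).splitMor eneg epos ≫ Md.hom.left := congrArg CommaMorphism.left hk
    refine (IsIso.eq_inv_comp (α := c.left)).mpr ?_
    exact (Category.assoc _ _ _).symm.trans ((IsIso.comp_inv_eq (α := Md.hom.left)).mpr hk')
  · simp only [Iso.symm_hom, asIso_inv, Iso.refl_hom, Category.comp_id]
    exact (IsIso.inv_hom_id_assoc (f := c.left) (pullback.fst (cellObj D n m).hom f)).symm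
  · simp only [Iso.symm_hom, asIso_inv, Iso.refl_hom, Category.comp_id]
    exact (IsIso.inv_hom_id_assoc (f := Md.hom.left) (pullback.fst G.hom f)).symm

variable {lam : D.M →+ ℤ}

omit [IsOpenImmersion f] in
theorem range_comp_subset {X Y Z : Scheme.{u}} (a : X ⟶ Y) (b : Y ⟶ Z) : Set.range (a ≫ b).base ⊆ Set.range b.base := by
  rintro _ ⟨x, rfl⟩; exact ⟨a.base x, (Scheme.Hom.comp_apply a b x).symm⟩

theorem Model.range_splitMor_subset {n m n' m' : ℕ} {eneg : Fin n → D.idx} {epos : Fin m → D.idx}
    {eneg' : Fin n' → D.idx} {epos' : Fin m' → D.idx} (h : (Md.frame D).IsSignEnum lam eneg epos)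
    (h' : (Md.frame D).IsSignEnum lam eneg' epos') :
    Set.range ((Md.frame D).splitMor eneg' epos').base ⊆ Set.range ((Md.frame D).splitMor eneg epos).base := by
  set F := Md.frame D
  obtain ⟨y, hy, -⟩ := F.exists_coords_neg h (F.neg_inU h' (coordY (AlgHom.id R (SplitRing R D.M n' m'))))
  obtain ⟨x, hx, -⟩ := F.exists_coords h.pos h.pos_inj h.pos_range
    (F.prodPt_inU lam _ h'.pos (coordX (AlgHom.id R (SplitRing R D.M n' m'))))
  have e : (splLift (R := R) y (coordT (AlgHom.id R (SplitRing R D.M n' m'))) x).comp (F.splitHom eneg epos) =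
      F.splitHom eneg' epos' := by
    refine congrArg WithConv.ofConv (?_ : mapPt (splLift (R := R) y (coordT (AlgHom.id R (SplitRing R D.M n' m'))) x)
      (toConv (F.splitHom eneg epos)) = toConv (F.splitHom eneg' epos'))
    rw [F.mapPt_splitHom, splLift_Y, splLift_T, splLift_X, hy, hx]
    rfl
  have e2 : F.splitMor eneg' epos' =
      Spec.map (CommRingCat.ofHom (splLift (R := R) y (coordT (AlgHom.id R (SplitRing R D.M n' m'))) x).toRingHom) ≫
        F.splitMor eneg epos := by
    rw [Frame.splitMor, Frame.splitMor, ← Spec.map_comp, ← e]; rfl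
  rw [e2]
  exact range_comp_subset _ _

end Groth.Agent.BigCell29
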