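import Groth.Agent.BigCell29.Frame
import Groth.Agent.GrpSchLib.SmoothRegular
import Mathlib.RingTheory.Smooth.StandardSmoothOfFree
import Mathlib.RingTheory.Nakayama
import Mathlib.LinearAlgebra.TensorProduct.Tower
import Mathlib.LinearAlgebra.FreeModule.Finite.Basic

/-!
# The torus and the root groups span the tangent space, by counting dimensions
-/

set_option autoImplicit false

universe u

open TensorProduct

namespace Groth.Agent.BigCell29

/-- At a rational point of a smooth algebra of dimension at most `N`, `N` functions span the cotangent space. -/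
theorem exists_few_generators {k : Type u} [Field k] {X : Type u} [CommRing X] [Algebra k X] [Algebra.Smooth k X]
    (e : X →ₐ[k] k) {N : ℕ} (hdim : ringKrullDim X ≤ N) :
    ∃ x : Finset X, x.card ≤ N ∧ (∀ y ∈ x, e y = 0) ∧
      ∀ z, e z = 0 → ∃ w ∈ Submodule.span k (x : Set X), z - w ∈ RingHom.ker e.toRingHom ^ 2 := by
  classical
  set J : Ideal X := RingHom.ker e.toRingHom
  have hJm : J.IsMaximal := RingHom.ker_isMaximal_of_surjective _ fun c => ⟨algebraMap k X c, e.commutes c⟩
  obtain ⟨f, hfJ, hstd⟩ := Algebra.IsSmoothAt.exists_notMem_isStandardSmooth k (S := X) J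
  let Xf := Localization.Away f
  have hdisj : Disjoint (Submonoid.powers f : Set X) (J : Set X) :=
    (Ideal.disjoint_powers_iff_notMem_of_isPrime f).mpr hfJ
  let Q : Ideal Xf := J.map (algebraMap X Xf)
  have : Q.IsPrime := IsLocalization.isPrime_of_isPrime_disjoint (.powers f) _ _ hJm.isPrime hdisj
  have hQ : Q.comap (algebraMap X Xf) = J :=
    IsLocalization.under_map_of_isPrime_disjoint (.powers f) Xf hJm.isPrime hdisj
  have : IsRegularLocalRing (Localization.AtPrime Q) := GrpSchLib.regular_of_isStandardSmooth k Xf Q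
  have : IsLocalization.AtPrime (Localization.AtPrime Q) (Q.comap (algebraMap X Xf)) :=
    IsLocalization.isLocalization_isLocalization_atPrime_isLocalization (.powers f) (Localization.AtPrime Q) Q
  simp only [hQ] at this
  let L := Localization.AtPrime J
  have : IsRegularLocalRing L := IsRegularLocalRing.of_ringEquiv
    (IsLocalization.algEquiv J.primeCompl (Localization.AtPrime Q) L).toRingEquiv
  obtain ⟨s, hs1, hs2⟩ := Submodule.FG.exists_span_set_encard_eq_spanFinrank
    (p := IsLocalRing.maximalIdeal L) (IsNoetherian.noetherian _)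
  have hle : ((IsLocalRing.maximalIdeal L).spanFinrank : WithBot ℕ∞) ≤ (N : ℕ) := by
    rw [IsRegularLocalRing.spanFinrank_maximalIdeal, IsLocalization.AtPrime.ringKrullDim_eq_height J L]
    exact le_trans Ideal.height_le_ringKrullDim_of_isPrime hdim
  have hsN : s.encard ≤ N := by
    rw [hs1]; exact_mod_cast hle
  have hfin : s.Finite := Set.finite_of_encard_le_coe hsN
  choose num den hnd using fun a : L => IsLocalization.exists_mk'_eq J.primeCompl a
  refine ⟨hfin.toFinset.image num, ?_, ?_, ?_⟩
  · refine Finset.card_image_le.trans ?_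
    rw [hfin.encard_eq_coe_toFinset_card] at hsN
    exact_mod_cast hsN
  · intro y hy
    obtain ⟨a, ha, rfl⟩ := Finset.mem_image.mp hy
    have hmem : a ∈ IsLocalRing.maximalIdeal L := hs2 ▸ Submodule.subset_span (hfin.mem_toFinset.mp ha)
    rw [← hnd a, IsLocalization.AtPrime.mk'_mem_maximal_iff L J (num a) (den a)] at hmem
    exact hmem
  · intro z hz
    set P : Ideal X := Ideal.span (num '' s)
    have hz' : algebraMap X L z ∈ P.map (algebraMap X L) := by
      have hm : algebraMap X L z ∈ IsLocalRing.maximalIdeal L :=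
        (IsLocalization.AtPrime.to_map_mem_maximal_iff L J z).mpr hz
      rw [← hs2] at hm
      refine Submodule.span_le.mpr ?_ hm
      intro a ha
      rw [← hnd a, IsLocalization.mk'_eq_mul_mk'_one]
      exact Ideal.mul_mem_right _ _ (Ideal.mem_map_of_mem _ (Ideal.subset_span ⟨a, ha, rfl⟩))
    obtain ⟨t, htJ, ht⟩ := (IsLocalization.algebraMap_mem_map_algebraMap_iff J.primeCompl L P z).mp hz'
    have hc : e t ≠ 0 := htJ
    have himg : (num '' s : Set X) = ↑(hfin.toFinset.image num) := by simp
    have hPs : ∀ y ∈ P, ∃ w ∈ Submodule.span k (num '' s), y - w ∈ J ^ 2 := by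
      intro y hy
      induction hy using Submodule.span_induction with
      | mem y hy => exact ⟨y, Submodule.subset_span hy, by simp⟩
      | zero => exact ⟨0, zero_mem _, by simp⟩
      | add y y' _ _ h h' =>
        obtain ⟨w, hw, hw'⟩ := h
        obtain ⟨v, hv, hv'⟩ := h'
        refine ⟨w + v, add_mem hw hv, ?_⟩
        rw [add_sub_add_comm]; exact add_mem hw' hv'
      | smul c y hy h =>
        obtain ⟨w, hw, hw'⟩ := h
        refine ⟨e c • w, Submodule.smul_mem _ _ hw, ?_⟩
        have hyJ : y ∈ J := by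
          refine Submodule.span_le.mpr ?_ hy
          rintro _ ⟨a, ha, rfl⟩
          have hmem : a ∈ IsLocalRing.maximalIdeal L := hs2 ▸ Submodule.subset_span ha
          rw [← hnd a, IsLocalization.AtPrime.mk'_mem_maximal_iff L J (num a) (den a)] at hmem
          exact hmem
        rw [show c • y - e c • w = algebraMap k X (e c) * (y - w) + (c - algebraMap k X (e c)) * y by
          simp only [smul_eq_mul, Algebra.smul_def, Algebra.algebraMap_self, RingHom.id_apply]; ring]
        refine add_mem (Ideal.mul_mem_left _ _ hw') ?_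
        rw [pow_two]
        exact Ideal.mul_mem_mul (show c - algebraMap k X (e c) ∈ J by simp [J, RingHom.mem_ker]) hyJ
    obtain ⟨w, hw, hw'⟩ := hPs _ ht
    refine ⟨(e t)⁻¹ • w, ?_, ?_⟩
    · rw [← himg]; exact Submodule.smul_mem _ _ hw
    rw [show z - (e t)⁻¹ • w = algebraMap k X (e t)⁻¹ * (t * z - w) -
        algebraMap k X (e t)⁻¹ * ((t - algebraMap k X (e t)) * z) by
      have h1 : algebraMap k X (e t)⁻¹ * algebraMap k X (e t) = 1 := by rw [← map_mul, inv_mul_cancel₀ hc, map_one]
      rw [Algebra.smul_def]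
      linear_combination -z * h1]
    refine sub_mem (Ideal.mul_mem_left _ _ hw') (Ideal.mul_mem_left _ _ ?_)
    rw [pow_two]
    exact Ideal.mul_mem_mul (show t - algebraMap k X (e t) ∈ J by simp [J, RingHom.mem_ker]) hz

variable {R : Type u} [CommRing R] {A : Type u} [CommRing A] [HopfAlgebra R A] {M ι : Type} [AddCommGroup M]
  (F : PreFrame R A M ι)

theorem PreFrame.du_mul_eq_zero (i : ι) {a b : A} (ha : Coalgebra.counit (R := R) a = 0)
    (hb : Coalgebra.counit (R := R) b = 0) : F.du i (a * b) = 0 := by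
  have h0 : ∀ a : A, (F.φ i a).coeff 0 = Coalgebra.counit (R := R) a := fun a => by
    have h := DFunLike.congr_fun (congrArg WithConv.ofConv (F.rt_zero (B := R) i)) a
    rw [PreFrame.rt, linePt_apply, ← Polynomial.coeff_zero_eq_aeval_zero] at h
    simpa using h
  rw [du_apply, map_mul, Polynomial.coeff_mul, Finset.Nat.antidiagonal_succ]
  simp [h0, ha, hb]

theorem PreFrame.dT_mul_eq_zero (l : M →+ R) {a b : A} (ha : Coalgebra.counit (R := R) a = 0)
    (hb : Coalgebra.counit (R := R) b = 0) : F.dT l (a * b) = 0 := by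
  have h0 : ∀ a : A, (AddMonoidAlgebra.lift R R M 1) (F.T.π a) = Coalgebra.counit (R := R) a := fun a => by
    have h := DFunLike.congr_fun (congrArg WithConv.ofConv (map_one (F.T.tor (B := R)))) a
    exact h
  let ψ : AddMonoidAlgebra R M →ₗ[R] R :=
  { toFun := fun x => x.coeff.sum fun m r => r * l m
    map_add' := fun x y => by
      rw [AddMonoidAlgebra.coeff_add]
      exact Finsupp.sum_add_index' (fun m => zero_mul _) fun m r s => add_mul _ _ _
    map_smul' := fun r x => by
      rw [AddMonoidAlgebra.coeff_smul, Finsupp.sum_smul_index' (fun m => zero_mul _), RingHom.id_apply,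
        Finsupp.smul_sum]
      exact Finsupp.sum_congr fun m _ => by simp [smul_eq_mul, mul_assoc] }
  have key : ∀ x y : AddMonoidAlgebra R M, ψ (x * y) =
      ψ x * AddMonoidAlgebra.lift R R M 1 y + AddMonoidAlgebra.lift R R M 1 x * ψ y := by
    intro x y
    induction x using AddMonoidAlgebra.induction_linear with
    | zero => simp
    | add x x' hx hx' => simp only [add_mul, map_add, hx, hx']; ring
    | single m r =>
      induction y using AddMonoidAlgebra.induction_linear with
      | zero => simp
      | add y y' hy hy' => simp only [mul_add, map_add, hy, hy']; ring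
      | single n s =>
        simp [ψ, AddMonoidAlgebra.single_mul_single]
        ring
  show ψ (F.T.π (a * b)) = 0
  rw [map_mul, key, h0, h0, ha, hb]
  ring

variable [Fintype ι] [Module.Free ℤ M] [Module.Finite ℤ M]

/-- The linear forms cutting out the tangent space. -/
noncomputable def PreFrame.tanMap : A →ₗ[R] (Fin (Module.finrank ℤ M) ⊕ ι → R) :=
  LinearMap.pi fun q => Sum.elim
    (fun j => F.dT ((Int.castAddHom R).comp ((Module.finBasis ℤ M).coord j).toAddMonoidHom)) (fun i => F.du i) q

theorem PreFrame.tanMap_inl (j : Fin (Module.finrank ℤ M)) (a : A) :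
    F.tanMap a (.inl j) = F.dT ((Int.castAddHom R).comp ((Module.finBasis ℤ M).coord j).toAddMonoidHom) a := rfl

theorem PreFrame.tanMap_inr (i : ι) (a : A) : F.tanMap a (.inr i) = F.du i a := rfl

theorem PreFrame.tanMap_mul {a b : A} (ha : a ∈ aug R A) (hb : b ∈ aug R A) : F.tanMap (a * b) = 0 := by
  funext q
  rcases q with j | i
  · exact F.dT_mul_eq_zero _ ha hb
  · exact F.du_mul_eq_zero i ha hb

theorem PreFrame.exists_tanMap_single [DecidableEq ι] (hne : ∀ i, F.root i ≠ 0)
    (q : Fin (Module.finrank ℤ M) ⊕ ι) : ∃ b ∈ aug R A, F.tanMap b = Pi.single q 1 := by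
  classical
  rcases q with j | i
  · set e := Module.finBasis ℤ M with he
    obtain ⟨a, ha⟩ := F.π_surj (AddMonoidAlgebra.single (e j) 1 - 1)
    have h0 : Coalgebra.counit (R := R) a = 0 := by
      have h := DFunLike.congr_fun (congrArg WithConv.ofConv (map_one (F.T.tor (B := R)))) a
      rw [show (F.T.tor (B := R) 1) a = AddMonoidAlgebra.lift R R M 1 (F.T.π a) from rfl, ha] at h
      simpa using h.symm
    refine ⟨F.T.coact.p 0 a, by rw [mem_aug, Coact.counit_p, if_pos rfl, h0], funext fun q => ?_⟩
    have hdT : ∀ l : M →+ R, F.dT l (F.T.coact.p 0 a) = l (e j) := by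
      intro l
      have h1 : F.dT l a = l (e j) := by
        show (F.T.π a).coeff.sum (fun m r => r * l m) = _
        rw [ha, AddMonoidAlgebra.one_def, sub_eq_add_neg, AddMonoidAlgebra.coeff_add,
          Finsupp.sum_add_index' (fun m => zero_mul _) (fun m r s => add_mul _ _ _)]
        simp [Finsupp.sum_neg_index]
      rw [← h1]
      conv_rhs => rw [← F.T.coact.sum_p a, map_sum]
      refine (Finset.sum_eq_single (0 : M) (fun m _ hm => F.dT_p_ne hm l a) fun hm => ?_).symm
      rw [Coact.p_eq_zero_of_notMem _ hm, map_zero]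
    rcases q with j' | i
    · rw [tanMap_inl, hdT, ← he]
      simp [Pi.single_apply, Finsupp.single_apply, eq_comm]
    · rw [tanMap_inr, F.du_p_ne (hne i)]
      simp
  · obtain ⟨a, ha⟩ := F.φ_surj i Polynomial.X
    refine ⟨F.T.coact.p (F.root i) a, by rw [mem_aug, Coact.counit_p, if_neg (hne i)], funext fun q => ?_⟩
    rcases q with j | i'
    · rw [tanMap_inl, F.dT_p_ne (hne i)]
      simp
    · rw [tanMap_inr]
      by_cases h : i' = i
      · subst h; rw [F.du_p_self, du_apply, ha]; simp
      · rw [F.du_p_ne fun h' => h (F.root_inj h')]; simp [h]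

open Classical in
/-- The torus and the root groups span the tangent space if the fibres have the expected dimension. -/
theorem PreFrame.cot_of_dim [Algebra.FinitePresentation R A] [Algebra.FormallySmooth R A] (hne : ∀ i, F.root i ≠ 0)
    (hdim : ∀ p : Ideal R, p.IsMaximal → ∃ (k : Type u) (_ : Field k) (_ : Algebra R k),
      RingHom.ker (algebraMap R k) = p ∧ ringKrullDim (k ⊗[R] A) ≤ (Module.finrank ℤ M + Fintype.card ι : ℕ))
    (a : A) (h0 : Coalgebra.counit (R := R) a = 0) (hT : ∀ l, F.dT l a = 0) (hu : ∀ i, F.du i a = 0) :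
    a ∈ aug R A ^ 2 := by
  have hΨa : F.tanMap a = 0 := by
    funext q; rcases q with j | i
    · exact hT _
    · exact hu i
  choose b hb hΨb using F.exists_tanMap_single hne
  let W : Submodule R A := Submodule.span R (Set.range b) ⊔ (aug R A ^ 2).restrictScalars R
  let I : Submodule R A := (aug R A).restrictScalars R
  suffices hQ : I ≤ W by
    obtain ⟨y, hy, q, hq, hyq⟩ := Submodule.mem_sup.mp (hQ (show a ∈ I from h0))
    have hqz : F.tanMap q = 0 := by
      have hq' : q ∈ aug R A * aug R A := by rw [← pow_two]; exact hq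
      clear hyq hq
      induction hq' using Submodule.mul_induction_on' with
      | mem_mul_mem x hx z hz => exact F.tanMap_mul hx hz
      | add x _ z _ hx hz => rw [map_add, hx, hz, add_zero]
    obtain ⟨c, rfl⟩ := (Submodule.mem_span_range_iff_exists_fun R).mp hy
    have : ∑ i, c i • b i = 0 := by
      have h := hΨa
      rw [← hyq, map_add, hqz, add_zero, map_sum] at h
      refine Finset.sum_eq_zero fun i _ => ?_
      have hi := congrFun h i
      simp only [map_smul, hΨb, Finset.sum_apply, Pi.smul_apply, Pi.single_apply, smul_eq_mul, mul_ite,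
        mul_one, mul_zero, Finset.sum_ite_eq, Finset.mem_univ, if_true, Pi.zero_apply] at hi
      rw [hi, zero_smul]
    rw [← hyq, this, zero_add]
    exact hq
  by_contra hnle
  let εl : A →ₗ[R] A := LinearMap.id -
    (Algebra.linearMap R A).comp (Bialgebra.counitAlgHom R A).toLinearMap
  have hεl : ∀ x : A, εl x ∈ aug R A := fun x => by simp [εl, mem_aug]
  have hεl' : ∀ x ∈ aug R A, εl x = x := fun x hx => by
    rw [mem_aug] at hx
    simp [εl, hx]
  obtain ⟨s, hs⟩ := Algebra.FiniteType.out (R := R) (A := A)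
  let Q := A ⧸ (W ⊔ Submodule.span R {(1 : A)})
  let qt : A →ₗ[R] Q := Submodule.mkQ _
  have hqε : ∀ x, qt (εl x) = qt x := fun x => by
    rw [Submodule.mkQ_apply, Submodule.mkQ_apply, Submodule.Quotient.eq]
    refine Submodule.mem_sup_right (Submodule.mem_span_singleton.mpr ⟨-Coalgebra.counit (R := R) x, ?_⟩)
    simp [εl, Algebra.smul_def]
  have hQfin : Module.Finite R Q := by
    have hgen : ∀ x : A, qt x ∈ Submodule.span R (qt '' (↑s : Set A)) := by
      intro x
      have hx : x ∈ Algebra.adjoin R (s : Set A) := hs ▸ Algebra.mem_top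
      induction hx using Algebra.adjoin_induction with
      | mem x hx => exact Submodule.subset_span ⟨x, hx, rfl⟩
      | algebraMap r =>
        have : qt (algebraMap R A r) = 0 := by
          rw [Submodule.mkQ_apply, Submodule.Quotient.mk_eq_zero]
          exact Submodule.mem_sup_right (Submodule.mem_span_singleton.mpr ⟨r, by simp [Algebra.smul_def]⟩)
        rw [this]; exact zero_mem _
      | add x y _ _ hx hy => rw [map_add]; exact add_mem hx hy
      | mul x y _ _ hx hy =>
        have h2 : qt (εl x * εl y) = 0 := by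
          rw [Submodule.mkQ_apply, Submodule.Quotient.mk_eq_zero]
          refine Submodule.mem_sup_left (Submodule.mem_sup_right ?_)
          show εl x * εl y ∈ aug R A ^ 2
          rw [pow_two]; exact Ideal.mul_mem_mul (hεl x) (hεl y)
        have e : x * y = εl x * εl y + Coalgebra.counit (R := R) x • εl y +
            Coalgebra.counit (R := R) y • εl x +
            (Coalgebra.counit (R := R) x * Coalgebra.counit (R := R) y) • (1 : A) := by
          simp [εl, Algebra.smul_def, map_mul]; ring
        have h3 : qt (1 : A) = 0 := by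
          rw [Submodule.mkQ_apply, Submodule.Quotient.mk_eq_zero]
          exact Submodule.mem_sup_right (Submodule.mem_span_singleton_self _)
        rw [e, map_add, map_add, map_add, map_smul, map_smul, map_smul, h2, h3, hqε, hqε]
        simp only [smul_zero, zero_add, add_zero]
        exact add_mem (Submodule.smul_mem _ _ hy) (Submodule.smul_mem _ _ hx)
    refine ⟨⟨(s.image qt), ?_⟩⟩
    rw [eq_top_iff]
    rintro x -
    obtain ⟨y, rfl⟩ := Submodule.mkQ_surjective _ x
    rw [Finset.coe_image]
    exact hgen y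
  obtain ⟨z, hzI, hzW⟩ := SetLike.not_le_iff_exists.mp hnle
  have hzQ : qt z ≠ 0 := by
    intro h
    rw [Submodule.mkQ_apply, Submodule.Quotient.mk_eq_zero] at h
    obtain ⟨y, hy, q, hq, hyq⟩ := Submodule.mem_sup.mp h
    obtain ⟨c, rfl⟩ := Submodule.mem_span_singleton.mp hq
    have hyI : y ∈ aug R A := by
      refine (show W ≤ I from sup_le (Submodule.span_le.mpr ?_) ?_) hy
      · rintro _ ⟨i, rfl⟩; exact hb i
      · intro x hx; exact Ideal.pow_le_self two_ne_zero hx
    have hc : c = 0 := by
      have hz0 : Coalgebra.counit (R := R) z = 0 := hzI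
      rw [mem_aug] at hyI
      rw [← hyq, map_add, hyI, map_smul] at hz0
      simpa using hz0
    rw [← hyq, hc, zero_smul, add_zero] at hzW
    exact hzW hy
  have : Nontrivial Q := ⟨⟨qt z, 0, hzQ⟩⟩
  obtain ⟨p, hp, hpne⟩ : ∃ p : Ideal R, p.IsMaximal ∧ p • (⊤ : Submodule R Q) ≠ ⊤ := by
    obtain ⟨p, hp, hle⟩ := Ideal.exists_le_maximal (Module.annihilator R Q) fun h => by
      rw [Module.annihilator_eq_top_iff] at h
      exact not_subsingleton Q h
    refine ⟨p, hp, fun h => ?_⟩
    obtain ⟨r, hr1, hr⟩ := Submodule.exists_sub_one_mem_and_smul_eq_zero_of_fg_of_le_smul p ⊤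
      Module.Finite.fg_top h.ge
    have : r ∈ p := hle (Module.mem_annihilator.mpr fun x => hr x Submodule.mem_top)
    exact hp.ne_top (p.eq_top_iff_one.mpr (by simpa using sub_mem this hr1))
  obtain ⟨k, _, _, hker, hdimk⟩ := hdim p hp
  let : Field (R ⧸ p) := Ideal.Quotient.field p
  obtain ⟨ℓ, hℓ⟩ : ∃ ℓ : Q →ₗ[R] k, ℓ ≠ 0 := by
    let V := Q ⧸ (p • (⊤ : Submodule R Q))
    have : Nontrivial V := Submodule.Quotient.nontrivial_iff.mpr hpne
    obtain ⟨v, hv⟩ := exists_ne (0 : V)
    obtain ⟨g, hg⟩ : ∃ g : V →ₗ[R ⧸ p] R ⧸ p, g v ≠ 0 :=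
      (not_forall.mp fun h => hv ((Module.forall_dual_apply_eq_zero_iff (R ⧸ p) v).mp h))
    let lka : (R ⧸ p) →ₐ[R] k :=
      Ideal.Quotient.liftₐ p (Algebra.ofId R k) fun r hr => by rwa [← hker, RingHom.mem_ker] at hr
    let lk : (R ⧸ p) →ₗ[R] k := lka.toLinearMap
    refine ⟨lk.comp ((g.restrictScalars R).comp (Submodule.mkQ _)), fun h => hg ?_⟩
    obtain ⟨x, rfl⟩ := Submodule.mkQ_surjective _ v
    refine ((injective_iff_map_eq_zero lka.toRingHom).mp lka.toRingHom.injective) _ ?_
    exact LinearMap.congr_fun h x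
  let X := k ⊗[R] A
  let e : X →ₐ[k] k := Algebra.TensorProduct.lift (AlgHom.id k k)
    ((Algebra.ofId R k).comp (Bialgebra.counitAlgHom R A)) fun _ _ => .all ..
  set J : Ideal X := RingHom.ker e.toRingHom
  let Φ : X →ₗ[k] k := (ℓ.comp qt).liftBaseChange k
  let Ψ0 : A →ₗ[R] (Fin (Module.finrank ℤ M) ⊕ ι → k) :=
    LinearMap.pi fun q => (Algebra.linearMap R k).comp ((LinearMap.proj q).comp F.tanMap)
  let Ψ : X →ₗ[k] (Fin (Module.finrank ℤ M) ⊕ ι → k) := Ψ0.liftBaseChange k
  have hspan : ∀ z, e z = 0 → z ∈ Submodule.span k (Set.range fun x : aug R A => (1 : k) ⊗ₜ[R] (x : A)) := by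
    intro z hz
    have key : ∀ z : X, z - e z • (1 : X) ∈
        Submodule.span k (Set.range fun x : aug R A => (1 : k) ⊗ₜ[R] (x : A)) := by
      intro z
      induction z using TensorProduct.induction_on with
      | zero => simp
      | add x y hx hy => rw [map_add, add_smul, add_sub_add_comm]; exact add_mem hx hy
      | tmul c x =>
        have : (c ⊗ₜ[R] x : X) - e (c ⊗ₜ x) • (1 : X) = c • ((1 : k) ⊗ₜ[R] εl x) := by
          have h1 : e (c ⊗ₜ[R] x) = c * algebraMap R k (Coalgebra.counit (R := R) x) :=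
            Algebra.TensorProduct.lift_tmul _ _ _ _ _
          have h2 : εl x = x - Coalgebra.counit (R := R) x • (1 : A) := by simp [εl, Algebra.smul_def]
          rw [h1, h2, TensorProduct.tmul_sub, TensorProduct.tmul_smul, TensorProduct.smul_tmul',
            smul_sub, TensorProduct.smul_tmul', TensorProduct.smul_tmul']
          refine congr_arg₂ (· - ·) (by simp) ?_
          show _ • ((1 : k) ⊗ₜ[R] (1 : A)) = _
          rw [TensorProduct.smul_tmul']
          simp [Algebra.smul_def]
        rw [this]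
        exact Submodule.smul_mem _ _ (Submodule.subset_span ⟨⟨εl x, hεl x⟩, rfl⟩)
    simpa [hz] using key z
  have hsq : ∀ (L : X →ₗ[k] k),
      (∀ x y : aug R A, L ((1 : k) ⊗ₜ[R] ((x : A) * y)) = 0) → ∀ z ∈ J ^ 2, L z = 0 := by
    intro L hL z hz
    rw [pow_two] at hz
    induction hz using Submodule.mul_induction_on' with
    | mem_mul_mem x hx y hy =>
      have h2 : ∀ x' ∈ Submodule.span k (Set.range fun x : aug R A => (1 : k) ⊗ₜ[R] (x : A)),
          ∀ y' ∈ Submodule.span k (Set.range fun x : aug R A => (1 : k) ⊗ₜ[R] (x : A)), L (x' * y') = 0 := by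
        intro x' hx' y' hy'
        induction hx' using Submodule.span_induction with
        | mem x' hx' =>
          obtain ⟨x₀, rfl⟩ := hx'
          induction hy' using Submodule.span_induction with
          | mem y' hy' =>
            obtain ⟨y₀, rfl⟩ := hy'
            rw [Algebra.TensorProduct.tmul_mul_tmul, one_mul]; exact hL x₀ y₀
          | zero => simp
          | add a b _ _ ha hb => rw [mul_add, map_add, ha, hb, add_zero]
          | smul c a _ ha => rw [mul_smul_comm, map_smul, ha, smul_zero]
        | zero => simp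
        | add a b _ _ ha hb => rw [add_mul, map_add, ha, hb, add_zero]
        | smul c a _ ha => rw [smul_mul_assoc, map_smul, ha, smul_zero]
      exact h2 x (hspan x hx) y (hspan y hy)
    | add x _ y _ hx hy => rw [map_add, hx, hy, add_zero]
  have hΦW : ∀ w ∈ W, Φ ((1 : k) ⊗ₜ[R] w) = 0 := fun w hw => by
    have : qt w = 0 := by
      rw [Submodule.mkQ_apply, Submodule.Quotient.mk_eq_zero]; exact Submodule.mem_sup_left hw
    show LinearMap.liftBaseChange k (ℓ.comp qt) ((1 : k) ⊗ₜ[R] w) = 0
    rw [LinearMap.liftBaseChange_tmul, LinearMap.comp_apply, this, map_zero, smul_zero]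
  have hΦJ2 : ∀ z ∈ J ^ 2, Φ z = 0 := hsq Φ fun x y => hΦW _ (Submodule.mem_sup_right (by
    show _ ∈ aug R A ^ 2
    rw [pow_two]; exact Ideal.mul_mem_mul x.2 y.2))
  have hΨJ2 : ∀ z ∈ J ^ 2, Ψ z = 0 := fun z hz => funext fun q =>
    hsq ((LinearMap.proj q).comp Ψ) (fun x y => by
      show LinearMap.liftBaseChange k Ψ0 ((1 : k) ⊗ₜ[R] ((x : A) * y)) q = 0
      rw [LinearMap.liftBaseChange_tmul]
      simp [Ψ0, F.tanMap_mul x.2 y.2]) z hz
  have : Algebra.Smooth R A := ⟨inferInstance, inferInstance⟩
  have : Algebra.Smooth k X := inferInstanceAs (Algebra.Smooth k (k ⊗[R] A))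
  obtain ⟨x, hcard, hx0, hxgen⟩ := exists_few_generators e (N := Module.finrank ℤ M + Fintype.card ι) hdimk
  let V : Submodule k X := Submodule.span k (x : Set X)
  let β := fun q => (1 : k) ⊗ₜ[R] b q
  have he : ∀ y ∈ aug R A, e ((1 : k) ⊗ₜ[R] y) = 0 := fun y hy => by
    rw [mem_aug] at hy; refine (Algebra.TensorProduct.lift_tmul _ _ _ _ _).trans ?_; simp [hy]
  choose w hwV hwJ using fun q => hxgen (β q) (he _ (hb q))
  have hΨw : ∀ q, Ψ (w q) = Pi.single q 1 := fun q => by
    have h := hΨJ2 _ (hwJ q)
    rw [map_sub, sub_eq_zero] at h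
    rw [← h]
    funext q'
    show LinearMap.liftBaseChange k Ψ0 ((1 : k) ⊗ₜ[R] b q) q' = _
    rw [LinearMap.liftBaseChange_tmul]
    simp [Ψ0, hΨb, Pi.single_apply, apply_ite (algebraMap R k)]
  have hli : LinearIndependent k fun q => (⟨w q, hwV q⟩ : V) := by
    refine LinearIndependent.of_comp (Ψ.comp V.subtype) ?_
    rw [show (Ψ.comp V.subtype) ∘ (fun q => (⟨w q, hwV q⟩ : V)) = fun q => Pi.single q (1 : k) from funext hΨw]
    exact Pi.linearIndependent_single_one _ k
  have hrank : Module.finrank k V ≤ Fintype.card (Fin (Module.finrank ℤ M) ⊕ ι) := by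
    rw [Fintype.card_sum, Fintype.card_fin]
    exact (finrank_span_finset_le_card x).trans hcard
  have hbasis := hli.span_eq_top_of_card_eq_finrank' (le_antisymm hli.fintype_card_le_finrank hrank)
  have hΦV : ∀ v : V, Φ v = 0 := by
    intro v
    have hv : v ∈ Submodule.span k (Set.range fun q => (⟨w q, hwV q⟩ : V)) := hbasis ▸ Submodule.mem_top
    induction hv using Submodule.span_induction with
    | mem y hy =>
      obtain ⟨q, rfl⟩ := hy
      have h := hΦJ2 _ (hwJ q)
      rw [map_sub, sub_eq_zero] at h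
      rw [← h]
      exact hΦW _ (Submodule.mem_sup_left (Submodule.subset_span ⟨q, rfl⟩))
    | zero => simp
    | add a b _ _ ha hb => rw [Submodule.coe_add, map_add, ha, hb, add_zero]
    | smul c a _ ha => rw [Submodule.coe_smul, map_smul, ha, smul_zero]
  refine hℓ (LinearMap.ext fun t => ?_)
  obtain ⟨t, rfl⟩ := Submodule.mkQ_surjective _ t
  show ℓ (qt t) = 0
  obtain ⟨v, hv, hvJ⟩ := hxgen ((1 : k) ⊗ₜ[R] εl t) (he _ (hεl t))
  have h := hΦJ2 _ hvJ
  rw [map_sub, hΦV ⟨v, hv⟩, sub_zero] at h
  have h' : LinearMap.liftBaseChange k (ℓ.comp qt) ((1 : k) ⊗ₜ[R] εl t) = 0 := h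
  rw [LinearMap.liftBaseChange_tmul, LinearMap.comp_apply, hqε, one_smul] at h'
  exact h'

end Groth.Agent.BigCell29
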