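import Groth.Agent.BigCell29.Torus
import Mathlib.RingTheory.Ideal.Maximal

/-!
# An injective homomorphism from a split torus is a closed immersion
-/

set_option autoImplicit false

universe u

open TensorProduct WithConv Finsupp
open scoped AddMonoidAlgebra

namespace Groth.Agent.BigCell29

variable {R : Type u} [CommRing R] {A : Type u} [CommRing A] [HopfAlgebra R A] {M : Type} [AddCommGroup M]
  (T : SplitTorus R A M)

theorem torPt_univ (a : A) : torPt T.π (univChar R M) a = T.π a := by
  show AddMonoidAlgebra.lift R R[M] M (univChar R M) (T.π a) = T.π a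
  have e : AddMonoidAlgebra.lift R R[M] M (univChar R M) = AlgHom.id R R[M] := by
    refine AlgHom.ext fun x => ?_
    induction x using AddMonoidAlgebra.induction_linear with
    | zero => simp
    | add x y hx hy => simp [hx, hy]
    | single m r => simp [AddMonoidAlgebra.smul_single]
  rw [e]; rfl

/-- The ideal of scalars `r` with `r eₘ` in the image of the torus comorphism. -/
def SplitTorus.coefIdeal (m : M) : Ideal R where
  carrier := {r | AddMonoidAlgebra.single m r ∈ T.π.range}
  add_mem' {a b} ha hb := by
    show AddMonoidAlgebra.single m (a + b) ∈ T.π.range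
    rw [AddMonoidAlgebra.single_add]; exact add_mem ha hb
  zero_mem' := by
    show AddMonoidAlgebra.single m (0 : R) ∈ T.π.range
    rw [AddMonoidAlgebra.single_zero]; exact zero_mem _
  smul_mem' c x hx := by
    show AddMonoidAlgebra.single m (c • x) ∈ T.π.range
    rw [← AddMonoidAlgebra.smul_single]; exact Subalgebra.smul_mem _ hx c

theorem SplitTorus.coeff_mem_coefIdeal (m : M) (a : A) : (T.π a).coeff m ∈ T.coefIdeal m := by
  classical
  show AddMonoidAlgebra.single m ((T.π a).coeff m) ∈ T.π.range
  let χ : Multiplicative M →* R[M][M] := univChar R[M] M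
  let χ' : Multiplicative M →* R[M][M] :=
    (AddMonoidAlgebra.singleZeroAlgHom (R := R) (A := R[M]) (M := M)).toRingHom.toMonoidHom.comp (univChar R M)
  let 𝓡 := Coalgebra.Repr.arbitrary R a
  have h := DFunLike.congr_fun (congrArg WithConv.ofConv (T.tor_mul R[M][M] χ χ')) a
  rw [AlgHom.convMul_apply, ← 𝓡.eq, map_sum] at h
  have h' : AddMonoidAlgebra.lift R R[M][M] M (χ * χ') (T.π a) =
      ∑ x ∈ 𝓡.index, AddMonoidAlgebra.lift R R[M][M] M χ (T.π (𝓡.left x)) *
        AddMonoidAlgebra.lift R R[M][M] M χ' (T.π (𝓡.right x)) :=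
    h.trans (Finset.sum_congr rfl fun x _ => Algebra.TensorProduct.lift_tmul _ _ _ _ _)
  have hlin : ∀ x : R[M], (AddMonoidAlgebra.lift R R[M][M] M (χ * χ') x).coeff m =
      AddMonoidAlgebra.single m (x.coeff m) := by
    intro x
    induction x using AddMonoidAlgebra.induction_linear with
    | zero => simp
    | add x y hx hy => simp [hx, hy, AddMonoidAlgebra.single_add]
    | single n r =>
      by_cases hn : n = m
      · subst hn
        simp [χ, χ', AddMonoidAlgebra.single_mul_single, AddMonoidAlgebra.smul_single]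
      · simp [χ, χ', AddMonoidAlgebra.single_mul_single, AddMonoidAlgebra.smul_single, Finsupp.single_eq_of_ne' hn]
  have h1 : ∀ b : A, (AddMonoidAlgebra.lift R R[M][M] M χ (T.π b)) =
      AddMonoidAlgebra.mapAlgHom M (Algebra.ofId R R[M]) (T.π b) := by
    intro b
    induction T.π b using AddMonoidAlgebra.induction_linear with
    | zero => simp
    | add x y hx hy => simp [hx, hy]
    | single n r => simp [χ, AddMonoidAlgebra.smul_single, Algebra.smul_def]
  have h2 : ∀ b : A, AddMonoidAlgebra.lift R R[M][M] M χ' (T.π b) = AddMonoidAlgebra.single 0 (T.π b) := by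
    intro b
    induction T.π b using AddMonoidAlgebra.induction_linear with
    | zero => simp
    | add x y hx hy => simp [hx, hy, AddMonoidAlgebra.single_add]
    | single n r => simp [χ', AddMonoidAlgebra.smul_single]
  rw [← hlin (T.π a), h', AddMonoidAlgebra.coeff_sum, Finsupp.finsetSum_apply]
  refine sum_mem fun x _ => ?_
  rw [h1, h2, AddMonoidAlgebra.coeff_mul_single_zero, AddMonoidAlgebra.coeff_mapAlgHom]
  exact mul_mem (Subalgebra.algebraMap_mem _ _) ⟨_, rfl⟩

theorem SplitTorus.π_antipode_coeff (m : M) (a : A) :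
    (T.π (HopfAlgebra.antipode R a)).coeff (-m) = (T.π a).coeff m := by
  let χn : Multiplicative M →* R[M] := (univChar R M).comp (zpowGroupHom (-1))
  have e1 : χn * univChar R M = 1 := by
    refine MonoidHom.ext fun n => ?_
    simp [χn, AddMonoidAlgebra.single_mul_single, AddMonoidAlgebra.one_def]
  have e2 : T.tor (univChar R M) = (T.tor χn)⁻¹ :=
    eq_inv_of_mul_eq_one_right (by rw [← map_mul, e1, map_one])
  have h := DFunLike.congr_fun (congrArg WithConv.ofConv e2) a
  rw [inv_apply] at h
  rw [← torPt_univ T a]
  refine Eq.trans ?_ (congrArg (fun x : R[M] => x.coeff m) h).symm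
  show _ = (AddMonoidAlgebra.lift R R[M] M _ (T.π (HopfAlgebra.antipode R a))).coeff m
  generalize T.π (HopfAlgebra.antipode R a) = x
  induction x using AddMonoidAlgebra.induction_linear with
  | zero => simp
  | add x y hx hy => simp [hx, hy]
  | single n r =>
    classical
    simp [χn, Finsupp.single_apply, neg_eq_iff_eq_neg]

/-- An injective torus is a closed subgroup. -/
theorem SplitTorus.surjective_of_injective
    (hinj : ∀ (B : Type u) [CommRing B] [Algebra R B], Function.Injective (T.tor (B := B))) :
    Function.Surjective T.π := by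
  classical
  suffices key : ∀ m, T.coefIdeal m = ⊤ by
    intro x
    suffices x ∈ T.π.range from this
    induction x using AddMonoidAlgebra.induction_linear with
    | zero => exact zero_mem _
    | add x y hx hy => exact add_mem hx hy
    | single m r => exact (key m ▸ Submodule.mem_top : r ∈ T.coefIdeal m)
  intro m₀
  by_contra hm
  obtain ⟨q, hq, hle⟩ := Ideal.exists_le_maximal _ hm
  have hqp : q.IsPrime := hq.isPrime
  let Sg : AddSubgroup M :=
  { carrier := {m | ¬ T.coefIdeal m ≤ q}
    zero_mem' := fun h => hq.ne_top (q.eq_top_iff_one.mpr (h (show AddMonoidAlgebra.single (0 : M) (1 : R) ∈ T.π.range from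
      one_mem T.π.range)))
    add_mem' := fun {x y} hx hy hle' => by
      obtain ⟨r, hr, hrq⟩ := Set.not_subset.mp hx
      obtain ⟨r', hr', hrq'⟩ := Set.not_subset.mp hy
      refine (hqp.mem_or_mem (hle' (show AddMonoidAlgebra.single (x + y) (r * r') ∈ T.π.range from ?_))).elim hrq hrq'
      rw [← AddMonoidAlgebra.single_mul_single]
      exact mul_mem hr hr'
    neg_mem' := fun {x} hx hle' => by
      obtain ⟨r, hr, hrq⟩ := Set.not_subset.mp hx
      obtain ⟨a, ha⟩ := hr
      refine hrq (hle' ?_)
      have := T.coeff_mem_coefIdeal (-x) (HopfAlgebra.antipode R a)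
      rw [T.π_antipode_coeff] at this
      have e : T.π a = AddMonoidAlgebra.single x r := ha
      rwa [e, AddMonoidAlgebra.coeff_single, Finsupp.single_eq_same] at this }
  let G := M ⧸ Sg
  let K := R ⧸ q
  have : Nontrivial K := Ideal.Quotient.nontrivial_iff.mpr hq.ne_top
  let g : Multiplicative M →* K[G] :=
    (AddMonoidAlgebra.of K G).comp (AddMonoidHom.toMultiplicative (QuotientAddGroup.mk' Sg))
  have hg : g = 1 := hinj K[G] (pt_ext fun a => by
    show AddMonoidAlgebra.lift R K[G] M g (T.π a) = AddMonoidAlgebra.lift R K[G] M 1 (T.π a)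
    simp only [AddMonoidAlgebra.lift_apply]
    refine Finsupp.sum_congr fun m _ => ?_
    by_cases hmS : m ∈ Sg
    · simp [g, (show (QuotientAddGroup.mk' Sg) m = 0 from (QuotientAddGroup.eq_zero_iff m).mpr hmS), AddMonoidAlgebra.one_def]
    · have h0 : algebraMap R K ((T.π a).coeff m) = 0 :=
        Ideal.Quotient.eq_zero_iff_mem.mpr (not_not.mp hmS (T.coeff_mem_coefIdeal m a))
      have h00 : ∀ y : K[G], (T.π a).coeff m • y = 0 := fun y => by
        rw [Algebra.smul_def, IsScalarTower.algebraMap_apply R K K[G], h0, map_zero, zero_mul]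
      rw [h00, h00])
  have h1 := DFunLike.congr_fun hg (Multiplicative.ofAdd m₀)
  simp only [g, MonoidHom.comp_apply, AddMonoidHom.toMultiplicative_apply_apply, AddMonoidAlgebra.of_apply,
    MonoidHom.one_apply, AddMonoidAlgebra.one_def] at h1
  rcases (Finsupp.single_eq_single_iff _ _ _ _).mp (congrArg (·.coeff) h1) with ⟨h2, -⟩ | ⟨h2, -⟩
  · exact ((QuotientAddGroup.eq_zero_iff m₀).mp h2) hle
  · exact one_ne_zero h2

end Groth.Agent.BigCell29
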