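import Groth.Agent.BigCell29.Points
import Groth.Agent.BigCell29.MonoTorus
import Groth.Agent.BigCell29.Cot
import Mathlib.AlgebraicGeometry.Morphisms.Smooth
import Mathlib.RingTheory.Spectrum.Prime.Topology

/-!
# The frame of a splitting of a reductive group over an affine piece of the base
-/

set_option autoImplicit false

universe u

open CategoryTheory CategoryTheory.Limits MonoidalCategory CartesianMonoidalCategory AlgebraicGeometry WithConv
open TensorProduct
open scoped MonObj AddMonoidAlgebra

namespace Groth.Agent.BigCell29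

open GrpSchLib.AffineHopf DSPtsLib

variable {S : Scheme.{u}} {R : Type u} [CommRing R] {f : Spec (CommRingCat.of R) ⟶ S}
  {B C : Type u} [CommRing B] [Algebra R B] [CommRing C] [Algebra R C]

theorem theta_map {U : Scheme.{u}} (g : U ⟶ S) {Y : Over U} {X X' : Over S} (a : Y ⟶ Red.bc g X) (h : X ⟶ X') :
    theta g (a ≫ (Over.pullback g).map h) = theta g a ≫ h :=
  (Over.mapPullbackAdj g).homEquiv_naturality_right_symm a h

theorem isPullback_map {U : Scheme.{u}} (g : U ⟶ S) {X X' : Over S} (h : X ⟶ X') :
    IsPullback ((Over.pullback g).map h).left (pullback.fst X.hom g) (pullback.fst X'.hom g) h.left := by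
  have h1 : ((Over.pullback g).map h).left ≫ pullback.fst X'.hom g = pullback.fst X.hom g ≫ h.left := by
    exact pullback.lift_fst _ _ _
  have h2 : ((Over.pullback g).map h).left ≫ pullback.snd X'.hom g = pullback.snd X.hom g := Over.w _
  refine (IsPullback.of_bot ?_ h1.symm (IsPullback.of_hasPullback X'.hom g)).flip
  rw [h2, Over.w h]
  exact IsPullback.of_hasPullback X.hom g

theorem isClosedImmersion_map {U : Scheme.{u}} (g : U ⟶ S) {X X' : Over S} (h : X ⟶ X') [IsClosedImmersion h.left] :
    IsClosedImmersion ((Over.pullback g).map h).left :=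
  MorphismProperty.of_isPullback (P := @IsClosedImmersion) (isPullback_map g h).flip inferInstance

variable {G : Over S} [GrpObj G] {A : Type u} [CommRing A] [HopfAlgebra R A] (Md : Model f G A)

/-- The comparison map of a model. -/
noncomputable def Model.toG : Spec (CommRingCat.of A) ⟶ G.left := Md.hom.left ≫ pullback.fst G.hom f

instance : IsIso Md.hom.left := inferInstanceAs (IsIso ((Over.forget _).map Md.hom))

theorem Model.isPullback :
    IsPullback Md.toG (Spec.map (CommRingCat.ofHom (algebraMap R A))) G.hom f := by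
  refine IsPullback.of_iso (IsPullback.of_hasPullback G.hom f) (asIso Md.hom.left).symm (Iso.refl _) (Iso.refl _)
    (Iso.refl _) ?_ ?_ (by simp) (by simp)
  · simp only [Model.toG, Iso.symm_hom, asIso_inv, Iso.refl_hom, Category.comp_id]
    exact (IsIso.inv_hom_id_assoc (f := Md.hom.left) (pullback.fst G.hom f)).symm
  · simp only [Iso.symm_hom, asIso_inv, Iso.refl_hom, Category.comp_id]
    exact (IsIso.eq_inv_comp (α := Md.hom.left)).mpr (Over.w Md.hom)

theorem Model.pt_left (g : Pt R A B) :
    (Md.pt g).left = Spec.map (CommRingCat.ofHom g.ofConv.toRingHom) ≫ Md.toG :=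
  Category.assoc _ _ _

include Md in
theorem Model.smooth (h : Smooth G.hom) : Algebra.Smooth R A := by
  have h2 : Smooth (Spec.map (CommRingCat.ofHom (algebraMap R A))) :=
    MorphismProperty.of_isPullback (P := @Smooth) Md.isPullback h
  exact RingHom.smooth_algebraMap.mp ((HasRingHomProperty.Spec_iff (P := @Smooth)).mp h2)

include Md in
theorem Model.ringKrullDim_eq (hf : IsOpenImmersion f) (p : PrimeSpectrum R) :
    ∃ (k : Type u) (_ : Field k) (_ : Algebra R k), RingHom.ker (algebraMap R k) = p.asIdeal ∧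
      ringKrullDim (k ⊗[R] A) = topologicalKrullDim ↥(Red.geomFibre (f.base p) G).left := by
  set s : S := f.base p
  let k := AlgebraicClosure (S.residueField s)
  have hpt : ∀ x, (Red.geomPt s).base x = s := fun x => Scheme.fromSpecResidueField_apply s _
  have hrange : Set.range (Red.geomPt s).base ⊆ Set.range f.base := by
    rintro _ ⟨x, rfl⟩; exact ⟨p, (hpt x).symm⟩
  let g := IsOpenImmersion.lift f (Red.geomPt s) hrange
  obtain ⟨α, hα⟩ := Spec.map_surjective g
  let : Algebra R k := α.hom.toAlgebra
  refine ⟨k, inferInstance, inferInstance, ?_, ?_⟩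
  · have h : f.base (g.base ⟨⊥, Ideal.isPrime_bot⟩) = f.base p := by
      exact (Scheme.Hom.comp_apply g f _).symm.trans ((congrArg (fun q : Spec (CommRingCat.of k) ⟶ S => q.base _) (IsOpenImmersion.lift_fac _ _ _)).trans (hpt _))
    have h' := f.isOpenEmbedding.injective h
    rw [← hα] at h'
    rw [RingHom.ker_eq_comap_bot, ← h']
    rfl
  · have hg : g = Spec.map (CommRingCat.ofHom (algebraMap R k)) := hα.symm
    have sq : IsPullback ((pullbackSpecIso R k A).inv ≫ pullback.snd _ _ ≫ Md.toG)
        (Spec.map (CommRingCat.ofHom (Algebra.TensorProduct.includeLeftRingHom : k →+* k ⊗[R] A)))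
        G.hom (Red.geomPt s) := by
      have h0 := (IsPullback.of_hasPullback (Spec.map (CommRingCat.ofHom (algebraMap R k)))
        (Spec.map (CommRingCat.ofHom (algebraMap R A)))).flip
      have h1 := h0.paste_horiz Md.isPullback
      have e : Spec.map (CommRingCat.ofHom (algebraMap R k)) ≫ f = Red.geomPt s :=
        (congrArg (· ≫ f) hg).symm.trans (IsOpenImmersion.lift_fac _ _ _)
      rw [e] at h1
      refine IsPullback.of_iso h1 ((pullbackSpecIso R k A)) (Iso.refl _) (Iso.refl _) (Iso.refl _) ?_ ?_ (by simp)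
        (by simp)
      · simp
      · simp [pullbackSpecIso_hom_fst]
    let eiso : Spec (CommRingCat.of (k ⊗[R] A)) ≅ (Red.geomFibre s G).left := sq.isoPullback
    rw [← PrimeSpectrum.topologicalKrullDim_eq_ringKrullDim]
    exact (Scheme.homeoOfIso eiso).isHomeomorph.topologicalKrullDim_eq

variable (D : Red.SplitRed G)

/-- The torus point of a splitting. -/
noncomputable def torG (χ : Multiplicative D.M →* B) : tObj f B ⟶ G :=
  chPt f χ ≫ D.split.inv.hom.hom ≫ D.i

theorem torG_mul (χ χ' : Multiplicative D.M →* B) : torG (f := f) D (χ * χ') = torG D χ * torG D χ' := by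
  have : IsMonHom D.split.inv.hom.hom := D.split.inv.hom.isMonHom_hom
  have : IsMonHom D.i := D.maximalTorus.1
  simp only [torG, chPt_mul, MonObj.mul_comp]

theorem torG_map (φ : B →ₐ[R] C) (χ : Multiplicative D.M →* B) :
    tMap f φ ≫ torG D χ = torG D (φ.toRingHom.toMonoidHom.comp χ) := by
  simp only [torG, ← Category.assoc, chPt_map]

theorem torG_injective : Function.Injective (torG (f := f) (B := B) D) := by
  intro χ χ' h
  have : Mono D.i := D.maximalTorus.2.1
  have : IsIso D.split.inv.hom.hom := ((Grp.forget _).mapIso D.split.symm).isIso_hom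
  refine (chPt_bijective f).injective ?_
  simpa [torG, cancel_mono, ← Category.assoc] using h

/-- The root point of a splitting. -/
noncomputable def rtG (i : D.idx) (x : B) : tObj f B ⟶ G := gaPt f x ≫ D.u i

theorem rtG_add (i : D.idx) (x y : B) : rtG (f := f) D i (x + y) = rtG D i x * rtG D i y := by
  have : IsMonHom (D.u i) := (D.rootHom i).1
  simp only [rtG, gaPt_add, MonObj.mul_comp]

theorem rtG_map (φ : B →ₐ[R] C) (i : D.idx) (x : B) : tMap f φ ≫ rtG D i x = rtG D i (φ x) := by
  rw [rtG, rtG, ← Category.assoc, gaPt_map]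

theorem rtG_conj (i : D.idx) (χ : Multiplicative D.M →* B) (x : B) :
    torG (f := f) D χ * rtG D i x = rtG D i (χ (Multiplicative.ofAdd (D.P.root i)) * x) * torG D χ := by
  obtain ⟨y, hy, hfn⟩ := (D.rootHom i).2.2 (tObj f B) (chPt f χ ≫ D.split.inv.hom.hom) (gaPt f x)
  have e : (chPt f χ ≫ D.split.inv.hom.hom) ≫ D.split.hom.hom.hom ≫ Red.chi S (D.P.root i) =
      chPt f χ ≫ Red.chi S (D.P.root i) := by
    rw [Category.assoc, ← Category.assoc D.split.inv.hom.hom,
      show D.split.inv.hom.hom ≫ D.split.hom.hom.hom = 𝟙 _ from congrArg (fun k => k.hom.hom) D.split.inv_hom_id,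
      Category.id_comp]
  rw [e, gmFn_chPt_chi, gaFn_gaPt, ← map_mul, ← gaFn_gaPt] at hfn
  rw [GrpSchLib.GaPts.gaFn_injective hfn, Category.assoc] at hy
  exact (eq_mul_inv_iff_mul_eq.mp hy).symm

/-- The torus comorphism. -/
noncomputable def Model.torHom : A →ₐ[R] R[D.M] := (Md.ofPt (torG D (univChar R D.M))).ofConv

theorem Model.pt_torPt (χ : Multiplicative D.M →* B) : Md.pt (torPt (Md.torHom D) χ) = torG D χ := by
  have e : torPt (Md.torHom D) χ = mapPt (AddMonoidAlgebra.lift R B D.M χ) (Md.ofPt (torG D (univChar R D.M))) := rfl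
  rw [e, Md.pt_map, Md.pt_ofPt, torG_map]
  congr 1
  ext m
  simp

/-- The root comorphism. -/
noncomputable def Model.rootHom (i : D.idx) : A →ₐ[R] Polynomial R :=
  (Md.ofPt (rtG D i (Polynomial.X : Polynomial R))).ofConv

theorem Model.pt_linePt (i : D.idx) (x : B) : Md.pt (linePt (Md.rootHom D i) x) = rtG D i x := by
  have e : linePt (Md.rootHom D i) x = mapPt (Polynomial.aeval x) (Md.ofPt (rtG D i (Polynomial.X : Polynomial R))) :=
    rfl
  rw [e, Md.pt_map, Md.pt_ofPt, rtG_map, Polynomial.aeval_X]

theorem isAffine_bc_Ga : IsAffine (Red.bc f (Red.Ga S)).left := by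
  have : IsAffine Red.GaZ.{u}.left := inferInstanceAs (IsAffine (Spec _))
  have : IsAffineHom Red.GaZ.{u}.hom := isAffineHom_of_isAffine _
  have : IsAffineHom (Red.Ga S).hom :=
    MorphismProperty.of_isPullback (P := @IsAffineHom.{u}) (IsPullback.of_hasPullback Red.GaZ.{u}.hom
      (IsTerminal.from specULiftZIsTerminal S)) ‹_›
  have : IsAffineHom (pullback.snd (Red.Ga S).hom f) := inferInstance
  exact isAffine_of_isAffineHom (pullback.snd (Red.Ga S).hom f)

theorem Model.rootHom_surjective (i : D.idx) : Function.Surjective (Md.rootHom D i) := by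
  have := isAffine_bc_Ga (f := f)
  obtain ⟨c, hc, hciso⟩ := isIso_of_points f (X := Red.Ga S) (gaPt f (Polynomial.X : Polynomial R)) fun B _ _ => by
    refine ⟨fun φ ψ h => ?_, fun p => ?_⟩
    · simp only [gaPt_map] at h
      exact Polynomial.algHom_ext ((gaPt_bijective f).injective h)
    · obtain ⟨x, rfl⟩ := (gaPt_bijective f).surjective p
      exact ⟨Polynomial.aeval x, (gaPt_map f (Polynomial.aeval x) Polynomial.X).trans (by rw [Polynomial.aeval_X])⟩
  have hk : spMap (Md.rootHom D i) ≫ Md.hom = c ≫ (Over.pullback f).map (D.u i) := by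
    apply (theta_bijective f).injective
    rw [theta_map, hc]
    exact Md.pt_ofPt _
  have : IsClosedImmersion (D.u i).left := (D.rootHom i).2.1
  have := isClosedImmersion_map f (D.u i)
  have h1 : IsClosedImmersion (spMap (Md.rootHom D i)).left := by
    have e : spMap (Md.rootHom D i) = (c ≫ (Over.pullback f).map (D.u i)) ≫ Md.inv := by
      rw [← hk, Category.assoc, Md.hom_inv, Category.comp_id]
    rw [e, Over.comp_left, Over.comp_left]
    have : IsIso c.left := inferInstanceAs (IsIso ((Over.forget _).map c))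
    have : IsIso Md.inv.left := inferInstanceAs (IsIso ((Over.forget _).map Md.inv))
    infer_instance
  have h2 : IsClosedImmersion (Spec.map (CommRingCat.ofHom (Md.rootHom D i).toRingHom)) := h1
  have h3 := (IsClosedImmersion.isAffine_surjective_of_isAffine (f := Spec.map (CommRingCat.ofHom (Md.rootHom D i).toRingHom))).2
  intro x
  obtain ⟨y, hy⟩ := h3 ((Scheme.ΓSpecIso (CommRingCat.of (Polynomial R))).commRingCatIsoToRingEquiv.symm x)
  refine ⟨(Scheme.ΓSpecIso (CommRingCat.of A)).hom y, ?_⟩
  have h4 := congrArg (fun ψ => (ConcreteCategory.hom ψ) y) (Scheme.ΓSpecIso_naturality (CommRingCat.ofHom (Md.rootHom D i).toRingHom))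
  refine h4.symm.trans ?_
  exact (congrArg (Scheme.ΓSpecIso (CommRingCat.of (Polynomial R))).commRingCatIsoToRingEquiv hy).trans
    ((Scheme.ΓSpecIso (CommRingCat.of (Polynomial R))).commRingCatIsoToRingEquiv.apply_symm_apply x)

/-- The frame of a splitting, without the tangent condition. -/
noncomputable def Model.preFrame : PreFrame R A D.M D.idx where
  T := ⟨Md.torHom D, fun B _ _ χ χ' => Md.pt_bijective.injective (by
    rw [Md.pt_mul, Md.pt_torPt, Md.pt_torPt, Md.pt_torPt, torG_mul])⟩
  root i := D.P.root i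
  φ := Md.rootHom D
  root_inj := D.P.root.injective
  π_surj := SplitTorus.surjective_of_injective _ fun B _ _ χ χ' h => torG_injective D (by
    rw [← Md.pt_torPt, ← Md.pt_torPt]; exact congrArg Md.pt h)
  φ_surj := Md.rootHom_surjective D
  rt_add B _ _ i x y := Md.pt_bijective.injective (by
    rw [Md.pt_mul, Md.pt_linePt, Md.pt_linePt, Md.pt_linePt, rtG_add])
  conj B _ _ i χ x := Md.pt_bijective.injective (by
    rw [Md.pt_mul, Md.pt_mul, Md.pt_linePt, Md.pt_linePt]
    show Md.pt (torPt _ χ) * _ = _ * Md.pt (torPt _ χ)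
    rw [Md.pt_torPt, rtG_conj])

/-- The frame of a splitting over an affine open of the base. -/
noncomputable def Model.frame [hf : IsOpenImmersion f] : Frame R A D.M D.idx where
  toPreFrame := Md.preFrame D
  cot a h0 hT hu := by
    have := Md.smooth D.reductive.2.1
    refine PreFrame.cot_of_dim _ (fun i => D.P.ne_zero i) (fun p hp => ?_) a h0 hT hu
    obtain ⟨k, i1, i2, hker, hdim⟩ := Md.ringKrullDim_eq hf ⟨p, hp.isPrime⟩
    exact ⟨k, i1, i2, hker, (hdim.trans (D.dim_fibre _)).le⟩

theorem Model.pt_tor [IsOpenImmersion f] (χ : Multiplicative D.M →* B) :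
    Md.pt ((Md.frame D).T.tor χ) = torG D χ := Md.pt_torPt D χ

theorem Model.pt_rt [IsOpenImmersion f] (i : D.idx) (x : B) : Md.pt ((Md.frame D).rt i x) = rtG D i x :=
  Md.pt_linePt D i x

theorem Model.frame_root [IsOpenImmersion f] (i : D.idx) : (Md.frame D).root i = D.P.root i := rfl

end Groth.Agent.BigCell29
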