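import Groth.Prelude.Def_RedSub

/-!
# The big cell contains the unit section
-/

set_option autoImplicit false

universe u

open CategoryTheory MonoidalCategory CartesianMonoidalCategory AlgebraicGeometry
open scoped MonObj

namespace Groth.Agent.BigCell29

variable {S : Scheme.{u}}

/-- The zero section of a power of the additive group. -/
noncomputable def powOne : (n : ℕ) → (𝟙_ (Over S) ⟶ RedSub.pow (Red.Ga S) n)
  | 0 => toUnit _
  | n + 1 => lift 1 (powOne n)

variable {G : Over S} [GrpObj G]

theorem powOne_prodMap : ∀ (n : ℕ) (u : Fin n → (Red.Ga S ⟶ G)), (∀ k, IsMonHom (u k)) →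
    powOne n ≫ RedSub.prodMap (Red.Ga S) n u = 1
  | 0, u, _ => MonObj.comp_one _
  | n + 1, u, hu => by
    have := hu 0
    show lift _ _ ≫ (_ * _) = _
    rw [MonObj.comp_mul, lift_fst_assoc, lift_snd_assoc, MonObj.one_comp,
      powOne_prodMap n _ (fun k => hu k.succ), mul_one]

theorem exists_one_cellMap (D : Red.SplitRed G) {n m : ℕ} (eneg : Fin n → D.idx) (epos : Fin m → D.idx) :
    ∃ e : 𝟙_ (Over S) ⟶ _, e ≫ RedSub.cellMap D eneg epos = 1 := by
  have : IsMonHom D.i := D.maximalTorus.1
  refine ⟨lift (powOne n) (lift 1 (powOne m)), ?_⟩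
  rw [RedSub.cellMap, MonObj.comp_mul, MonObj.comp_mul, lift_fst_assoc, lift_snd_assoc, lift_fst_assoc,
    lift_snd_assoc, lift_snd_assoc, powOne_prodMap n _ (fun k => (D.rootHom _).1),
    powOne_prodMap m _ (fun k => (D.rootHom _).1), MonObj.one_comp]
  simp

end Groth.Agent.BigCell29
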