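import Groth.Agent.BigCell29.Pt

/-!
# Gradings of Hopf algebras by actions of diagonalisable groups through automorphisms

`Coact R A Γ` is a coaction `A →ₐ A[Γ]` compatible with the group law; `p n` are the components.
-/

set_option autoImplicit false

universe u

open TensorProduct WithConv Finsupp
open scoped AddMonoidAlgebra

namespace Groth.Agent.BigCell29

variable {R : Type u} [CommRing R] {A : Type u} [CommRing A] [HopfAlgebra R A]

/-- An action of the diagonalisable group with character group `Γ` by group automorphisms. -/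
structure Coact (R : Type u) (A : Type u) (Γ : Type) [CommRing R] [CommRing A] [HopfAlgebra R A]
    [AddCommGroup Γ] where
  /-- the coaction -/
  c : A →ₐ[R] A[Γ]
  act_mul : ∀ (B : Type u) [CommRing B] [Algebra R B] (g h : Pt R A B),
    toConv ((AddMonoidAlgebra.mapAlgHom Γ (g * h).ofConv).comp c) =
      toConv ((AddMonoidAlgebra.mapAlgHom Γ g.ofConv).comp c) *
        toConv ((AddMonoidAlgebra.mapAlgHom Γ h.ofConv).comp c)
  coassoc : ∀ (a : A) (m : Γ), c ((c a).coeff m) = AddMonoidAlgebra.single m ((c a).coeff m)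
  counit : ∀ a : A, (c a).coeff.sum (fun _ x => x) = a

variable {Γ : Type} [AddCommGroup Γ] (D : Coact R A Γ)
  {B C : Type u} [CommRing B] [Algebra R B] [CommRing C] [Algebra R C]

/-- The universal translate of a point. -/
noncomputable def Coact.act : Pt R A B →* Pt R A B[Γ] :=
  MonoidHom.mk' (fun g => toConv ((AddMonoidAlgebra.mapAlgHom Γ g.ofConv).comp D.c)) (D.act_mul B)

/-- The component of degree `n`. -/
noncomputable def Coact.p (n : Γ) : A →ₗ[R] A where
  toFun a := (D.c a).coeff n
  map_add' a b := by simp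
  map_smul' r a := by simp

theorem Coact.p_def (n : Γ) (a : A) : D.p n a = (D.c a).coeff n := rfl

@[simp] theorem Coact.act_coeff (g : Pt R A B) (a : A) (n : Γ) : (D.act g a).coeff n = g (D.p n a) := by
  simp [Coact.act, Coact.p]

theorem Coact.p_p [DecidableEq Γ] (m n : Γ) (a : A) : D.p n (D.p m a) = if m = n then D.p m a else 0 := by
  simp [Coact.p, D.coassoc, Finsupp.single_apply]

theorem Coact.p_p_self (n : Γ) (a : A) : D.p n (D.p n a) = D.p n a := by classical simp [D.p_p]

theorem Coact.p_p_ne {m n : Γ} (h : m ≠ n) (a : A) : D.p n (D.p m a) = 0 := by classical simp [D.p_p, h]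

theorem Coact.sum_p (a : A) : ∑ n ∈ (D.c a).coeff.support, D.p n a = a := D.counit a

theorem Coact.sum_p_subset (a : A) {s : Finset Γ} (h : (D.c a).coeff.support ⊆ s) : ∑ n ∈ s, D.p n a = a := by
  conv_rhs => rw [← D.sum_p a]
  refine (Finset.sum_subset h fun n _ hn => ?_).symm
  exact Finsupp.notMem_support_iff.mp hn

theorem Coact.p_eq_zero_of_notMem {a : A} {n : Γ} (h : n ∉ (D.c a).coeff.support) : D.p n a = 0 :=
  Finsupp.notMem_support_iff.mp h

theorem Coact.counit_p [DecidableEq Γ] (n : Γ) (a : A) :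
    Coalgebra.counit (R := R) (D.p n a) = if n = 0 then Coalgebra.counit (R := R) a else 0 := by
  have h := DFunLike.congr_fun (congrArg WithConv.ofConv (map_one (D.act (B := R)))) a
  have h' := congrArg (fun x : R[Γ] => x.coeff n) h
  simp only [Coact.act_coeff] at h'
  rw [AlgHom.convOne_apply] at h'
  simpa [AddMonoidAlgebra.coe_algebraMap, Finsupp.single_apply, eq_comm] using h'

theorem Coact.counit_p_ne {n : Γ} (h : n ≠ 0) (a : A) : Coalgebra.counit (R := R) (D.p n a) = 0 := by
  classical simp [D.counit_p, h]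

theorem Coact.counit_p_zero (a : A) : Coalgebra.counit (R := R) (D.p 0 a) = Coalgebra.counit (R := R) a := by
  classical simp [D.counit_p]

theorem Coact.p_one_zero : D.p 0 (1 : A) = 1 := by
  simp [Coact.p, AddMonoidAlgebra.one_def]

theorem Coact.p_one_ne {n : Γ} (h : n ≠ 0) : D.p n (1 : A) = 0 := by
  simp [Coact.p, AddMonoidAlgebra.one_def, h]

theorem Coact.p_mul [DecidableEq Γ] (n : Γ) (a b : A) :
    D.p n (a * b) = ∑ i ∈ (D.c a).coeff.support, D.p i a * D.p (n - i) b := by
  simp only [Coact.p_def, map_mul]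
  rw [AddMonoidAlgebra.coeff_mul_apply_left, Finsupp.sum]
  simp [sub_eq_neg_add, Coact.p_def]

/-- Points fixed by the action. -/
def Coact.InZ (g : Pt R A B) : Prop := ∀ (a : A) (n : Γ), n ≠ 0 → g (D.p n a) = 0

theorem Coact.InZ.apply_p_zero {g : Pt R A B} (hg : D.InZ g) (a : A) : g (D.p 0 a) = g a := by
  classical
  conv_rhs => rw [← D.sum_p_subset a (s := insert 0 (D.c a).coeff.support) (Finset.subset_insert _ _), map_sum]
  rw [Finset.sum_eq_single 0]
  · intro n _ hn; exact hg a n hn
  · simp

theorem Coact.inZ_iff (g : Pt R A B) :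
    D.InZ g ↔ D.act g = mapPt AddMonoidAlgebra.singleZeroAlgHom g := by
  classical
  constructor
  · intro hg
    refine pt_ext fun a => AddMonoidAlgebra.coeff_injective (Finsupp.ext fun n => ?_)
    rw [D.act_coeff, mapPt_apply]
    by_cases hn : n = 0
    · subst hn; simp [Coact.InZ.apply_p_zero D hg]
    · simp [hg a n hn, Ne.symm hn]
  · intro h a n hn
    have := congrArg (fun x : B[Γ] => x.coeff n) (DFunLike.congr_fun (congrArg WithConv.ofConv h) a)
    simpa [Ne.symm hn] using this

theorem Coact.inZ_one : D.InZ (1 : Pt R A B) := fun a n hn => by simp [D.counit_p_ne hn]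

theorem Coact.InZ.mul {g h : Pt R A B} (hg : D.InZ g) (hh : D.InZ h) : D.InZ (g * h) := by
  rw [D.inZ_iff] at *
  rw [map_mul, hg, hh, map_mul]

theorem Coact.InZ.inv {g : Pt R A B} (hg : D.InZ g) : D.InZ g⁻¹ := by
  rw [D.inZ_iff] at *
  rw [map_inv, hg, map_inv]

theorem Coact.InZ.map {g : Pt R A B} (hg : D.InZ g) (φ : B →ₐ[R] C) : D.InZ (mapPt φ g) :=
  fun a n hn => by simp [hg a n hn]

end Groth.Agent.BigCell29
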