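import Groth.Agent.BigCell29.LiftU

/-!
# Decomposition of infinitesimal points, and lifting of points of the big cell
-/

set_option autoImplicit false

universe u

open TensorProduct WithConv Finsupp
open scoped AddMonoidAlgebra

namespace Groth.Agent.BigCell29

variable {R : Type u} [CommRing R] {A : Type u} [CommRing A] [HopfAlgebra R A]
  {B C : Type u} [CommRing B] [Algebra R B] [CommRing C] [Algebra R C]
  (D : Coact R A ℤ)

theorem Coact.apply_tanPt_p {I : Ideal B} (hI : ∀ x ∈ I, ∀ y ∈ I, x * y = (0 : B)) {d : A →ₗ[R] B}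
    (h : IsTan I d) (n : ℤ) (a : A) :
    tanPt hI h (D.p n a) =
      (if n = 0 then algebraMap R B (Coalgebra.counit a) else 0) + d (D.p n a) := by
  simp [D.counit_p, apply_ite]

/-- Every infinitesimal point is a product of components. -/
theorem Coact.exists_tan_decomp {φ : B →ₐ[R] C} (h : SqZero φ) {k : Pt R A B} (hk : mapPt φ k = 1) :
    ∃ x z y : Pt R A B, D.inv.InU x ∧ D.InZ z ∧ D.InU y ∧ mapPt φ x = 1 ∧ mapPt φ z = 1 ∧ mapPt φ y = 1 ∧
      k = x * z * y := by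
  classical
  obtain ⟨d, hd, rfl⟩ := exists_tanPt h.ker rfl hk
  let sel : (ℤ → Prop) → A →ₗ[R] B := fun P => gradedSum D P fun _ => d
  have hsel : ∀ P, IsTan (RingHom.ker φ.toRingHom) (sel P) := fun P =>
    IsTan.gradedSum D P _ fun n _ => hd.comp_p D n
  refine ⟨tanPt h.ker (hsel (· < 0)), tanPt h.ker (hsel (· = 0)), tanPt h.ker (hsel (0 < ·)),
    ⟨fun a n hn => ?_, fun a => ?_⟩, fun a n hn => ?_, ⟨fun a n hn => ?_, fun a => ?_⟩,
    mapPt_tanPt h.ker rfl _, mapPt_tanPt h.ker rfl _, mapPt_tanPt h.ker rfl _, ?_⟩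
  · rw [D.inv_p, D.apply_tanPt_p, gradedSum_p, if_neg (by omega), if_neg (by omega), add_zero]
  · rw [D.inv_p, neg_zero, D.apply_tanPt_p, gradedSum_p, if_pos rfl, if_neg (by omega), add_zero,
      AlgHom.convOne_apply]
  · rw [D.apply_tanPt_p, gradedSum_p, if_neg hn, if_neg hn, add_zero]
  · rw [D.apply_tanPt_p, gradedSum_p, if_neg (by omega), if_neg (by omega), add_zero]
  · rw [D.apply_tanPt_p, gradedSum_p, if_pos rfl, if_neg (by omega), add_zero, AlgHom.convOne_apply]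
  · rw [tanPt_mul, tanPt_mul]
    refine pt_ext fun a => ?_
    simp only [tanPt_apply, LinearMap.add_apply, sel]
    congr 1
    rw [gradedSum_apply D _ _ a subset_rfl, gradedSum_apply D _ _ a subset_rfl, gradedSum_apply D _ _ a subset_rfl,
      Finset.sum_filter, Finset.sum_filter, Finset.sum_filter, ← Finset.sum_add_distrib, ← Finset.sum_add_distrib]
    conv_lhs => rw [← D.sum_p a, map_sum]
    refine Finset.sum_congr rfl fun n _ => ?_
    rcases lt_trichotomy n 0 with hn | hn | hn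
    · simp [hn, hn.ne, hn.le, not_lt.mpr]
    · simp [hn]
    · simp [hn, hn.ne', hn.le, not_lt.mpr]

theorem Coact.exists_cell_lift [Algebra.FormallySmooth R A] {φ : B →ₐ[R] C} (h : SqZero φ)
    (hφ : Function.Surjective φ) (g : Pt R A B) {x z y : Pt R A C} (hx : D.inv.InU x) (hz : D.InZ z)
    (hy : D.InU y) (hg : mapPt φ g = x * z * y) :
    ∃ x' z' y' : Pt R A B, D.inv.InU x' ∧ D.InZ z' ∧ D.InU y' ∧ mapPt φ x' = x ∧ mapPt φ z' = z ∧
      mapPt φ y' = y ∧ g = x' * z' * y' := by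
  obtain ⟨x₁, hx₁, ex⟩ := D.inv.exists_inU_lift h hφ x hx
  obtain ⟨y₁, hy₁, ey⟩ := D.exists_inU_lift h hφ y hy
  obtain ⟨z₀, hz₀⟩ := exists_lift h hφ z
  obtain ⟨z₁, hz₁, ez⟩ := D.exists_inZ_lift h z₀ (by rwa [hz₀])
  rw [hz₀] at ez
  obtain ⟨a, b, c, ha, hb, hc, ea, eb, ec, e⟩ := D.exists_tan_decomp h
    (k := x₁⁻¹ * g * y₁⁻¹ * z₁⁻¹) (by simp [ex, ey, ez, hg, mul_assoc])
  refine ⟨x₁ * a, b * z₁, z₁⁻¹ * c * z₁ * y₁, Coact.InU.mul _ hx₁ ha, Coact.InZ.mul D hb hz₁,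
    Coact.InU.mul D ?_ hy₁, by simp [ex, ea], by simp [eb, ez], by simp [ec, ey], ?_⟩
  · simpa using Coact.InU.conj D (Coact.InZ.inv D hz₁) hc
  · calc g = x₁ * (x₁⁻¹ * g * y₁⁻¹ * z₁⁻¹) * z₁ * y₁ := by group
      _ = _ := by rw [e]; group

end Groth.Agent.BigCell29
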