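import Groth.Agent.BigCell29.Push
import Mathlib.Algebra.Order.Group.Int
import Mathlib.RingTheory.TensorProduct.Maps
import Mathlib.Tactic.Group

/-!
# The attracting subgroups of an action of the multiplicative group
-/

set_option autoImplicit false

universe u

open TensorProduct WithConv Finsupp
open scoped AddMonoidAlgebra

namespace Groth.Agent.BigCell29

variable {R : Type u} [CommRing R] {A : Type u} [CommRing A] [HopfAlgebra R A]
  {B C : Type u} [CommRing B] [Algebra R B] [CommRing C] [Algebra R C]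

variable (R B) in
/-- Laurent polynomials without negative powers. -/
def nonneg : Subalgebra R B[ℤ] where
  carrier := {x | ∀ n : ℤ, n < 0 → x.coeff n = 0}
  mul_mem' {x y} hx hy n hn := by
    rw [AddMonoidAlgebra.coeff_mul_apply_left, Finsupp.sum]
    refine Finset.sum_eq_zero fun i _ => ?_
    by_cases hi : i < 0
    · simp [hx i hi]
    · rw [hy _ (by omega), mul_zero]
  add_mem' {x y} hx hy n hn := by simp [hx n hn, hy n hn]
  algebraMap_mem' r n hn := by
    simp [AddMonoidAlgebra.coe_algebraMap, hn.ne]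

theorem mem_nonneg {x : B[ℤ]} : x ∈ nonneg R B ↔ ∀ n : ℤ, n < 0 → x.coeff n = 0 := Iff.rfl

theorem coeff_zero_mul {x y : B[ℤ]} (hx : x ∈ nonneg R B) (hy : y ∈ nonneg R B) :
    (x * y).coeff 0 = x.coeff 0 * y.coeff 0 := by
  rw [AddMonoidAlgebra.coeff_mul_apply_left, Finsupp.sum, Finset.sum_eq_single 0]
  · simp
  · intro i _ hi
    rcases lt_or_gt_of_ne hi with h | h
    · simp [hx i h]
    · rw [hy _ (by omega), mul_zero]
  · intro h; simp [Finsupp.notMem_support_iff.mp h]

theorem lift_mem {S : Subalgebra R B} (f g : A →ₐ[R] B) (hf : ∀ a, f a ∈ S) (hg : ∀ a, g a ∈ S)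
    (x : A ⊗[R] A) : Algebra.TensorProduct.lift f g (fun _ _ => .all ..) x ∈ S := by
  induction x using TensorProduct.induction_on with
  | zero => simp
  | tmul a b => simpa using mul_mem (hf a) (hg b)
  | add x y hx hy => rw [map_add]; exact add_mem hx hy

variable (D : Coact R A ℤ)

/-- Points having a limit at `0`. -/
def Coact.InP (g : Pt R A B) : Prop := ∀ (a : A) (n : ℤ), n < 0 → g (D.p n a) = 0

/-- Points with limit the identity at `0`. -/
def Coact.InU (g : Pt R A B) : Prop := D.InP g ∧ ∀ a : A, g (D.p 0 a) = (1 : Pt R A B) a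

theorem Coact.inP_iff (g : Pt R A B) : D.InP g ↔ ∀ a : A, D.act g a ∈ nonneg R B := by
  simp [Coact.InP, mem_nonneg]

theorem Coact.inP_one : D.InP (1 : Pt R A B) := fun a n hn => by simp [D.counit_p_ne hn.ne]

theorem Coact.InP.mul {g h : Pt R A B} (hg : D.InP g) (hh : D.InP h) : D.InP (g * h) := by
  rw [D.inP_iff] at *
  intro a
  rw [map_mul, AlgHom.convMul_apply]
  exact lift_mem _ _ hg hh _

theorem Coact.InP.inv {g : Pt R A B} (hg : D.InP g) : D.InP g⁻¹ := by
  rw [D.inP_iff] at *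
  intro a
  rw [map_inv, inv_apply]
  exact hg _

theorem Coact.InP.map {g : Pt R A B} (hg : D.InP g) (φ : B →ₐ[R] C) : D.InP (mapPt φ g) :=
  fun a n hn => by simp [hg a n hn]

theorem Coact.InZ.inP {g : Pt R A B} (hg : D.InZ g) : D.InP g := fun a n hn => hg a n hn.ne

/-- The limit at `0`. -/
noncomputable def Coact.lim (g : Pt R A B) (hg : D.InP g) : Pt R A B :=
  toConv
    { toFun := fun a => g (D.p 0 a)
      map_one' := by rw [D.p_one_zero, map_one]
      map_mul' := fun a b => by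
        have h := coeff_zero_mul ((D.inP_iff g).mp hg a) ((D.inP_iff g).mp hg b)
        simpa only [← map_mul, D.act_coeff] using h
      map_zero' := by simp
      map_add' := by simp
      commutes' := fun r => by
        rw [Algebra.algebraMap_eq_smul_one, map_smul, map_smul, D.p_one_zero, map_one,
          Algebra.algebraMap_eq_smul_one] }

@[simp] theorem Coact.lim_apply (g : Pt R A B) (hg : D.InP g) (a : A) : D.lim g hg a = g (D.p 0 a) := rfl

theorem Coact.lim_mul {g h : Pt R A B} (hg : D.InP g) (hh : D.InP h) :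
    D.lim (g * h) (Coact.InP.mul D hg hh) = D.lim g hg * D.lim h hh := by
  refine pt_ext fun a => ?_
  rw [D.lim_apply, ← D.act_coeff, map_mul, AlgHom.convMul_apply, AlgHom.convMul_apply]
  induction Coalgebra.comul (R := R) a using TensorProduct.induction_on with
  | zero => simp
  | add x y hx hy => simp [map_add, hx, hy]
  | tmul x y =>
    simp only [Algebra.TensorProduct.lift_tmul]
    rw [coeff_zero_mul (R := R) ((D.inP_iff g).mp hg x) ((D.inP_iff h).mp hh y)]
    show (D.act g x).coeff 0 * (D.act h y).coeff 0 = D.lim g hg x * D.lim h hh y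
    rw [D.act_coeff, D.act_coeff, D.lim_apply, D.lim_apply]

theorem Coact.inU_iff {g : Pt R A B} : D.InU g ↔ ∃ h : D.InP g, D.lim g h = 1 := by
  constructor
  · rintro ⟨h, h0⟩; exact ⟨h, pt_ext fun a => h0 a⟩
  · rintro ⟨h, h0⟩
    exact ⟨h, fun a => DFunLike.congr_fun (congrArg WithConv.ofConv h0) a⟩

theorem Coact.lim_inZ {g : Pt R A B} (hg : D.InP g) : D.InZ (D.lim g hg) := fun a n hn => by
  rw [D.lim_apply, D.p_p_ne hn, map_zero]

theorem Coact.lim_of_inZ {g : Pt R A B} (hg : D.InZ g) : D.lim g (Coact.InZ.inP D hg) = g :=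
  pt_ext fun a => Coact.InZ.apply_p_zero D hg a

theorem Coact.inU_one : D.InU (1 : Pt R A B) := ⟨D.inP_one, fun a => by simp [D.counit_p_zero]⟩

theorem Coact.InU.mul {g h : Pt R A B} (hg : D.InU g) (hh : D.InU h) : D.InU (g * h) := by
  obtain ⟨pg, lg⟩ := D.inU_iff.mp hg
  obtain ⟨ph, lh⟩ := D.inU_iff.mp hh
  exact D.inU_iff.mpr ⟨_, by rw [D.lim_mul pg ph, lg, lh, one_mul]⟩

theorem Coact.InU.inv {g : Pt R A B} (hg : D.InU g) : D.InU g⁻¹ := by
  obtain ⟨pg, lg⟩ := D.inU_iff.mp hg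
  refine D.inU_iff.mpr ⟨Coact.InP.inv D pg, ?_⟩
  have h := D.lim_mul (Coact.InP.inv D pg) pg
  rw [lg, mul_one] at h
  rw [← h]
  exact pt_ext fun a => by rw [D.lim_apply, inv_mul_cancel]; exact D.inU_one.2 a

theorem Coact.InU.map {g : Pt R A B} (hg : D.InU g) (φ : B →ₐ[R] C) : D.InU (mapPt φ g) :=
  ⟨Coact.InP.map D hg.1 φ, fun a => by simp [hg.2 a]⟩

/-- A point with a limit at both `0` and `∞` is fixed. -/
theorem Coact.inZ_of_inP_inP {g : Pt R A B} (hg : D.InP g) (hg' : D.inv.InP g) : D.InZ g := fun a n hn => by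
  rcases lt_or_gt_of_ne hn with h | h
  · exact hg a n h
  · simpa [D.inv_p] using hg' a (-n) (by omega)

/-- A point attracted to the identity on one side and having a limit on the other side is trivial. -/
theorem Coact.eq_one_of_inP_inU {g : Pt R A B} (hg : D.InP g) (hg' : D.inv.InU g) : g = 1 := by
  refine pt_ext fun a => ?_
  rw [← hg'.2 a, D.inv_p, neg_zero]
  exact (Coact.InZ.apply_p_zero D (D.inZ_of_inP_inP hg hg'.1) a).symm

theorem Coact.inv_inP_of_inZ {g : Pt R A B} (hg : D.InZ g) : D.inv.InP g := fun a n hn => by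
  rw [D.inv_p]; exact hg a (-n) (by omega)

/-- The fixed points normalise the attracting subgroup. -/
theorem Coact.InU.conj {g z : Pt R A B} (hz : D.InZ z) (hg : D.InU g) : D.InU (z * g * z⁻¹) := by
  obtain ⟨pg, lg⟩ := D.inU_iff.mp hg
  have pz := Coact.InZ.inP D hz
  have pzi := Coact.InZ.inP D (Coact.InZ.inv D hz)
  refine D.inU_iff.mpr ⟨Coact.InP.mul D (Coact.InP.mul D pz pg) pzi, ?_⟩
  rw [D.lim_mul (Coact.InP.mul D pz pg) pzi, D.lim_mul pz pg, lg, mul_one, D.lim_of_inZ hz,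
    D.lim_of_inZ (Coact.InZ.inv D hz), mul_inv_cancel]

/-- `P = Z ⋉ U`. -/
theorem Coact.InP.exists_decomp {g : Pt R A B} (hg : D.InP g) :
    ∃ z u : Pt R A B, D.InZ z ∧ D.InU u ∧ g = z * u := by
  refine ⟨D.lim g hg, (D.lim g hg)⁻¹ * g, D.lim_inZ hg, ?_, by rw [mul_inv_cancel_left]⟩
  have hzi := Coact.InZ.inv D (D.lim_inZ hg)
  refine D.inU_iff.mpr ⟨Coact.InP.mul D (Coact.InZ.inP D hzi) hg, ?_⟩
  rw [D.lim_mul (Coact.InZ.inP D hzi) hg, D.lim_of_inZ hzi, inv_mul_cancel]

/-- The product `U⁻ × Z × U⁺ → G` is injective. -/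
theorem Coact.cell_inj {x x' z z' y y' : Pt R A B} (hx : D.inv.InU x) (hx' : D.inv.InU x') (hz : D.InZ z)
    (hz' : D.InZ z') (hy : D.InU y) (hy' : D.InU y') (h : x * z * y = x' * z' * y') :
    x = x' ∧ z = z' ∧ y = y' := by
  have h1 : x'⁻¹ * x = z' * (y' * y⁻¹) * z⁻¹ := by
    calc x'⁻¹ * x = x'⁻¹ * (x * z * y) * y⁻¹ * z⁻¹ := by group
      _ = z' * (y' * y⁻¹) * z⁻¹ := by rw [h]; group
  have pU := Coact.InU.mul D hy' (Coact.InU.inv D hy)
  have pz' := Coact.InZ.inP D hz'
  have pzi := Coact.InZ.inP D (Coact.InZ.inv D hz)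
  have e1 : x'⁻¹ * x = 1 := by
    refine D.eq_one_of_inP_inU ?_ (Coact.InU.mul _ (Coact.InU.inv _ hx') hx)
    rw [h1]
    exact Coact.InP.mul D (Coact.InP.mul D pz' pU.1) pzi
  have exx : x = x' := (inv_mul_eq_one.mp e1).symm
  subst exx
  rw [mul_assoc, mul_assoc] at h
  replace h := mul_left_cancel h
  have h2 : z'⁻¹ * z = y' * y⁻¹ := by rw [inv_mul_eq_iff_eq_mul, ← mul_assoc, ← h, mul_assoc, mul_inv_cancel, mul_one]
  have e2 : y' * y⁻¹ = 1 := by
    refine pt_ext fun a => ?_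
    rw [← pU.2 a]
    exact (Coact.InZ.apply_p_zero D (h2 ▸ Coact.InZ.mul D (Coact.InZ.inv D hz') hz) a).symm
  have eyy : y' = y := mul_inv_eq_one.mp e2
  subst eyy
  exact ⟨rfl, mul_right_cancel h, rfl⟩

end Groth.Agent.BigCell29
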