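import Groth.Agent.BigCell29.Torus
import Mathlib.Algebra.Polynomial.AlgebraMap
import Mathlib.RingTheory.Ideal.Maps

/-!
# A split torus with root homomorphisms, at the level of a Hopf algebra
-/

set_option autoImplicit false

universe u

open TensorProduct WithConv Finsupp
open scoped AddMonoidAlgebra

namespace Groth.Agent.BigCell29

variable {R : Type u} [CommRing R] {A : Type u} [CommRing A] [HopfAlgebra R A]
  {B C : Type u} [CommRing B] [Algebra R B] [CommRing C] [Algebra R C] {M ι : Type} [AddCommGroup M]

/-- The point given by a comorphism to `R[X]` and a value. -/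
noncomputable def linePt (φ : A →ₐ[R] Polynomial R) (x : B) : Pt R A B :=
  toConv ((Polynomial.aeval x).comp φ)

theorem linePt_apply (φ : A →ₐ[R] Polynomial R) (x : B) (a : A) :
    linePt φ x a = Polynomial.aeval x (φ a) := rfl

theorem mapPt_linePt (f : B →ₐ[R] C) (φ : A →ₐ[R] Polynomial R) (x : B) :
    mapPt f (linePt φ x) = linePt φ (f x) :=
  pt_ext fun a => by simp [linePt_apply, Polynomial.aeval_algHom_apply]

/-- A split torus with a family of root homomorphisms. -/
structure PreFrame (R : Type u) (A : Type u) (M ι : Type) [CommRing R] [CommRing A] [HopfAlgebra R A]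
    [AddCommGroup M] where
  /-- the torus -/
  T : SplitTorus R A M
  /-- the roots -/
  root : ι → M
  /-- the comorphisms of the root homomorphisms -/
  φ : ι → (A →ₐ[R] Polynomial R)
  root_inj : Function.Injective root
  π_surj : Function.Surjective T.π
  φ_surj : ∀ i, Function.Surjective (φ i)
  rt_add : ∀ (B : Type u) [CommRing B] [Algebra R B] (i : ι) (x y : B),
    linePt (φ i) (x + y) = linePt (φ i) x * linePt (φ i) y
  conj : ∀ (B : Type u) [CommRing B] [Algebra R B] (i : ι) (χ : Multiplicative M →* B) (x : B),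
    T.tor χ * linePt (φ i) x = linePt (φ i) (χ (Multiplicative.ofAdd (root i)) * x) * T.tor χ

variable (F : PreFrame R A M ι)

/-- The augmentation ideal. -/
noncomputable abbrev aug (R A : Type u) [CommRing R] [CommRing A] [HopfAlgebra R A] : Ideal A :=
  RingHom.ker (Bialgebra.counitAlgHom R A).toRingHom

theorem mem_aug {a : A} : a ∈ aug R A ↔ Coalgebra.counit (R := R) a = 0 := Iff.rfl

/-- The root homomorphism on points. -/
noncomputable def PreFrame.rt (i : ι) (x : B) : Pt R A B := linePt (F.φ i) x

theorem PreFrame.rt_zero (i : ι) : F.rt i (0 : B) = 1 := by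
  have h := F.rt_add B i 0 0
  rw [add_zero] at h
  exact mul_eq_left.mp h.symm

theorem PreFrame.mapPt_rt (f : B →ₐ[R] C) (i : ι) (x : B) : mapPt f (F.rt i x) = F.rt i (f x) := mapPt_linePt f _ x

theorem PreFrame.conj_rt (i : ι) (χ : Multiplicative M →* B) (x : B) :
    F.T.tor χ * F.rt i x * (F.T.tor χ)⁻¹ = F.rt i (χ (Multiplicative.ofAdd (F.root i)) * x) := by
  rw [mul_inv_eq_iff_eq_mul]
  exact F.conj B i χ x

theorem PreFrame.act_rt (i : ι) (x : B) :
    F.T.coact.act (F.rt i x) = F.rt i (AddMonoidAlgebra.single (F.root i) x) := by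
  rw [F.T.act_eq, F.mapPt_rt, F.conj_rt]
  congr 1
  simp [AddMonoidAlgebra.single_mul_single]

theorem PreFrame.act_tor (χ : Multiplicative M →* B) :
    F.T.coact.act (F.T.tor χ) = mapPt AddMonoidAlgebra.singleZeroAlgHom (F.T.tor χ) := by
  rw [F.T.act_eq, F.T.mapPt_tor, ← map_mul, mul_comm, map_mul, mul_inv_cancel_right]

theorem PreFrame.inZ_tor (χ : Multiplicative M →* B) : F.T.coact.InZ (F.T.tor χ) :=
  (Coact.inZ_iff _ _).mpr (F.act_tor χ)

/-- The derivative of a root homomorphism at the identity. -/
noncomputable def PreFrame.du (i : ι) : A →ₗ[R] R :=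
  (Polynomial.lcoeff R 1).comp (F.φ i).toLinearMap

theorem PreFrame.du_apply (i : ι) (a : A) : F.du i a = (F.φ i a).coeff 1 := rfl

/-- The derivative of the torus along a linear form. -/
noncomputable def PreFrame.dT (l : M →+ R) : A →ₗ[R] R where
  toFun a := (F.T.π a).coeff.sum fun m r => r * l m
  map_add' a b := by
    rw [map_add, AddMonoidAlgebra.coeff_add]
    exact Finsupp.sum_add_index' (fun m => zero_mul _) fun m r s => add_mul _ _ _
  map_smul' r a := by
    rw [map_smul, AddMonoidAlgebra.coeff_smul, Finsupp.sum_smul_index' (fun m => zero_mul _), RingHom.id_apply,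
      Finsupp.smul_sum]
    exact Finsupp.sum_congr fun m _ => by simp [smul_eq_mul, mul_assoc]

theorem PreFrame.φ_p [DecidableEq M] (i : ι) (m : M) (a : A) :
    F.φ i (F.T.coact.p m a) =
      ∑ k ∈ (F.φ i a).support, if (k • F.root i) = m then Polynomial.C ((F.φ i a).coeff k) * Polynomial.X ^ k else 0 := by
  have h := DFunLike.congr_fun (congrArg WithConv.ofConv (F.act_rt i (Polynomial.X : Polynomial R))) a
  have h' := congrArg (fun x : (Polynomial R)[M] => x.coeff m) h
  simp only [Coact.act_coeff, PreFrame.rt, linePt_apply, Polynomial.aeval_X_left_apply] at h'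
  rw [h', Polynomial.aeval_eq_sum_range' (n := (F.φ i a).natDegree + 1) (by omega),
    AddMonoidAlgebra.coeff_sum, Finsupp.finsetSum_apply]
  symm
  refine (Finset.sum_subset (fun k hk => Finset.mem_range.mpr
    (Nat.lt_succ_of_le (Polynomial.le_natDegree_of_mem_supp k hk))) fun k _ hk => ?_).trans
    (Finset.sum_congr rfl fun k _ => ?_)
  · simp [Polynomial.notMem_support_iff.mp hk]
  · simp [AddMonoidAlgebra.single_pow, Finsupp.single_apply, Polynomial.smul_eq_C_mul]

theorem PreFrame.du_p_self (i : ι) (a : A) : F.du i (F.T.coact.p (F.root i) a) = F.du i a := by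
  classical
  rw [du_apply, F.φ_p, Polynomial.finsetSum_coeff, Finset.sum_eq_single 1]
  · simp [du_apply]
  · intro k _ hk; split_ifs <;> simp [Ne.symm hk]
  · intro h; simp [Polynomial.notMem_support_iff.mp h]

theorem PreFrame.du_p_ne {i : ι} {m : M} (h : F.root i ≠ m) (a : A) : F.du i (F.T.coact.p m a) = 0 := by
  classical
  rw [du_apply, F.φ_p, Polynomial.finsetSum_coeff]
  refine Finset.sum_eq_zero fun k _ => ?_
  by_cases hk : k = 1
  · subst hk; simp [h]
  · split_ifs <;> simp [Ne.symm hk]

theorem PreFrame.π_p_ne {m : M} (h : m ≠ 0) (a : A) : F.T.π (F.T.coact.p m a) = 0 := by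
  have := F.inZ_tor (univChar R M) a m h
  have e : AddMonoidAlgebra.lift R R[M] M (univChar R M) = AlgHom.id R R[M] := by
    refine AlgHom.ext fun x => ?_
    induction x using AddMonoidAlgebra.induction_linear with
    | zero => simp
    | add x y hx hy => simp [hx, hy]
    | single m r => simp [AddMonoidAlgebra.smul_single]
  rw [show F.T.tor (univChar R M) = toConv ((AddMonoidAlgebra.lift R R[M] M (univChar R M)).comp F.T.π) from rfl,
    e] at this
  exact this

theorem PreFrame.dT_p_ne {m : M} (h : m ≠ 0) (l : M →+ R) (a : A) : F.dT l (F.T.coact.p m a) = 0 := by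
  simp [dT, F.π_p_ne h]

/-- A split torus with a family of root homomorphisms, spanning the tangent space at the identity. -/
structure Frame (R : Type u) (A : Type u) (M ι : Type) [CommRing R] [CommRing A] [HopfAlgebra R A]
    [AddCommGroup M] extends PreFrame R A M ι where
  /-- the torus and the root groups span the tangent space -/
  cot : ∀ a : A, Coalgebra.counit (R := R) a = 0 → (∀ l : M →+ R, toPreFrame.dT l a = 0) →
    (∀ i, toPreFrame.du i a = 0) → a ∈ aug R A ^ 2

theorem Frame.cot' (F : Frame R A M ι) {a : A} (h0 : Coalgebra.counit (R := R) a = 0) (hT : ∀ l, F.dT l a = 0)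
    (hu : ∀ i, F.du i a = 0) : a ∈ aug R A ^ 2 := F.cot a h0 hT hu

end Groth.Agent.BigCell29
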