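import Groth.Agent.BigCell29.Regular
import Groth.Agent.GrpSchLib.RankOneBase

/-!
# The big cell of a split reductive group
-/

set_option autoImplicit false
set_option synthInstance.maxHeartbeats 100000

universe u

open CategoryTheory CategoryTheory.Limits MonoidalCategory CartesianMonoidalCategory AlgebraicGeometry WithConv
open scoped MonObj AddMonoidAlgebra

namespace Groth.Agent.BigCell29

variable {S : Scheme.{u}}

/-- A model over the affine pieces of the base. -/
theorem exists_local_model (G : Over S) [GrpObj G] [IsAffineHom G.hom] (i : S.affineCover.I₀) :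
    ∃ (R : CommRingCat.{u}) (f : Spec R ⟶ S) (_ : IsOpenImmersion f) (A : Type u) (_ : CommRing A)
      (_ : HopfAlgebra R A) (_ : Model (R := (R : Type u)) f G A),
      Set.range f.base = Set.range (S.affineCover.f i).base := by
  obtain ⟨R, hR⟩ : ∃ R : CommRingCat.{u}, S.affineCover.X i = Spec R := ⟨_, rfl⟩
  let f : Spec R ⟶ S := eqToHom hR.symm ≫ S.affineCover.f i
  have : IsOpenImmersion f := inferInstance
  obtain ⟨A, i1, i2, ⟨Md⟩⟩ := exists_model (R := (R : Type u)) f G
  refine ⟨R, f, inferInstance, A, i1, i2, Md, Set.Subset.antisymm (range_comp_subset _ _) ?_⟩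
  have h : eqToHom hR ≫ f = S.affineCover.f i := by simp [f]
  rw [← h]
  exact range_comp_subset _ _

/-- Two morphisms over `S` are equal if they agree on affine test objects over affine pieces. -/
theorem ext_tObj {X Y : Over S} {g g' : X ⟶ Y}
    (h : ∀ (R : Type u) [CommRing R] (f : Spec (CommRingCat.of R) ⟶ S) [IsOpenImmersion f] (B : Type u) [CommRing B]
      [Algebra R B] (j : tObj f B ⟶ X), j ≫ g = j ≫ g') : g = g' := by
  refine GrpSchLib.RankOne.ext_spec fun B b j => ?_
  refine Over.OverMorphism.ext (((Spec B).openCoverOfIsOpenCover (fun p : Spec B => b ⁻¹ᵁ (S.affineCover.f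
    (S.affineCover.idx (b.base p))).opensRange) ?_).hom_ext _ _ fun p => ?_)
  · exact TopologicalSpace.IsOpenCover.mk (top_le_iff.1 fun p _ =>
      TopologicalSpace.Opens.mem_iSup.2 ⟨p, S.affineCover.covers (b.base p)⟩)
  set U := b ⁻¹ᵁ (S.affineCover.f (S.affineCover.idx (b.base p))).opensRange with hU
  refine U.toScheme.affineCover.hom_ext _ _ fun q => ?_
  set k := U.toScheme.affineCover.f q
  obtain ⟨B', hB'⟩ : ∃ B' : CommRingCat.{u}, U.toScheme.affineCover.X q = Spec B' := ⟨_, rfl⟩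
  obtain ⟨R, hR⟩ : ∃ R : CommRingCat.{u}, S.affineCover.X (S.affineCover.idx (b.base p)) = Spec R := ⟨_, rfl⟩
  let f : Spec R ⟶ S := eqToHom hR.symm ≫ S.affineCover.f (S.affineCover.idx (b.base p))
  have : IsOpenImmersion f := inferInstance
  let t : Spec B' ⟶ S := eqToHom hB'.symm ≫ k ≫ U.ι ≫ b
  have hrange : Set.range t.base ⊆ Set.range f.base := by
    rintro _ ⟨y, rfl⟩
    obtain ⟨x, hx⟩ := (U.range_ι.le ⟨(eqToHom hB'.symm ≫ k).base y, rfl⟩ :
      U.ι.base ((eqToHom hB'.symm ≫ k).base y) ∈ (U : Set (Spec B)))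
    refine ⟨(eqToHom hR).base x, ?_⟩
    rw [← Scheme.Hom.comp_apply]
    simp only [f, t, eqToHom_trans_assoc, eqToHom_refl, Category.id_comp]
    exact hx
  let l := IsOpenImmersion.lift f t hrange
  obtain ⟨α, hα⟩ := Spec.map_surjective l
  let : Algebra (R : Type u) (B' : Type u) := α.hom.toAlgebra
  have e : Spec.map (CommRingCat.ofHom (algebraMap (R : Type u) (B' : Type u))) ≫ f = t := by
    show Spec.map α ≫ f = t
    rw [hα]
    exact IsOpenImmersion.lift_fac _ _ _
  let j' : tObj (R := (R : Type u)) f (B' : Type u) ⟶ X := Over.homMk (eqToHom hB'.symm ≫ k ≫ U.ι ≫ j.left) (by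
    simp only [Category.assoc, Over.w j]
    exact e.symm)
  have := congrArg CommaMorphism.left (h (R : Type u) f (B' : Type u) j')
  simp only [Over.comp_left, j', Over.homMk_left, Category.assoc, cancel_epi] at this
  simp only [k, Scheme.openCoverOfIsOpenCover, Over.comp_left] at this ⊢
  exact this

variable {G : Over S} [GrpObj G] (D : Red.SplitRed G) (b : D.P.Base)

theorem isSignEnum_of {R : Type u} [CommRing R] {f : Spec (CommRingCat.of R) ⟶ S} [IsOpenImmersion f] {A : Type u}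
    [CommRing A] [HopfAlgebra R A] (Md : Model f G A) {lam : D.M →+ ℤ} (hlam : IsRegular D.P b lam) {n m : ℕ}
    {eneg : Fin n → D.idx} {epos : Fin m → D.idx} (hneg : RedSub.Enumerates (RedSub.negRoots D.P b) eneg)
    (hpos : RedSub.Enumerates (RedSub.posRoots D.P b) epos) : (Md.frame D).IsSignEnum lam eneg epos where
  neg j := (hlam.2.1 _).mp (hneg.2 ▸ ⟨j, rfl⟩)
  pos j := (hlam.1 _).mp (hpos.2 ▸ ⟨j, rfl⟩)
  neg_inj := hneg.1
  pos_inj := hpos.1
  neg_range i hi := hneg.2.symm ▸ (hlam.2.1 i).mpr hi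
  pos_range i hi := hpos.2.symm ▸ (hlam.1 i).mpr hi
  reg := hlam.2.2

variable {n m : ℕ} {eneg : Fin n → D.idx} {epos : Fin m → D.idx}
  (hneg : RedSub.Enumerates (RedSub.negRoots D.P b) eneg) (hpos : RedSub.Enumerates (RedSub.posRoots D.P b) epos)

include hneg hpos

/-- The big cell is open. -/
theorem isOpenImmersion_cellMap : IsOpenImmersion (RedSub.cellMap D eneg epos).left := by
  obtain ⟨lam, hlam⟩ := exists_isRegular D.P b
  have : IsAffineHom G.hom := D.reductive.1
  refine (IsZariskiLocalAtTarget.iff_of_openCover (P := @IsOpenImmersion)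
    (S.affineCover.pullback₁ G.hom)).mpr fun (i : S.affineCover.I₀) => ?_
  obtain ⟨R, hR⟩ : ∃ R : CommRingCat.{u}, S.affineCover.X i = Spec R := ⟨_, rfl⟩
  let f : Spec R ⟶ S := eqToHom hR.symm ≫ S.affineCover.f i
  have : IsOpenImmersion f := inferInstance
  obtain ⟨A, _, _, ⟨Md⟩⟩ := exists_model (R := (R : Type u)) f G
  have := Md.smooth D.reductive.2.1
  have h1 := (Md.frame D).isOpenImmersion_splitMor (isSignEnum_of D b Md hlam hneg hpos)
  obtain ⟨c, hc⟩ := Md.isPullback_cellMap D eneg epos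
  have hsq : IsPullback Md.toG (Spec.map (CommRingCat.ofHom (algebraMap (R : Type u) A)) ≫ eqToHom hR.symm) G.hom
      (S.affineCover.f i) :=
    IsPullback.of_iso Md.isPullback (Iso.refl _) (Iso.refl _) (eqToIso hR).symm (Iso.refl _)
      (by simp) (by simp) (by simp) (by simp [f])
  have e : hsq.isoPullback.hom ≫ (S.affineCover.pullback₁ G.hom).f i = Md.toG := hsq.isoPullback_hom_fst
  have hc' : IsPullback ((Md.frame D).splitMor eneg epos ≫ hsq.isoPullback.hom) c
      ((S.affineCover.pullback₁ G.hom).f i) (RedSub.cellMap D eneg epos).left :=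
    IsPullback.of_iso hc (Iso.refl _) hsq.isoPullback (Iso.refl _) (Iso.refl _) (by simp) (by simp)
      (by simp only [Iso.refl_hom, Category.comp_id]; exact e.symm) (by simp)
  have e2 := hc'.flip.isoPullback_hom_snd
  have e3 : pullback.snd (RedSub.cellMap D eneg epos).left ((S.affineCover.pullback₁ G.hom).f i) =
      hc'.flip.isoPullback.inv ≫ (Md.frame D).splitMor eneg epos ≫ hsq.isoPullback.hom := by
    exact (Iso.eq_inv_comp _).mpr e2
  show IsOpenImmersion (pullback.snd _ _)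
  rw [e3]
  have a1 : IsOpenImmersion ((Md.frame D).splitMor eneg epos ≫ hsq.isoPullback.hom) := inferInstance
  exact MorphismProperty.comp_mem @IsOpenImmersion _ _ (IsOpenImmersion.of_isIso hc'.flip.isoPullback.inv) a1

/-- The big cell does not depend on the orderings. -/
theorem range_cellMap_subset {n' m' : ℕ} {eneg' : Fin n' → D.idx} {epos' : Fin m' → D.idx}
    (hneg' : RedSub.Enumerates (RedSub.negRoots D.P b) eneg') (hpos' : RedSub.Enumerates (RedSub.posRoots D.P b) epos') :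
    Set.range (RedSub.cellMap D eneg' epos').left.base ⊆ Set.range (RedSub.cellMap D eneg epos).left.base := by
  obtain ⟨lam, hlam⟩ := exists_isRegular D.P b
  have : IsAffineHom G.hom := D.reductive.1
  rintro z ⟨w, rfl⟩
  set z := (RedSub.cellMap D eneg' epos').left.base w with hz
  obtain ⟨R, f, hf, A, _, _, Md, hr⟩ := exists_local_model G (S.affineCover.idx (G.hom.base z))
  obtain ⟨p, hp⟩ : G.hom.base z ∈ Set.range f.base := hr ▸ S.affineCover.covers (G.hom.base z)
  obtain ⟨q, hq, -⟩ := Scheme.exists_preimage_of_isPullback Md.isPullback z p hp.symm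
  obtain ⟨c, hc⟩ := Md.isPullback_cellMap D eneg epos
  obtain ⟨c', hc'⟩ := Md.isPullback_cellMap D eneg' epos'
  obtain ⟨x', hx', -⟩ := Scheme.exists_preimage_of_isPullback hc' q w hq
  obtain ⟨x, hx⟩ := Md.range_splitMor_subset D (isSignEnum_of D b Md hlam hneg hpos)
    (isSignEnum_of D b Md hlam hneg' hpos') ⟨x', hx'⟩
  refine ⟨c.base x, ?_⟩
  rw [← Scheme.Hom.comp_apply, ← hc.w, Scheme.Hom.comp_apply, hx, hq]

theorem cellPt_normalizing_eq {R : Type u} [CommRing R] {f : Spec (CommRingCat.of R) ⟶ S} [IsOpenImmersion f]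
    {A : Type u} [CommRing A] [HopfAlgebra R A] (Md : Model f G A) {B : Type u} [CommRing B] [Algebra R B]
    (y : Fin n → B) (χ : Multiplicative D.M →* B) (x : Fin m → B)
    (h : ∃ t' : tObj f B[D.M] ⟶ D.T,
      (tMap f (AddMonoidAlgebra.singleZeroAlgHom (R := R) (A := B) (M := D.M)) ≫ cellPt f D y χ x ≫ RedSub.cellMap D eneg epos) *
        torG D (univChar B D.M) *
        (tMap f (AddMonoidAlgebra.singleZeroAlgHom (R := R) (A := B) (M := D.M)) ≫ cellPt f D y χ x ≫ RedSub.cellMap D eneg epos)⁻¹ =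
          t' ≫ D.i) :
    cellPt f D y χ x ≫ RedSub.cellMap D eneg epos =
      (cellPt f D y χ x ≫ snd _ _ ≫ fst _ _) ≫ D.i := by
  obtain ⟨lam, hlam⟩ := exists_isRegular D.P b
  have hE := isSignEnum_of D b Md hlam hneg hpos
  set F := Md.frame D
  set Dl := F.cochar lam
  obtain ⟨t', ht'⟩ := h
  have hi : IsIso D.split.inv.hom.hom := ((Grp.forget _).mapIso D.split.symm).isIso_hom
  obtain ⟨ψ, hψ⟩ := (chPt_bijective f).surjective (t' ≫ inv D.split.inv.hom.hom)
  have hψ' : t' ≫ D.i = torG D ψ := by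
    rw [torG, hψ, Category.assoc, IsIso.inv_hom_id_assoc]
  set s0 := AddMonoidAlgebra.singleZeroAlgHom (R := R) (A := B) (M := D.M)
  set a := F.prodPt eneg y
  set c := F.prodPt epos x
  set z := F.T.tor χ
  set t := F.T.tor (univChar B D.M)
  rw [Md.cellPt_cellMap, hψ'] at ht'
  rw [← Md.pt_map, ← Md.pt_inv, ← Md.pt_tor D, ← Md.pt_tor D, ← Md.pt_mul, ← Md.pt_mul] at ht'
  have h1 := Md.pt_bijective.injective ht'
  rw [mul_inv_eq_iff_eq_mul, map_mul, map_mul] at h1
  have ha : Dl.inv.InU (mapPt s0 a) := (F.neg_inU hE y).map _ s0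
  have hc : Dl.InU (mapPt s0 c) := (F.prodPt_inU lam _ hE.pos x).map _ s0
  have hz : Dl.InZ (mapPt s0 z) := by rw [F.T.mapPt_tor]; exact F.cochar_inZ_tor lam _
  have ht : Dl.InZ t := F.cochar_inZ_tor lam _
  have htψ : Dl.InZ (F.T.tor ψ) := F.cochar_inZ_tor lam _
  have hcz : mapPt s0 z * t = t * mapPt s0 z := by
    rw [F.T.mapPt_tor, ← map_mul, ← map_mul, mul_comm]
  have hψz : F.T.tor ψ * mapPt s0 z = mapPt s0 z * F.T.tor ψ := by
    rw [F.T.mapPt_tor, ← map_mul, ← map_mul, mul_comm]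
  have hc' : Dl.InU (t⁻¹ * mapPt s0 c * t) := by
    have := Coact.InU.conj Dl (g := mapPt s0 c) (ht.inv (D := Dl)) hc
    rwa [inv_inv] at this
  have ha' : Dl.inv.InU (F.T.tor ψ * mapPt s0 a * (F.T.tor ψ)⁻¹) :=
    Coact.InU.conj Dl.inv (by rw [F.inv_cochar]; exact F.cochar_inZ_tor (-lam) ψ) ha
  have hzt : Dl.InZ (mapPt s0 z * t) := by rw [F.T.mapPt_tor, ← map_mul]; exact F.cochar_inZ_tor lam _
  have hψzz : Dl.InZ (F.T.tor ψ * mapPt s0 z) := by rw [F.T.mapPt_tor, ← map_mul]; exact F.cochar_inZ_tor lam _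
  obtain ⟨e1, e2, e3⟩ := Dl.cell_inj ha ha' hzt hψzz hc' hc (by
    calc mapPt s0 a * (mapPt s0 z * t) * (t⁻¹ * mapPt s0 c * t)
        = mapPt s0 a * mapPt s0 z * mapPt s0 c * t := by group
      _ = F.T.tor ψ * (mapPt s0 a * mapPt s0 z * mapPt s0 c) := h1
      _ = F.T.tor ψ * mapPt s0 a * (F.T.tor ψ)⁻¹ * (F.T.tor ψ * mapPt s0 z) * mapPt s0 c := by group)
  have eψ : F.T.tor ψ = t := by
    rw [hψz] at e2
    exact (mul_left_cancel e2).symm
  rw [eψ] at e1
  have hcZ : F.T.coact.InZ c := by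
    rw [Coact.inZ_iff, F.T.act_eq]
    show t * mapPt s0 c * t⁻¹ = mapPt s0 c
    rw [mul_inv_eq_iff_eq_mul]
    conv_lhs => rw [← e3]
    group
  have haZ : F.T.coact.InZ a := by
    rw [Coact.inZ_iff, F.T.act_eq]
    exact e1.symm
  have hpush : ∀ {g : Pt R A B} (l : D.M →+ ℤ), F.T.coact.InZ g → (F.cochar l).InZ g := by
    intro g l hg
    rw [Coact.inZ_iff] at hg ⊢
    rw [Coact.act_push, hg, mapPt_mapPt]
    congr 1
    ext x; simp
  have hc1 : c = 1 := Coact.eq_one_of_inP_inU Dl.inv (Coact.inv_inP_of_inZ Dl (hpush lam hcZ)) (by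
    rw [F.inv_cochar, F.inv_cochar, neg_neg]; exact F.prodPt_inU lam _ hE.pos x)
  have ha1 : a = 1 := Coact.eq_one_of_inP_inU Dl (Coact.InZ.inP Dl (hpush lam haZ)) (F.neg_inU hE y)
  rw [Md.cellPt_cellMap, show F.prodPt eneg y = 1 from ha1, show F.prodPt epos x = 1 from hc1, one_mul, mul_one, Md.pt_tor, torG]
  simp [cellPt]

end Groth.Agent.BigCell29
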