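import Groth.Agent.BigCell29.Tangent
import Mathlib.RingTheory.Smooth.Basic

/-!
# Lifting fixed and attracted points along square-zero extensions
-/

set_option autoImplicit false

universe u

open TensorProduct WithConv Finsupp
open scoped AddMonoidAlgebra

namespace Groth.Agent.BigCell29

variable {R : Type u} [CommRing R] {A : Type u} [CommRing A] [HopfAlgebra R A]
  {B C : Type u} [CommRing B] [Algebra R B] [CommRing C] [Algebra R C]
  {Γ : Type} [AddCommGroup Γ]

/-- The square-zero condition on a map of algebras. -/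
def SqZero (φ : B →ₐ[R] C) : Prop := ∀ x y : B, φ x = 0 → φ y = 0 → x * y = 0

theorem SqZero.ker {φ : B →ₐ[R] C} (h : SqZero φ) :
    ∀ x ∈ RingHom.ker φ.toRingHom, ∀ y ∈ RingHom.ker φ.toRingHom, x * y = (0 : B) :=
  fun x hx y hy => h x y hx hy

theorem SqZero.mapAlgHom {φ : B →ₐ[R] C} (h : SqZero φ) (Γ : Type) [AddCommGroup Γ] :
    SqZero (AddMonoidAlgebra.mapAlgHom Γ φ) := by
  classical
  intro x y hx hy
  have hc : ∀ {z : B[Γ]}, AddMonoidAlgebra.mapAlgHom Γ φ z = 0 → ∀ n, φ (z.coeff n) = 0 := by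
    intro z hz n
    have := congrArg (fun w : C[Γ] => w.coeff n) hz
    simpa using this
  refine AddMonoidAlgebra.coeff_injective (Finsupp.ext fun n => ?_)
  rw [AddMonoidAlgebra.coeff_mul_apply_left, Finsupp.sum]
  simpa using Finset.sum_eq_zero fun i _ => h _ _ (hc hx i) (hc hy _)

/-- A tangent vector seen through the coefficient functionals. -/
noncomputable def coeffL (n : Γ) : B[Γ] →ₗ[R] B where
  toFun x := x.coeff n
  map_add' _ _ := by simp
  map_smul' _ _ := by simp

@[simp] theorem coeffL_apply (n : Γ) (x : B[Γ]) : coeffL (R := R) n x = x.coeff n := rfl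

theorem eps_coeff (a : A) (n : Γ) [DecidableEq Γ] :
    (algebraMap R B[Γ] (Coalgebra.counit a)).coeff n =
      if n = 0 then algebraMap R B (Coalgebra.counit a) else 0 := by
  simp [AddMonoidAlgebra.coe_algebraMap, Finsupp.single_apply, eq_comm]

theorem tanOf_mul {φ : B →ₐ[R] C} (h : SqZero φ) {k k' : Pt R A B} (hk : mapPt φ k = 1)
    (hk' : mapPt φ k' = 1) : tanOf (k * k') = tanOf k + tanOf k' := by
  obtain ⟨d, hd, rfl⟩ := exists_tanPt h.ker rfl hk
  obtain ⟨d', hd', rfl⟩ := exists_tanPt h.ker rfl hk'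
  ext a
  simp [tanPt_mul, add_comm]

/-- The diagonal map `z ↦ z ⊗ z`. -/
noncomputable def diagMap : B[Γ] →ₐ[R] B[Γ][Γ] :=
  ((AddMonoidAlgebra.lift B B[Γ][Γ] Γ)
    { toFun := fun m => AddMonoidAlgebra.single m.toAdd (AddMonoidAlgebra.single m.toAdd 1)
      map_one' := by simp [AddMonoidAlgebra.one_def]
      map_mul' := fun a b => by simp [AddMonoidAlgebra.single_mul_single] }).restrictScalars R

theorem diagMap_single (m : Γ) (r : B) :
    diagMap (R := R) (AddMonoidAlgebra.single m r) = AddMonoidAlgebra.single m (AddMonoidAlgebra.single m r) := by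
  simp [diagMap, AddMonoidAlgebra.smul_single]

theorem diagMap_coeff [DecidableEq Γ] (x : B[Γ]) (m n : Γ) :
    ((diagMap (R := R) x).coeff m).coeff n = if m = n then x.coeff m else 0 := by
  induction x using AddMonoidAlgebra.induction_linear with
  | zero => simp
  | add x y hx hy => rw [map_add]; simp [hx, hy]; split_ifs <;> simp
  | single l r =>
    rw [diagMap_single]
    by_cases h : l = m <;> by_cases h' : m = n <;> simp_all [Finsupp.single_apply]

variable (D : Coact R A Γ)

theorem Coact.act_map (φ : B →ₐ[R] C) (g : Pt R A B) :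
    D.act (mapPt φ g) = mapPt (AddMonoidAlgebra.mapAlgHom Γ φ) (D.act g) :=
  pt_ext fun a => AddMonoidAlgebra.coeff_injective (Finsupp.ext fun n => by simp)

theorem Coact.act_act (g : Pt R A B) : D.act (D.act g) = mapPt diagMap (D.act g) := by
  classical
  refine pt_ext fun a => AddMonoidAlgebra.coeff_injective (Finsupp.ext fun m =>
    AddMonoidAlgebra.coeff_injective (Finsupp.ext fun n => ?_))
  rw [mapPt_apply, diagMap_coeff, D.act_coeff, D.act_coeff, D.p_p, D.act_coeff, apply_ite g.ofConv, map_zero]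

theorem Coact.tanOf_act (k : Pt R A B) (a : A) (n : Γ) :
    (tanOf (D.act k) a).coeff n = tanOf k (D.p n a) := by
  classical
  simp only [tanOf_apply, AddMonoidAlgebra.coeff_sub, Finsupp.coe_sub, Pi.sub_apply, D.act_coeff, D.counit_p,
    eps_coeff]
  split_ifs <;> simp

theorem tanOf_mapPt (φ : B →ₐ[R] C) (k : Pt R A B) (a : A) :
    tanOf (mapPt φ k) a = φ (tanOf k a) := by simp

theorem tanOf_tanPt {I : Ideal B} (hI : ∀ x ∈ I, ∀ y ∈ I, x * y = (0 : B)) {d : A →ₗ[R] B} (h : IsTan I d) :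
    tanOf (tanPt hI h) = d := by ext a; simp

theorem isTan_coeff {φ : B →ₐ[R] C} (h : SqZero φ) {κ : Pt R A B[Γ]}
    (hκ : mapPt (AddMonoidAlgebra.mapAlgHom Γ φ) κ = 1) (n : Γ) :
    IsTan (RingHom.ker φ.toRingHom) (coeffL n ∘ₗ tanOf κ) := by
  classical
  have hd := isTan_tanOf (h.mapAlgHom Γ).ker rfl hκ
  refine ⟨fun a => ?_, fun a b => ?_⟩
  · have := congrArg (fun w : C[Γ] => w.coeff n)
      (hd.mem a : (AddMonoidAlgebra.mapAlgHom Γ φ) (tanOf κ a) = 0)
    simp only [AddMonoidAlgebra.coeff_mapAlgHom, AddMonoidAlgebra.coeff_zero, Finsupp.coe_zero,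
      Pi.zero_apply] at this
    exact this
  · show (tanOf κ (a * b)).coeff n = _
    rw [hd.leibniz]
    simp [AddMonoidAlgebra.coe_algebraMap]

theorem tanOf_ext {k k' : Pt R A B} (h : ∀ a, tanOf k a = tanOf k' a) : k = k' :=
  pt_ext fun a => by simpa using h a

/-- A fixed point modulo a square-zero ideal lifts to a fixed point, by a correction of any lift. -/
theorem Coact.exists_inZ_lift {φ : B →ₐ[R] C} (h : SqZero φ) (g : Pt R A B) (hg : D.InZ (mapPt φ g)) :
    ∃ g' : Pt R A B, D.InZ g' ∧ mapPt φ g' = mapPt φ g := by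
  classical
  let c₀ : B →ₐ[R] B[Γ] := AddMonoidAlgebra.singleZeroAlgHom
  let φ' := AddMonoidAlgebra.mapAlgHom Γ φ
  let φ'' := AddMonoidAlgebra.mapAlgHom Γ φ'
  let κ := (mapPt c₀ g)⁻¹ * D.act g
  have hκ : mapPt φ' κ = 1 := by
    rw [map_mul, map_inv, ← D.act_map, (D.inZ_iff _).mp hg, inv_mul_eq_one]
    exact pt_ext fun a => by simp [φ', c₀]
  let K : Γ → A →ₗ[R] B := fun n => coeffL n ∘ₗ tanOf κ
  have hK : ∀ n, IsTan (RingHom.ker φ.toRingHom) (K n) := isTan_coeff h hκ
  let k := tanPt h.ker (hK 0)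
  have hk : mapPt φ k = 1 := mapPt_tanPt h.ker rfl (hK 0)
  refine ⟨g * k, ?_, by rw [map_mul, hk, mul_one]⟩
  rw [D.inZ_iff, map_mul, map_mul]
  have hmap : mapPt φ' (D.act k) = 1 := by rw [← D.act_map, hk, map_one]
  have hcκ : mapPt φ'' (mapPt (AddMonoidAlgebra.mapAlgHom Γ c₀) κ) = 1 := by
    rw [mapPt_mapPt]
    have e : φ''.comp (AddMonoidAlgebra.mapAlgHom Γ c₀) =
        (AddMonoidAlgebra.mapAlgHom Γ AddMonoidAlgebra.singleZeroAlgHom).comp φ' := by
      simp only [φ'', φ', c₀, ← AddMonoidAlgebra.mapRangeAlgHom_comp]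
      congr 1
      ext x; simp
    rw [e, ← mapPt_mapPt, hκ, map_one]
  have hactκ : mapPt φ'' (D.act κ) = 1 := by rw [← D.act_map, hκ, map_one]
  have key : mapPt (AddMonoidAlgebra.mapAlgHom Γ c₀) κ * D.act κ = mapPt diagMap κ := by
    have h1 : D.act (D.act g) = D.act (mapPt c₀ g) * D.act κ := by rw [← map_mul, mul_inv_cancel_left]
    have h2 : D.act g = mapPt c₀ g * κ := by simp [κ]
    rw [D.act_act, D.act_map] at h1
    conv_lhs at h1 => rw [h2, map_mul]
    conv_rhs at h1 => rw [h2, map_mul]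
    have h3 : mapPt diagMap (mapPt c₀ g) = mapPt (AddMonoidAlgebra.mapAlgHom Γ c₀) (mapPt c₀ g) :=
      pt_ext fun a => by simp [c₀, diagMap_single]
    rw [h3, mul_assoc] at h1
    exact (mul_left_cancel h1).symm
  have keyt : ∀ a m n, (if n = 0 then K m a else 0) + K n (D.p m a) = if m = n then K m a else 0 := by
    intro a m n
    have e := congrArg (fun q : Pt R A B[Γ][Γ] => ((tanOf q a).coeff m).coeff n) key
    simp only [tanOf_mul ((h.mapAlgHom Γ).mapAlgHom Γ) hcκ hactκ, LinearMap.add_apply, tanOf_mapPt,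
      AddMonoidAlgebra.coeff_add, Finsupp.coe_add, Pi.add_apply, diagMap_coeff, D.tanOf_act,
      AddMonoidAlgebra.coeff_mapAlgHom] at e
    show (if n = 0 then (tanOf κ a).coeff m else 0) + (tanOf κ (D.p m a)).coeff n =
      if m = n then (tanOf κ a).coeff m else 0
    rw [← e]
    congr 1
    by_cases hn : n = 0
    · subst hn; simp [c₀, K, coeffL_apply, -tanOf_apply]
    · simp [c₀, hn, Ne.symm hn, -tanOf_apply]
  have fin : κ * D.act k = mapPt c₀ k := by
    refine tanOf_ext fun a => AddMonoidAlgebra.coeff_injective (Finsupp.ext fun n => ?_)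
    rw [tanOf_mul (h.mapAlgHom Γ) hκ hmap, tanOf_mapPt, tanOf_tanPt, LinearMap.add_apply,
      AddMonoidAlgebra.coeff_add, Finsupp.add_apply, D.tanOf_act, tanOf_tanPt]
    show K n a + K 0 (D.p n a) = (c₀ (K 0 a)).coeff n
    have k1 := keyt a n 0
    simp only [if_true] at k1
    rw [k1]
    by_cases hn : n = 0
    · subst hn; simp [c₀]
    · simp [c₀, hn, Ne.symm hn]
  rw [← fin, ← mul_assoc]
  congr 1
  exact (mul_inv_cancel_left _ _).symm

end Groth.Agent.BigCell29
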