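import Groth.Agent.BigCell29.Lift

/-!
# Lifting attracted points along square-zero extensions
-/

set_option autoImplicit false

universe u

open TensorProduct WithConv Finsupp
open scoped AddMonoidAlgebra

namespace Groth.Agent.BigCell29

variable {R : Type u} [CommRing R] {A : Type u} [CommRing A] [HopfAlgebra R A]
  {B C : Type u} [CommRing B] [Algebra R B] [CommRing C] [Algebra R C]
  {Γ : Type} [AddCommGroup Γ]

/-- Exchange of the two variables. -/
noncomputable def swap2 {M N : Type} [AddCommGroup M] [AddCommGroup N] : B[M][N] →ₐ[R] B[N][M] :=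
  (AddMonoidAlgebra.commAlgEquiv (R := R) : B[M][N] ≃ₐ[R] B[N][M]).toAlgHom

theorem swap2_coeff {M N : Type} [AddCommGroup M] [AddCommGroup N] (x : B[M][N]) (m : M) (n : N) :
    ((swap2 (R := R) x).coeff m).coeff n = (x.coeff n).coeff m := by
  induction x using AddMonoidAlgebra.induction_linear with
  | zero => simp
  | add x y hx hy => rw [map_add]; simp [hx, hy]
  | single l r =>
    induction r using AddMonoidAlgebra.induction_linear with
    | zero => simp
    | add r s hr hs => rw [AddMonoidAlgebra.single_add, map_add]; simp [hr, hs]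
    | single j b =>
      by_cases h : l = n <;> by_cases h' : j = m <;> simp_all [swap2, Finsupp.single_apply]

theorem swap2_injective {M N : Type} [AddCommGroup M] [AddCommGroup N] :
    Function.Injective (swap2 (R := R) (B := B) (M := M) (N := N)) :=
  (AddMonoidAlgebra.commAlgEquiv (R := R) : B[M][N] ≃ₐ[R] B[N][M]).injective

variable (R B) in
/-- The value at `0`. -/
noncomputable def ev0 : nonneg R B →ₐ[R] B where
  toFun x := (x : B[ℤ]).coeff 0
  map_one' := by
    show (1 : B[ℤ]).coeff 0 = 1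
    rw [AddMonoidAlgebra.one_def, AddMonoidAlgebra.coeff_single, Finsupp.single_eq_same]
  map_mul' x y := coeff_zero_mul x.2 y.2
  map_zero' := by simp
  map_add' x y := by simp
  commutes' r := by simp [AddMonoidAlgebra.coe_algebraMap]

variable (R B) in
/-- The constants. -/
noncomputable def cst0 : B →ₐ[R] nonneg R B :=
  AddMonoidAlgebra.singleZeroAlgHom.codRestrict (nonneg R B) fun b n hn => by
    simp [hn.ne]

@[simp] theorem ev0_apply (x : nonneg R B) : ev0 R B x = (x : B[ℤ]).coeff 0 := rfl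

@[simp] theorem cst0_val (b : B) : (cst0 R B b : B[ℤ]) = AddMonoidAlgebra.single 0 b := rfl

theorem ev0_cst0 (b : B) : ev0 R B (cst0 R B b) = b := by simp

/-- Laurent points with value `1` at `0` and no pole there. -/
def IsPos (q : Pt R A B[ℤ]) : Prop :=
  ∃ h : Pt R A (nonneg R B), mapPt (ev0 R B) h = 1 ∧ mapPt (nonneg R B).val h = q

theorem IsPos.one : IsPos (1 : Pt R A B[ℤ]) := ⟨1, map_one _, map_one _⟩

theorem IsPos.mul {q q' : Pt R A B[ℤ]} (h : IsPos q) (h' : IsPos q') : IsPos (q * q') := by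
  obtain ⟨a, ha, rfl⟩ := h
  obtain ⟨b, hb, rfl⟩ := h'
  exact ⟨a * b, by rw [map_mul, ha, hb, mul_one], map_mul _ _ _⟩

theorem IsPos.inv {q : Pt R A B[ℤ]} (h : IsPos q) : IsPos q⁻¹ := by
  obtain ⟨a, ha, rfl⟩ := h
  exact ⟨a⁻¹, by rw [map_inv, ha, inv_one], map_inv _ _⟩

theorem isPos_iff (q : Pt R A B[ℤ]) :
    IsPos q ↔ (∀ a (n : ℤ), n < 0 → (q a).coeff n = 0) ∧
      ∀ a, (q a).coeff 0 = algebraMap R B (Coalgebra.counit a) := by
  constructor
  · rintro ⟨h, h1, rfl⟩
    refine ⟨fun a n hn => (h a).2 n hn, fun a => ?_⟩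
    have := DFunLike.congr_fun (congrArg WithConv.ofConv h1) a
    simp only [mapPt_apply, ev0_apply, AlgHom.convOne_apply] at this
    exact this
  · rintro ⟨h1, h2⟩
    refine ⟨toConv (q.ofConv.codRestrict (nonneg R B) fun a n hn => h1 a n hn), pt_ext fun a => ?_, rfl⟩
    simp only [mapPt_apply, ev0_apply, AlgHom.convOne_apply]
    exact h2 a

variable (D : Coact R A ℤ)

theorem Coact.isPos_act_iff (g : Pt R A B) : IsPos (D.act g) ↔ D.InU g := by
  simp [isPos_iff, Coact.InU, Coact.InP]

/-- The map induced on Laurent polynomials without negative powers. -/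
noncomputable def nonnegMap (φ : B →ₐ[R] C) : nonneg R B →ₐ[R] nonneg R C :=
  ((AddMonoidAlgebra.mapAlgHom ℤ φ).comp (nonneg R B).val).codRestrict (nonneg R C) fun x n hn => by
    simp [x.2 n hn]

@[simp] theorem nonnegMap_val (φ : B →ₐ[R] C) (x : nonneg R B) :
    (nonnegMap φ x : C[ℤ]) = AddMonoidAlgebra.mapAlgHom ℤ φ (x : B[ℤ]) := rfl

theorem nonnegMap_surjective {φ : B →ₐ[R] C} (hφ : Function.Surjective φ) :
    Function.Surjective (nonnegMap φ) := by
  classical
  intro x
  let s : C → B := fun c => if c = 0 then 0 else Function.surjInv hφ c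
  have hs : ∀ c, φ (s c) = c := fun c => by
    by_cases h : c = 0
    · simp [s, h]
    · simp [s, h, Function.surjInv_eq hφ c]
  refine ⟨⟨.ofCoeff (Finsupp.mapRange s (by simp [s]) (x : C[ℤ]).coeff), fun n hn => by simp [x.2 n hn, s]⟩, ?_⟩
  refine Subtype.ext (AddMonoidAlgebra.coeff_injective (Finsupp.ext fun n => ?_))
  simp [hs]

variable [Algebra.FormallySmooth R A]

/-- Lifting of points along a square-zero surjection. -/
theorem exists_lift {φ : B →ₐ[R] C} (h : SqZero φ) (hφ : Function.Surjective φ) (g : Pt R A C) :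
    ∃ g' : Pt R A B, mapPt φ g' = g := by
  refine ⟨toConv (Algebra.FormallySmooth.liftOfSurjective g.ofConv φ hφ ⟨2, ?_⟩), ?_⟩
  · rw [pow_two]
    refine le_antisymm (Ideal.mul_le.mpr fun x hx y hy => ?_) bot_le
    simp [h x y hx hy]
  · exact pt_ext fun a => Algebra.FormallySmooth.liftOfSurjective_apply _ _ _ _ a

theorem exists_pos_lift {φ : B →ₐ[R] C} (h : SqZero φ) (hφ : Function.Surjective φ) {q : Pt R A C[ℤ]}
    (hq : IsPos q) : ∃ q' : Pt R A B[ℤ], IsPos q' ∧ mapPt (AddMonoidAlgebra.mapAlgHom ℤ φ) q' = q := by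
  obtain ⟨hb, hb1, rfl⟩ := hq
  have hsq : SqZero (nonnegMap φ) := fun x y hx hy =>
    Subtype.ext (h.mapAlgHom ℤ x.1 y.1 (congrArg Subtype.val hx) (congrArg Subtype.val hy))
  obtain ⟨h0, hh0⟩ := exists_lift hsq (nonnegMap_surjective hφ) hb
  let h1 := h0 * (mapPt (cst0 R B) (mapPt (ev0 R B) h0))⁻¹
  refine ⟨_, ⟨h1, ?_, rfl⟩, ?_⟩
  · simp only [h1, map_mul, map_inv]
    rw [mul_inv_eq_one]
    refine pt_ext fun a => ?_
    simp
  · have e : mapPt (nonnegMap φ) h1 = hb := by
      simp only [h1, map_mul, map_inv, hh0]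
      rw [mul_eq_left, inv_eq_one]
      have : mapPt φ (mapPt (ev0 R B) h0) = 1 := by
        rw [← hb1, ← hh0]
        exact pt_ext fun a => by simp
      rw [← map_one (mapPt (cst0 R C)), ← this]
      exact pt_ext fun a => Subtype.ext (AddMonoidAlgebra.mapAlgHom_single φ 0 _)
    rw [← e]
    exact pt_ext fun a => rfl

/-- An attracted point modulo a square-zero ideal lifts to an attracted point. -/
theorem Coact.exists_inU_lift {φ : B →ₐ[R] C} (h : SqZero φ) (hφ : Function.Surjective φ) (gbar : Pt R A C)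
    (hg : D.InU gbar) : ∃ g' : Pt R A B, D.InU g' ∧ mapPt φ g' = gbar := by
  classical
  obtain ⟨g, rfl⟩ := exists_lift h hφ gbar
  obtain ⟨H, hH, hHm⟩ := exists_pos_lift h hφ ((D.isPos_act_iff _).mpr hg)
  let φ' := AddMonoidAlgebra.mapAlgHom ℤ φ
  let φ'' := AddMonoidAlgebra.mapAlgHom ℤ φ'
  let κ := H⁻¹ * D.act g
  have hκ : mapPt φ' κ = 1 := by rw [map_mul, map_inv, hHm, D.act_map, inv_mul_cancel]
  let K : ℤ → A →ₗ[R] B := fun n => coeffL n ∘ₗ tanOf κ
  have hK : ∀ n, IsTan (RingHom.ker φ.toRingHom) (K n) := isTan_coeff h hκ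
  let d := -gradedSum D (fun n => n ≤ 0) K
  have hd : IsTan (RingHom.ker φ.toRingHom) d := (IsTan.gradedSum D _ K fun n _ => (hK n).comp_p D n).neg
  let k := tanPt h.ker hd
  have hk : mapPt φ k = 1 := mapPt_tanPt h.ker rfl hd
  refine ⟨g * k, (D.isPos_act_iff _).mp ?_, by rw [map_mul, hk, mul_one]⟩
  have hmap : mapPt φ' (D.act k) = 1 := by rw [← D.act_map, hk, map_one]
  have hactκ : mapPt φ'' (D.act κ) = 1 := by rw [← D.act_map, hκ, map_one]
  have hdκ : mapPt φ'' (mapPt diagMap κ) = 1 := by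
    rw [mapPt_mapPt]
    have e : φ''.comp diagMap = (diagMap (R := R) (B := C)).comp φ' := by
      refine AlgHom.ext fun x => ?_
      induction x using AddMonoidAlgebra.induction_linear with
      | zero => simp
      | add x y hx hy => rw [map_add, map_add, hx, hy]
      | single l r =>
        rw [AlgHom.comp_apply, AlgHom.comp_apply, diagMap_single, AddMonoidAlgebra.mapAlgHom_single,
          AddMonoidAlgebra.mapAlgHom_single, diagMap_single]
    rw [e, ← mapPt_mapPt, hκ, map_one]
  let q := (D.act H)⁻¹ * mapPt diagMap H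
  have key : q * mapPt diagMap κ = D.act κ := by
    have h1 : D.act g = H * κ := by simp [κ]
    have h2 : D.act (D.act g) = D.act H * D.act κ := by rw [h1, map_mul]
    rw [D.act_act, h1, map_mul] at h2
    rw [mul_assoc, h2, inv_mul_cancel_left]
  have hq : IsPos (mapPt swap2 q) := by
    obtain ⟨hH1, hH2⟩ := (isPos_iff H).mp hH
    rw [map_mul, map_inv]
    refine IsPos.mul (IsPos.inv ?_) ?_ <;> refine (isPos_iff _).mpr ⟨fun a n hn => ?_, fun a => ?_⟩ <;>
      refine AddMonoidAlgebra.coeff_injective (Finsupp.ext fun m => ?_) <;>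
      rw [mapPt_apply, swap2_coeff]
    · simp [hH1 _ n hn]
    · simp [hH2, D.counit_p, AddMonoidAlgebra.coe_algebraMap, Finsupp.single_apply, eq_comm]
      split_ifs <;> simp
    · rw [mapPt_apply, diagMap_coeff]
      split_ifs with e
      · subst e; simp [hH1 _ _ hn]
      · simp
    · rw [mapPt_apply, diagMap_coeff, eps_coeff]
      split_ifs with e
      · subst e; exact hH2 a
      · rfl
  have hkerq : mapPt φ'' q = 1 := by
    rw [show q = D.act κ * (mapPt diagMap κ)⁻¹ by rw [← key, mul_inv_cancel_right], map_mul, map_inv, hactκ,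
      hdκ, inv_one, mul_one]
  have keyt : ∀ a, ∀ n : ℤ, n ≤ 0 → K n (D.p n a) = K n a := by
    intro a n hn
    have e := congrArg (fun q : Pt R A B[ℤ][ℤ] => ((tanOf q a).coeff n).coeff n) key
    simp only [tanOf_mul ((h.mapAlgHom ℤ).mapAlgHom ℤ) hkerq hdκ, LinearMap.add_apply, tanOf_mapPt,
      AddMonoidAlgebra.coeff_add, Finsupp.coe_add, Pi.add_apply, diagMap_coeff, D.tanOf_act, if_pos] at e
    show (tanOf κ (D.p n a)).coeff n = (tanOf κ a).coeff n
    rw [← e, add_eq_right]
    obtain ⟨hq1, hq2⟩ := (isPos_iff _).mp hq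
    rcases hn.lt_or_eq with hn | rfl
    · have := congrArg (fun x : B[ℤ] => x.coeff n) (hq1 a n hn)
      simp only [mapPt_apply, swap2_coeff, AddMonoidAlgebra.coeff_zero, Finsupp.coe_zero, Pi.zero_apply] at this
      simp [eps_coeff, this, hn.ne]
    · have := congrArg (fun x : B[ℤ] => x.coeff 0) (hq2 a)
      simp only [mapPt_apply, swap2_coeff, eps_coeff, if_pos] at this
      simp [eps_coeff, this]
  rw [map_mul, show D.act g = H * κ by simp [κ], mul_assoc]
  refine hH.mul ((isPos_iff _).mpr ?_)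
  have tn : ∀ a, ∀ n : ℤ, n ≤ 0 → (tanOf (κ * D.act k) a).coeff n = 0 := by
    intro a n hn
    rw [tanOf_mul (h.mapAlgHom ℤ) hκ hmap, LinearMap.add_apply, AddMonoidAlgebra.coeff_add, Finsupp.add_apply,
      D.tanOf_act, tanOf_tanPt]
    show K n a + (-gradedSum D (fun n => n ≤ 0) K) (D.p n a) = 0
    rw [LinearMap.neg_apply, gradedSum_p, if_pos hn, keyt a n hn, add_neg_cancel]
  refine ⟨fun a n hn => ?_, fun a => ?_⟩
  · simpa [eps_coeff, hn.ne] using tn a n hn.le
  · simpa [eps_coeff, sub_eq_zero] using tn a 0 le_rfl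

end Groth.Agent.BigCell29
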