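import Groth.Agent.BigCell29.Pt
import Groth.Agent.DSPtsLib.Basic

/-!
# Affine models of schemes over an affine piece of the base, and their points
-/

set_option autoImplicit false

universe u

open CategoryTheory CategoryTheory.Limits MonoidalCategory CartesianMonoidalCategory AlgebraicGeometry WithConv
open scoped MonObj

namespace Groth.Agent.BigCell29

open GrpSchLib.AffineHopf DSPtsLib

variable {S : Scheme.{u}} {R : Type u} [CommRing R] (f : Spec (CommRingCat.of R) ⟶ S)
  {B C D : Type u} [CommRing B] [Algebra R B] [CommRing C] [Algebra R C] [CommRing D] [Algebra R D]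

/-- An `R`-algebra as a test object over `S`. -/
noncomputable abbrev tObj (B : Type u) [CommRing B] [Algebra R B] : Over S :=
  Over.mk (Spec.map (CommRingCat.ofHom (algebraMap R B)) ≫ f)

/-- The map of test objects of an algebra map. -/
noncomputable def tMap (φ : B →ₐ[R] C) : tObj f C ⟶ tObj f B :=
  Over.homMk (Spec.map (CommRingCat.ofHom φ.toRingHom)) (by
    show Spec.map _ ≫ Spec.map _ ≫ f = _
    rw [← Spec.map_comp_assoc, ← CommRingCat.ofHom_comp, AlgHom.toRingHom_eq_coe, φ.comp_algebraMap]; rfl)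

theorem tMap_comp (φ : B →ₐ[R] C) (ψ : C →ₐ[R] D) : tMap f ψ ≫ tMap f φ = tMap f (ψ.comp φ) :=
  Over.OverMorphism.ext ((Spec.map_comp _ _).symm)

theorem tMap_id : tMap f (AlgHom.id R B) = 𝟙 _ :=
  Over.OverMorphism.ext (Spec.map_id _)

theorem tMap_eq (φ : B →ₐ[R] C) : tMap f φ = (Over.map f).map (spMap φ) := rfl

theorem theta_spMap {X : Over S} (φ : B →ₐ[R] C) (a : sp R B ⟶ Red.bc f X) :
    theta f (spMap φ ≫ a) = tMap f φ ≫ theta f a := by
  rw [theta_comp]; rfl

/-- Every morphism of spectra over the base comes from an algebra map. -/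
theorem exists_eq_spMap' (g : sp R B ⟶ sp R C) : ∃ φ : C →ₐ[R] B, g = spMap φ := by
  obtain ⟨h, hh⟩ := Spec.map_surjective g.left
  have w : CommRingCat.ofHom (algebraMap R C) ≫ h = CommRingCat.ofHom (algebraMap R B) := by
    apply Spec.map_injective
    rw [Spec.map_comp, hh]
    exact Over.w g
  exact ⟨⟨h.hom, fun r => congrArg (fun k : CommRingCat.of R ⟶ CommRingCat.of B => k.hom r) w⟩,
    Over.OverMorphism.ext hh.symm⟩

theorem spMap_injective' {φ ψ : C →ₐ[R] B} (h : spMap φ = spMap ψ) : φ = ψ :=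
  AlgHom.coe_ringHom_injective
    (congrArg CommRingCat.Hom.hom (Spec.map_injective (congrArg CommaMorphism.left h)))

/-- An affine scheme over an affine base is the spectrum of an algebra. -/
theorem exists_sp_iso (X : Over (Spec (CommRingCat.of R))) [IsAffine X.left] :
    ∃ (C : Type u) (_ : CommRing C) (_ : Algebra R C), Nonempty (sp R C ≅ X) := by
  obtain ⟨k, hk⟩ := Spec.map_surjective (X.left.isoSpec.inv ≫ X.hom)
  let : Algebra R Γ(X.left, ⊤) := k.hom.toAlgebra
  exact ⟨Γ(X.left, ⊤), inferInstance, inferInstance, ⟨Over.isoMk X.left.isoSpec.symm hk.symm⟩⟩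

/-- Representability on test objects gives an affine model. -/
theorem isIso_of_points {X : Over S} [IsAffine (Red.bc f X).left] (x₀ : tObj f C ⟶ X)
    (h : ∀ (B : Type u) [CommRing B] [Algebra R B], Function.Bijective fun φ : C →ₐ[R] B => tMap f φ ≫ x₀) :
    ∃ c : sp R C ⟶ Red.bc f X, theta f c = x₀ ∧ IsIso c := by
  obtain ⟨c, hc⟩ := (theta_bijective (Y := sp R C) (H := X) f).surjective x₀
  refine ⟨c, hc, ?_⟩
  obtain ⟨C', _, _, ⟨e⟩⟩ := exists_sp_iso (Red.bc f X)
  obtain ⟨s, hs⟩ := (h C').surjective (theta f e.hom)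
  have hs' : spMap s ≫ c = e.hom := by
    apply (theta_bijective f).injective
    rw [theta_spMap, hc]; exact hs
  obtain ⟨t, ht⟩ := exists_eq_spMap' (c ≫ e.inv)
  have e1 : spMap t ≫ spMap s = 𝟙 _ := by
    rw [spMap_comp, ← spMap_id]
    congr 1
    apply (h C).injective
    show tMap f _ ≫ x₀ = tMap f _ ≫ x₀
    rw [← hc, ← theta_spMap, ← theta_spMap, ← spMap_comp, Category.assoc, hs', ← ht, Category.assoc,
      e.inv_hom_id, Category.comp_id, spMap_id, Category.id_comp]
  refine ⟨e.inv ≫ spMap s, ?_, by rw [Category.assoc, hs', e.inv_hom_id]⟩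
  rw [← Category.assoc, ht, e1]

/-- An affine model of a group over a piece of the base. -/
structure Model (G : Over S) [GrpObj G] (A : Type u) [CommRing A] [HopfAlgebra R A] where
  /-- the identification -/
  e : Grp.mk (sp R A) ≅ Grp.mk (Red.bc f G)

theorem exists_model (G : Over S) [GrpObj G] [IsAffineHom G.hom] :
    ∃ (A : Type u) (_ : CommRing A) (_ : HopfAlgebra R A), Nonempty (Model f G A) := by
  have : IsAffineHom (pullback.snd G.hom f) := inferInstance
  have : IsAffine (Red.bc f G).left := isAffine_of_isAffineHom (pullback.snd G.hom f)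
  obtain ⟨A, i1, i2, ⟨e⟩⟩ := exists_hopf (Red.bc f G)
  exact ⟨A, i1, i2, ⟨⟨e⟩⟩⟩

variable {f} {G : Over S} [GrpObj G] {A : Type u} [CommRing A] [HopfAlgebra R A] (Md : Model f G A)

noncomputable abbrev Model.hom : sp R A ⟶ Red.bc f G := Md.e.hom.hom.hom

noncomputable abbrev Model.inv : Red.bc f G ⟶ sp R A := Md.e.inv.hom.hom

theorem Model.hom_inv : Md.hom ≫ Md.inv = 𝟙 _ := congrArg (fun k => k.hom.hom) Md.e.hom_inv_id

theorem Model.inv_hom : Md.inv ≫ Md.hom = 𝟙 _ := congrArg (fun k => k.hom.hom) Md.e.inv_hom_id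

instance : IsIso Md.hom := ⟨Md.inv, Md.hom_inv, Md.inv_hom⟩

/-- The point of `G` on a test object. -/
noncomputable def Model.pt (g : Pt R A B) : tObj f B ⟶ G :=
  theta f (Spec.mapMulEquiv g ≫ Md.hom)

theorem Model.pt_eq (g : Pt R A B) : Md.pt g = theta f (spMap g.ofConv ≫ Md.hom) := rfl

theorem Model.pt_bijective : Function.Bijective (Md.pt : Pt R A B → (tObj f B ⟶ G)) := by
  refine (theta_bijective (Y := sp R B) (H := G) f).comp (Function.Bijective.comp
    (g := fun k : sp R B ⟶ sp R A => k ≫ Md.hom) ⟨fun a b h => ?_, fun b => ⟨b ≫ Md.inv, ?_⟩⟩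
    Spec.mapMulEquiv.bijective)
  · exact (cancel_mono Md.hom).mp h
  · show (b ≫ Md.inv) ≫ Md.hom = b
    rw [Category.assoc, Md.inv_hom, Category.comp_id]

theorem Model.pt_mul (g h : Pt R A B) : Md.pt (g * h) = Md.pt g * Md.pt h := by
  have : IsMonHom Md.hom := Md.e.hom.hom.isMonHom_hom
  show theta f _ = _
  rw [map_mul, MonObj.mul_comp]
  exact theta_mul f _ _

theorem Model.pt_map (φ : B →ₐ[R] C) (g : Pt R A B) : Md.pt (mapPt φ g) = tMap f φ ≫ Md.pt g := by
  rw [Md.pt_eq, Md.pt_eq, ← theta_spMap, ← Category.assoc, spMap_comp]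
  rfl

theorem Model.pt_one : Md.pt (1 : Pt R A B) = 1 := by
  have h := Md.pt_mul (B := B) 1 1
  rw [one_mul] at h
  exact mul_eq_left.mp h.symm

theorem Model.pt_inv (g : Pt R A B) : Md.pt g⁻¹ = (Md.pt g)⁻¹ := by
  rw [eq_inv_iff_mul_eq_one, ← Md.pt_mul, inv_mul_cancel, Md.pt_one]

theorem Model.pt_list_prod (l : List (Pt R A B)) : Md.pt l.prod = (l.map Md.pt).prod := by
  induction l with
  | nil => simp [Md.pt_one]
  | cons a l ih => simp [Md.pt_mul, ih]

/-- The point of `A` of a point of `G`. -/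
noncomputable def Model.ofPt (x : tObj f B ⟶ G) : Pt R A B :=
  (Equiv.ofBijective Md.pt Md.pt_bijective).symm x

@[simp] theorem Model.pt_ofPt (x : tObj f B ⟶ G) : Md.pt (Md.ofPt x) = x :=
  (Equiv.ofBijective Md.pt Md.pt_bijective).apply_symm_apply x

theorem Model.ofPt_eq_iff {x : tObj f B ⟶ G} {g : Pt R A B} : Md.ofPt x = g ↔ x = Md.pt g :=
  ⟨fun h => by rw [← h, Md.pt_ofPt], fun h => Md.pt_bijective.injective (by rw [Md.pt_ofPt, h])⟩

end Groth.Agent.BigCell29
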