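import Groth.Agent.BigCell29.Model
import Groth.Agent.GrpSchLib.GaPts

/-!
# Points of the additive group and of split tori on test objects
-/

set_option autoImplicit false

universe u

open CategoryTheory CategoryTheory.Limits MonoidalCategory CartesianMonoidalCategory AlgebraicGeometry
open scoped MonObj

namespace Groth.Agent.BigCell29

open GrpSchLib

variable {S : Scheme.{u}} {R : Type u} [CommRing R] (f : Spec (CommRingCat.of R) ⟶ S)
  {B C : Type u} [CommRing B] [Algebra R B] [CommRing C] [Algebra R C]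

/-- Global functions of a test object. -/
noncomputable def tVal (B : Type u) [CommRing B] [Algebra R B] : Γ((tObj f B).left, ⊤) ≃+* B :=
  (Scheme.ΓSpecIso (CommRingCat.of B)).commRingCatIsoToRingEquiv

theorem tVal_map (φ : B →ₐ[R] C) (x : Γ((tObj f B).left, ⊤)) :
    tVal f C ((tMap f φ).left.appTop x) = φ (tVal f B x) :=
  congrArg (fun ψ => (ConcreteCategory.hom ψ) x) (Scheme.ΓSpecIso_naturality (CommRingCat.ofHom φ.toRingHom))

/-- A point of the additive group. -/
noncomputable def gaPt (x : B) : tObj f B ⟶ Red.Ga S := GaPts.ptOfFn ((tVal f B).symm x)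

theorem gaFn_gaPt (x : B) : Red.gaFn (gaPt f x) = (tVal f B).symm x := GaPts.gaFn_ptOfFn _

theorem gaPt_bijective : Function.Bijective (gaPt f : B → (tObj f B ⟶ Red.Ga S)) := by
  refine ⟨fun x y h => (tVal f B).symm.injective (by rw [← gaFn_gaPt, h, gaFn_gaPt]), fun p => ?_⟩
  exact ⟨tVal f B (Red.gaFn p), GaPts.gaFn_injective
    ((gaFn_gaPt f _).trans ((tVal f B).symm_apply_apply _))⟩

theorem gaPt_map (φ : B →ₐ[R] C) (x : B) : tMap f φ ≫ gaPt f x = gaPt f (φ x) := by
  refine GaPts.gaFn_injective ?_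
  show Red.gaFn (tMap f φ ≫ gaPt f x) = Red.gaFn (gaPt f (φ x))
  rw [GaPts.gaFn_comp, gaFn_gaPt, gaFn_gaPt]
  apply (tVal f C).injective
  rw [tVal_map, RingEquiv.apply_symm_apply, RingEquiv.apply_symm_apply]

theorem gaPt_add (x y : B) : gaPt f (x + y) = gaPt f x * gaPt f y := by
  refine GaPts.gaFn_injective ?_
  show Red.gaFn _ = Red.gaFn _
  rw [GaPts.gaFn_mul, gaFn_gaPt, gaFn_gaPt, gaFn_gaPt, map_add]

variable {M : Type} [AddCommGroup M]

/-- The ring map of a character. -/
noncomputable def chHom (χ : Multiplicative M →* B) : DSPtsLib.CoordM.{u} M →+* B :=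
  MonoidAlgebra.liftNCRingHom ((algebraMap ℤ B).comp ULift.ringEquiv.toRingHom) χ fun _ _ => .all ..

@[simp] theorem chHom_single (χ : Multiplicative M →* B) (m : Multiplicative M) :
    chHom χ (MonoidAlgebra.single m 1) = χ m := by
  simp [chHom, MonoidAlgebra.liftNCRingHom]

theorem coordM_hom_ext {h h' : DSPtsLib.CoordM.{u} M →+* B}
    (e : ∀ m, h (MonoidAlgebra.single m 1) = h' (MonoidAlgebra.single m 1)) : h = h' :=
  MonoidAlgebra.ringHom_ext (fun r => RingHom.congr_fun (DSPtsLib.ulift_ringHom_ext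
    (h.comp MonoidAlgebra.singleOneRingHom) (h'.comp MonoidAlgebra.singleOneRingHom)) r) e

/-- A point of the diagonalisable group. -/
noncomputable def chPt (χ : Multiplicative M →* B) : tObj f B ⟶ Red.DS S M :=
  DSPtsLib.pt (Spec.map (CommRingCat.ofHom (algebraMap R B)) ≫ f) (chHom χ)

theorem chPt_bijective : Function.Bijective (chPt f : (Multiplicative M →* B) → (tObj f B ⟶ Red.DS S M)) := by
  refine ⟨fun χ χ' h => ?_, fun p => ?_⟩
  · have h' := congrArg (fun k : tObj f B ⟶ Red.DS S M => k.left ≫ pullback.fst _ _) h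
    simp only [chPt, DSPtsLib.pt_fst] at h'
    refine MonoidHom.ext fun m => ?_
    rw [← chHom_single χ, ← chHom_single χ']
    exact RingHom.congr_fun (congrArg CommRingCat.Hom.hom (Spec.map_injective h')) (MonoidAlgebra.single m 1)
  · obtain ⟨h, hh⟩ := DSPtsLib.exists_eq_pt (Spec.map (CommRingCat.ofHom (algebraMap R B)) ≫ f) p
    let χ : Multiplicative M →* B := h.toMonoidHom.comp (MonoidAlgebra.of (ULift.{u} ℤ) (Multiplicative M))
    have e : chHom χ = h := coordM_hom_ext fun m => by simp [χ]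
    refine ⟨χ, ?_⟩
    rw [hh, chPt, e]

theorem chPt_map (φ : B →ₐ[R] C) (χ : Multiplicative M →* B) :
    tMap f φ ≫ chPt f χ = chPt f (φ.toRingHom.toMonoidHom.comp χ) := by
  refine (DSPtsLib.pt_comp (Spec.map (CommRingCat.ofHom (algebraMap R B)) ≫ f) (chHom χ) φ.toRingHom
    (Spec.map (CommRingCat.ofHom (algebraMap R C)) ≫ f) (Over.w (tMap f φ))).trans
    (congrArg _ (coordM_hom_ext fun m => ?_))
  simp

theorem chPt_mul (χ χ' : Multiplicative M →* B) : chPt f (χ * χ') = chPt f χ * chPt f χ' :=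
  (DSPtsLib.pt_mul _ _ _ _ fun m => by simp).symm

theorem gmFn_chPt_chi (χ : Multiplicative M →* B) (a : M) :
    Red.gmFn (chPt f χ ≫ Red.chi S a) = (tVal f B).symm (χ (Multiplicative.ofAdd a)) := by
  apply (tVal f B).injective
  rw [RingEquiv.apply_symm_apply]
  have e1 : (chPt f χ ≫ Red.chi S a).left ≫ pullback.fst _ _ =
      Spec.map (CommRingCat.ofHom ((chHom χ).comp (MonoidAlgebra.mapDomainAlgHom (ULift.{u} ℤ) (ULift.{u} ℤ)
        (AddMonoidHom.toMultiplicative (zmultiplesHom M a : ℤ →+ M))).toRingHom)) := by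
    rw [Over.comp_left, Category.assoc, Red.chi, Red.DSmap, GmPts.pullback_map_left_fst, chPt, ← Category.assoc,
      DSPtsLib.pt_fst, CommRingCat.ofHom_comp, Spec.map_comp]
    rfl
  unfold Red.gmFn
  rw [e1]
  refine (congrArg (tVal f B) (GmPts.specMap_appTop_coordIso_inv _ (GmPts.tPow 1))).trans ?_
  refine ((Scheme.ΓSpecIso (CommRingCat.of B)).commRingCatIsoToRingEquiv.apply_symm_apply _).trans ?_
  simp [GmPts.tPow, MonoidAlgebra.mapDomain_single]

end Groth.Agent.BigCell29
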