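import Mathlib.RingTheory.HopfAlgebra.Convolution
import Mathlib.RingTheory.Bialgebra.Convolution
import Mathlib.Algebra.MonoidAlgebra.Basic

/-!
# Points of a commutative Hopf algebra with values in commutative algebras

`Pt R A B` is the group of `R`-algebra maps `A →ₐ[R] B` under convolution, functorial in `B`.
-/

set_option autoImplicit false

universe u v w

open TensorProduct WithConv

namespace Groth.Agent.BigCell29

/-- The points of `A` with values in `B`. -/
abbrev Pt (R : Type u) (A : Type v) (B : Type w) [CommRing R] [CommRing A] [Algebra R A] [CommRing B] [Algebra R B] :=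
  WithConv (A →ₐ[R] B)

variable {R : Type u} [CommRing R] {A : Type v} [CommRing A] [HopfAlgebra R A]
  {B C D : Type w} [CommRing B] [Algebra R B] [CommRing C] [Algebra R C] [CommRing D] [Algebra R D]

noncomputable def invPt (f : Pt R A B) : Pt R A B :=
  toConv (f.ofConv.comp (HopfAlgebra.antipodeAlgHom R A))

theorem invPt_mul (f : Pt R A B) : invPt f * f = 1 := by
  have h : toConv (HopfAlgebra.antipodeAlgHom R A) * toConv (AlgHom.id R A) = (1 : WithConv (A →ₐ[R] A)) :=
    AlgHom.antipode_id_cancel
  have h' := congrArg (fun g : WithConv (A →ₐ[R] A) => toConv (f.ofConv.comp g.ofConv)) h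
  simp only [AlgHom.comp_convMul_distrib, ofConv_toConv, AlgHom.comp_id, toConv_ofConv] at h'
  rw [invPt, h']
  ext a
  simp

noncomputable scoped instance instGroupPt : Group (Pt R A B) :=
  { (inferInstance : Monoid (Pt R A B)) with
    inv := invPt
    inv_mul_cancel := invPt_mul }

theorem inv_apply (f : Pt R A B) (a : A) : f⁻¹ a = f (HopfAlgebra.antipode R a) := rfl

/-- Functoriality of points. -/
noncomputable def mapPt (φ : B →ₐ[R] C) : Pt R A B →* Pt R A C where
  toFun g := toConv (φ.comp g.ofConv)
  map_one' := by ext a; simp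
  map_mul' f g := by rw [AlgHom.comp_convMul_distrib]

@[simp] theorem mapPt_apply (φ : B →ₐ[R] C) (g : Pt R A B) (a : A) : mapPt φ g a = φ (g a) := rfl

theorem mapPt_mapPt (φ : B →ₐ[R] C) (ψ : C →ₐ[R] D) (g : Pt R A B) :
    mapPt ψ (mapPt φ g) = mapPt (ψ.comp φ) g := rfl

@[simp] theorem mapPt_id (g : Pt R A B) : mapPt (AlgHom.id R B) g = g := rfl

theorem mapPt_injective {φ : B →ₐ[R] C} (h : Function.Injective φ) :
    Function.Injective (mapPt (A := A) φ) := fun f g hfg =>
  WithConv.ext (AlgHom.ext fun a => h (DFunLike.congr_fun (congrArg WithConv.ofConv hfg) a))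

theorem pt_ext {f g : Pt R A B} (h : ∀ a, f a = g a) : f = g :=
  WithConv.ext (AlgHom.ext h)

end Groth.Agent.BigCell29
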