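import Groth.Agent.BigCell29.Coact

/-!
# Change of character group of a coaction
-/

set_option autoImplicit false

universe u

open TensorProduct WithConv Finsupp
open scoped AddMonoidAlgebra

namespace Groth.Agent.BigCell29

variable {R : Type u} [CommRing R] {A : Type u} [CommRing A] [HopfAlgebra R A]
  {Γ Γ' : Type} [AddCommGroup Γ] [AddCommGroup Γ'] (D : Coact R A Γ)
  {B : Type u} [CommRing B] [Algebra R B]

theorem mapAlgHom_mapDomain {B C : Type u} [CommRing B] [Algebra R B] [CommRing C] [Algebra R C]
    (f : B →ₐ[R] C) (φ : Γ →+ Γ') (x : B[Γ]) :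
    AddMonoidAlgebra.mapAlgHom Γ' f (AddMonoidAlgebra.mapDomainAlgHom R B φ x) =
      AddMonoidAlgebra.mapDomainAlgHom R C φ (AddMonoidAlgebra.mapAlgHom Γ f x) := by
  induction x using AddMonoidAlgebra.induction_linear with
  | zero => simp
  | add x y hx hy => rw [map_add, map_add, map_add, map_add, hx, hy]
  | single m r => simp

/-- The action restricted along a homomorphism of the acting groups. -/
noncomputable def Coact.push (φ : Γ →+ Γ') : Coact R A Γ' where
  c := (AddMonoidAlgebra.mapDomainAlgHom R A φ).comp D.c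
  act_mul B _ _ g h := by
    have key : ∀ k : Pt R A B, toConv ((AddMonoidAlgebra.mapAlgHom Γ' k.ofConv).comp
        ((AddMonoidAlgebra.mapDomainAlgHom R A φ).comp D.c)) =
        mapPt (AddMonoidAlgebra.mapDomainAlgHom R B φ) (D.act k) := fun k =>
      pt_ext fun a => mapAlgHom_mapDomain k.ofConv φ (D.c a)
    rw [key, key, key, map_mul, map_mul]
  coassoc a m := by
    classical
    simp only [AlgHom.comp_apply, AddMonoidAlgebra.mapDomainAlgHom_apply, AddMonoidAlgebra.coeff_mapDomain]
    have hm : Finsupp.mapDomain φ (D.c a).coeff m =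
        ∑ n ∈ (D.c a).coeff.support, if φ n = m then D.p n a else 0 := by
      simp [Finsupp.mapDomain, Finsupp.sum, Finsupp.single_apply, Coact.p_def]
    rw [hm, map_sum]
    refine AddMonoidAlgebra.coeff_injective ?_
    rw [AddMonoidAlgebra.coeff_mapDomain, AddMonoidAlgebra.coeff_sum, Finsupp.mapDomain_finsetSum,
      AddMonoidAlgebra.coeff_single, Finsupp.single_finsetSum]
    refine Finset.sum_congr rfl fun n _ => ?_
    split_ifs with h
    · rw [Coact.p_def, D.coassoc, AddMonoidAlgebra.coeff_single, Finsupp.mapDomain_single, h]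
    · simp
  counit a := by
    rw [AlgHom.comp_apply, AddMonoidAlgebra.mapDomainAlgHom_apply, AddMonoidAlgebra.coeff_mapDomain,
      Finsupp.sum_mapDomain_index (fun _ => rfl) (fun _ _ _ => rfl)]
    exact D.counit a

theorem Coact.act_push (φ : Γ →+ Γ') (g : Pt R A B) :
    (D.push φ).act g = mapPt (AddMonoidAlgebra.mapDomainAlgHom R B φ) (D.act g) :=
  pt_ext fun a => mapAlgHom_mapDomain g.ofConv φ (D.c a)

theorem Coact.push_p [DecidableEq Γ'] (φ : Γ →+ Γ') (n : Γ') (a : A) :
    (D.push φ).p n a = ∑ m ∈ (D.c a).coeff.support with φ m = n, D.p m a := by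
  simp [Coact.p_def, Coact.push, Finsupp.mapDomain, Finsupp.sum, Finsupp.single_apply, Finset.sum_filter]

/-- The inverse action. -/
noncomputable def Coact.inv : Coact R A Γ := D.push (negAddMonoidHom : Γ →+ Γ)

theorem Coact.inv_p (n : Γ) (a : A) : D.inv.p n a = D.p (-n) a := by
  classical
  rw [Coact.inv, D.push_p, Finset.sum_filter, Finset.sum_eq_single (-n)]
  · simp
  · intro m _ hm
    rw [if_neg]
    intro h
    exact hm (by rw [← h]; simp)
  · intro h; simp [D.p_eq_zero_of_notMem h]

end Groth.Agent.BigCell29
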