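import Groth.Agent.BigCell29.Decomp
import Mathlib.RingTheory.FinitePresentation
import Mathlib.RingTheory.Adjoin.Basic

/-!
# The coordinate rings of the fixed and attracting subgroups
-/

set_option autoImplicit false

universe u

open TensorProduct WithConv Finsupp
open scoped AddMonoidAlgebra

namespace Groth.Agent.BigCell29

variable {R : Type u} [CommRing R] {A : Type u} [CommRing A] [HopfAlgebra R A]
  {B : Type u} [CommRing B] [Algebra R B] (D : Coact R A ℤ)

/-- The ideal of the attracting subgroup. -/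
def Coact.idealU : Ideal A :=
  Ideal.span ({x | ∃ a, ∃ n : ℤ, n < 0 ∧ x = D.p n a} ∪
    {x | ∃ a, x = D.p 0 a - algebraMap R A (Coalgebra.counit a)})

/-- The ideal of the fixed subgroup. -/
def Coact.idealZ : Ideal A := Ideal.span {x | ∃ a, ∃ n : ℤ, n ≠ 0 ∧ x = D.p n a}

/-- Functions on the attracting subgroup. -/
abbrev Coact.URing : Type u := A ⧸ D.idealU

/-- Functions on the fixed subgroup. -/
abbrev Coact.ZRing : Type u := A ⧸ D.idealZ

/-- The universal attracted point. -/
noncomputable def Coact.uPt : Pt R A D.URing := toConv (Ideal.Quotient.mkₐ R D.idealU)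

/-- The universal fixed point. -/
noncomputable def Coact.zPt : Pt R A D.ZRing := toConv (Ideal.Quotient.mkₐ R D.idealZ)

theorem Coact.inU_uPt : D.InU D.uPt := by
  refine ⟨fun a n hn => ?_, fun a => ?_⟩
  · exact Ideal.Quotient.eq_zero_iff_mem.mpr (Ideal.subset_span (Or.inl ⟨a, n, hn, rfl⟩))
  · rw [AlgHom.convOne_apply]
    exact Ideal.Quotient.eq.mpr (Ideal.subset_span (Or.inr ⟨a, rfl⟩))

theorem Coact.inZ_zPt : D.InZ D.zPt := fun a n hn =>
  Ideal.Quotient.eq_zero_iff_mem.mpr (Ideal.subset_span ⟨a, n, hn, rfl⟩)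

/-- The map classifying an attracted point. -/
noncomputable def Coact.uLift {g : Pt R A B} (hg : D.InU g) : D.URing →ₐ[R] B :=
  Ideal.Quotient.liftₐ D.idealU g.ofConv fun x hx => by
    have : D.idealU ≤ RingHom.ker g.ofConv.toRingHom := by
      refine Ideal.span_le.mpr ?_
      rintro x (⟨a, n, hn, rfl⟩ | ⟨a, rfl⟩)
      · exact hg.1 a n hn
      · simp [RingHom.mem_ker, hg.2 a]
    exact this hx

theorem Coact.mapPt_uLift {g : Pt R A B} (hg : D.InU g) : mapPt (D.uLift hg) D.uPt = g :=
  pt_ext fun _ => rfl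

/-- The map classifying a fixed point. -/
noncomputable def Coact.zLift {g : Pt R A B} (hg : D.InZ g) : D.ZRing →ₐ[R] B :=
  Ideal.Quotient.liftₐ D.idealZ g.ofConv fun x hx => by
    have : D.idealZ ≤ RingHom.ker g.ofConv.toRingHom := by
      refine Ideal.span_le.mpr ?_
      rintro x ⟨a, n, hn, rfl⟩
      exact hg a n hn
    exact this hx

theorem Coact.mapPt_zLift {g : Pt R A B} (hg : D.InZ g) : mapPt (D.zLift hg) D.zPt = g :=
  pt_ext fun _ => rfl

theorem Coact.uHom_ext {f f' : D.URing →ₐ[R] B} (h : mapPt f D.uPt = mapPt f' D.uPt) : f = f' :=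
  Ideal.Quotient.algHom_ext R (congrArg WithConv.ofConv h)

theorem Coact.zHom_ext {f f' : D.ZRing →ₐ[R] B} (h : mapPt f D.zPt = mapPt f' D.zPt) : f = f' :=
  Ideal.Quotient.algHom_ext R (congrArg WithConv.ofConv h)

theorem adjoin_induction_top {s : Set A} (hs : Algebra.adjoin R s = ⊤) (S : Subalgebra R A) (h : s ⊆ S) (a : A) :
    a ∈ S := (hs ▸ Algebra.adjoin_le h : ⊤ ≤ S) trivial

theorem Coact.idealU_fg [Algebra.FiniteType R A] : D.idealU.FG := by
  classical
  obtain ⟨s, hs⟩ := Algebra.FiniteType.out (R := R) (A := A)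
  let T : Finset A := (s.biUnion fun a => ((D.c a).coeff.support.filter (· < 0)).image fun n => D.p n a) ∪
    s.image fun a => D.p 0 a - algebraMap R A (Coalgebra.counit a)
  refine ⟨T, le_antisymm (Ideal.span_le.mpr fun x hx => ?_) (Ideal.span_le.mpr ?_)⟩
  · simp only [T, Finset.coe_union, Finset.coe_biUnion, Finset.coe_image, Set.mem_union, Set.mem_iUnion,
      Set.mem_image, Finset.coe_filter] at hx
    rcases hx with ⟨a, -, n, ⟨-, hn⟩, rfl⟩ | ⟨a, -, rfl⟩
    · exact Ideal.subset_span (Or.inl ⟨a, n, hn, rfl⟩)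
    · exact Ideal.subset_span (Or.inr ⟨a, rfl⟩)
  · let q : Pt R A (A ⧸ Ideal.span (T : Set A)) := toConv (Ideal.Quotient.mkₐ R _)
    let G : Subalgebra R A :=
      { carrier := {a | D.act q a ∈ nonneg R (A ⧸ Ideal.span (T : Set A)) ∧
          (D.act q a).coeff 0 = algebraMap R _ (Coalgebra.counit (R := R) a)}
        mul_mem' := fun {a b} ha hb => ⟨by rw [map_mul]; exact mul_mem ha.1 hb.1, by
          rw [map_mul, coeff_zero_mul (R := R) ha.1 hb.1, ha.2, hb.2, Bialgebra.counit_mul, map_mul]⟩
        add_mem' := fun {a b} ha hb => ⟨by rw [map_add]; exact add_mem ha.1 hb.1, by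
          rw [map_add, AddMonoidAlgebra.coeff_add, Finsupp.add_apply, ha.2, hb.2, map_add, map_add]⟩
        algebraMap_mem' := fun r => ⟨by rw [AlgHom.commutes]; exact Subalgebra.algebraMap_mem _ r, by
          rw [AlgHom.commutes, eps_coeff']⟩ }
    have hG : ∀ a, a ∈ G := by
      refine adjoin_induction_top hs G fun a ha => ⟨fun n hn => ?_, ?_⟩
      · rw [D.act_coeff]
        by_cases hsup : n ∈ (D.c a).coeff.support
        · refine Ideal.Quotient.eq_zero_iff_mem.mpr (Ideal.subset_span ?_)
          simp only [T, Finset.coe_union, Finset.coe_biUnion, Finset.coe_image, Set.mem_union, Set.mem_iUnion,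
            Set.mem_image, Finset.coe_filter]
          exact Or.inl ⟨a, ha, n, ⟨hsup, hn⟩, rfl⟩
        · simp [D.p_eq_zero_of_notMem hsup]
      · rw [D.act_coeff]
        refine Ideal.Quotient.eq.mpr (Ideal.subset_span ?_)
        simp only [T, Finset.coe_union, Finset.coe_image, Set.mem_union, Set.mem_image]
        exact Or.inr ⟨a, ha, rfl⟩
    rintro x (⟨a, n, hn, rfl⟩ | ⟨a, rfl⟩)
    · have := (hG a).1 n hn
      rw [D.act_coeff] at this
      exact Ideal.Quotient.eq_zero_iff_mem.mp this
    · have := (hG a).2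
      rw [D.act_coeff] at this
      exact Ideal.Quotient.eq.mp this
where
  eps_coeff' {C : Type u} [CommRing C] [Algebra R C] {r : R} :
      ((algebraMap R C[ℤ]) r).coeff 0 = algebraMap R C (Coalgebra.counit (R := R) (algebraMap R A r)) := by
    simp [AddMonoidAlgebra.coe_algebraMap]

theorem Coact.idealZ_fg [Algebra.FiniteType R A] : D.idealZ.FG := by
  classical
  obtain ⟨s, hs⟩ := Algebra.FiniteType.out (R := R) (A := A)
  let T : Finset A := s.biUnion fun a => ((D.c a).coeff.support.filter (· ≠ 0)).image fun n => D.p n a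
  refine ⟨T, le_antisymm (Ideal.span_le.mpr fun x hx => ?_) (Ideal.span_le.mpr ?_)⟩
  · simp only [T, Finset.coe_biUnion, Finset.coe_image, Set.mem_iUnion, Set.mem_image, Finset.coe_filter] at hx
    obtain ⟨a, -, n, ⟨-, hn⟩, rfl⟩ := hx
    exact Ideal.subset_span ⟨a, n, hn, rfl⟩
  · let q : Pt R A (A ⧸ Ideal.span (T : Set A)) := toConv (Ideal.Quotient.mkₐ R _)
    have hG : D.InZ q := by
      rw [D.inZ_iff]
      refine WithConv.ext (AlgHom.ext_of_adjoin_eq_top hs fun a ha => ?_)
      refine AddMonoidAlgebra.coeff_injective (Finsupp.ext fun n => ?_)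
      show (D.act q a).coeff n = _
      rw [D.act_coeff]
      have hz : ∀ n, n ≠ 0 → q (D.p n a) = 0 := fun n hn => by
        by_cases hsup : n ∈ (D.c a).coeff.support
        · refine Ideal.Quotient.eq_zero_iff_mem.mpr (Ideal.subset_span ?_)
          simp only [T, Finset.coe_biUnion, Finset.coe_image, Set.mem_iUnion, Set.mem_image, Finset.coe_filter]
          exact ⟨a, ha, n, ⟨hsup, hn⟩, rfl⟩
        · simp [D.p_eq_zero_of_notMem hsup]
      by_cases hn : n = 0
      · subst hn
        have h0 : q (D.p 0 a) = q a := by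
          conv_rhs => rw [← D.sum_p_subset a (Finset.subset_insert 0 _), map_sum]
          rw [Finset.sum_eq_single 0]
          · intro n _ hn; exact hz n hn
          · simp
        simp [h0]
      · simp [hz n hn]
        exact fun h => absurd h hn
    rintro x ⟨a, n, hn, rfl⟩
    exact Ideal.Quotient.eq_zero_iff_mem.mp (hG a n hn)

instance [Algebra.FinitePresentation R A] : Algebra.FinitePresentation R D.URing :=
  Algebra.FinitePresentation.quotient D.idealU_fg

instance [Algebra.FinitePresentation R A] : Algebra.FinitePresentation R D.ZRing :=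
  Algebra.FinitePresentation.quotient D.idealZ_fg

end Groth.Agent.BigCell29
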