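import Groth.Agent.BigCell29.CellMap
import Mathlib.LinearAlgebra.FreeModule.Finite.Basic
import Mathlib.RingTheory.Localization.Module

/-!
# A cocharacter positive on the simple roots
-/

set_option autoImplicit false

universe u

open Function Set

namespace Groth.Agent.BigCell29

theorem exists_int_functional {Q : Type} [AddCommGroup Q] [Module.Free ℤ Q] [Module.Finite ℤ Q] {κ : Type} [Finite κ]
    {v : κ → Q} (hv : LinearIndependent ℤ v) : ∃ l : Q →+ ℤ, ∀ i, 0 < l (v i) := by
  classical
  set b := Module.finBasis ℤ Q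
  let c : Q →ₗ[ℤ] (Fin (Module.finrank ℤ Q) → ℚ) := LinearMap.pi fun j => (Algebra.linearMap ℤ ℚ).comp (b.coord j)
  have hc : Function.Injective c := by
    intro x y h
    refine b.repr.injective (Finsupp.ext fun j => ?_)
    have := congrFun h j
    simpa [c] using this
  have hli : LinearIndependent ℚ (c ∘ v) :=
    (LinearIndependent.iff_fractionRing ℤ ℚ).mp (hv.map' c (LinearMap.ker_eq_bot.mpr hc))
  obtain ⟨g, hg⟩ := LinearMap.exists_extend ((Module.Basis.span hli).constr ℚ fun _ => (1 : ℚ))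
  have hg1 : ∀ i, g (c (v i)) = 1 := by
    intro i
    have h := LinearMap.congr_fun hg (Module.Basis.span hli i)
    rw [Module.Basis.constr_basis, LinearMap.comp_apply, Submodule.subtype_apply, Module.Basis.span_apply] at h
    exact h
  let d : ℕ := ∏ j, (g (Pi.single j 1)).den
  have hd : 0 < d := Finset.prod_pos fun j _ => (g (Pi.single j 1)).pos
  have hint : ∀ j, ∃ z : ℤ, (z : ℚ) = (d : ℚ) * g (Pi.single j 1) := by
    intro j
    refine ⟨(g (Pi.single j 1)).num * ∏ k ∈ Finset.univ.erase j, ((g (Pi.single k 1)).den : ℤ), ?_⟩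
    have e : (d : ℚ) = ((g (Pi.single j 1)).den : ℚ) * ∏ k ∈ Finset.univ.erase j, ((g (Pi.single k 1)).den : ℚ) := by
      rw [Finset.mul_prod_erase _ (fun k => ((g (Pi.single k 1)).den : ℚ)) (Finset.mem_univ j)]
      simp [d]
    push_cast
    rw [e, ← Rat.mul_den_eq_num (g (Pi.single j 1))]
    ring
  choose z hz using hint
  refine ⟨(∑ j, z j • b.coord j).toAddMonoidHom, fun i => ?_⟩
  have e : (((∑ j, z j • b.coord j) (v i) : ℤ) : ℚ) = (d : ℚ) := by
    have h1 : c (v i) = ∑ j, ((b.coord j (v i) : ℤ) : ℚ) • Pi.single j (1 : ℚ) := by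
      funext k
      simp [c, Pi.single_apply, Finset.sum_apply]
    have h2 := hg1 i
    rw [h1, map_sum] at h2
    simp only [map_smul, smul_eq_mul] at h2
    simp only [LinearMap.sum_apply, LinearMap.smul_apply, smul_eq_mul, Int.cast_sum, Int.cast_mul, hz]
    calc ∑ j, (d : ℚ) * g (Pi.single j 1) * ((b.coord j (v i) : ℤ) : ℚ)
        = (d : ℚ) * ∑ j, ((b.coord j (v i) : ℤ) : ℚ) * g (Pi.single j 1) := by
          rw [Finset.mul_sum]; exact Finset.sum_congr rfl fun j _ => by ring
      _ = d := by rw [h2, mul_one]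
  have : ((∑ j, z j • b.coord j) (v i) : ℤ) = (d : ℤ) := by exact_mod_cast e
  show 0 < (∑ j, z j • b.coord j) (v i)
  rw [this]; exact_mod_cast hd

variable {M N idx : Type} [AddCommGroup M] [AddCommGroup N] (P : RootPairing idx ℤ M N) (b : P.Base)

/-- A cocharacter separates the roots of a base. -/
def IsRegular (lam : M →+ ℤ) : Prop :=
  (∀ i, i ∈ RedSub.posRoots P b ↔ 0 < lam (P.root i)) ∧ (∀ i, i ∈ RedSub.negRoots P b ↔ lam (P.root i) < 0) ∧
    ∀ i, lam (P.root i) ≠ 0

theorem exists_isRegular [Module.Free ℤ M] [Module.Finite ℤ M] : ∃ lam : M →+ ℤ, IsRegular P b lam := by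
  obtain ⟨lam, hlam⟩ := exists_int_functional b.linearIndepOn_root
  have hcl : ∀ x ∈ AddSubmonoid.closure (P.root '' (b.support : Set idx)), x ≠ 0 → 0 < lam x := by
    intro x hx
    suffices 0 ≤ lam x ∧ (lam x = 0 → x = 0) from fun hne => lt_of_le_of_ne this.1 fun h => hne (this.2 h.symm)
    induction hx using AddSubmonoid.closure_induction with
    | mem x hx =>
      obtain ⟨i, hi, rfl⟩ := hx
      have := hlam ⟨i, hi⟩
      exact ⟨this.le, fun h => absurd h this.ne'⟩
    | zero => simp
    | add x y _ _ hx hy =>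
      rw [map_add]
      exact ⟨add_nonneg hx.1 hy.1, fun h => by
        obtain ⟨h1, h2⟩ := (add_eq_zero_iff_of_nonneg hx.1 hy.1).mp h
        rw [hx.2 h1, hy.2 h2, add_zero]⟩
  have hneg : ∀ i, -P.root i ∈ AddSubmonoid.closure (P.root '' (b.support : Set idx)) → lam (P.root i) < 0 := by
    intro i hi
    have := hcl _ hi (neg_ne_zero.mpr (P.ne_zero i))
    rw [map_neg] at this
    omega
  refine ⟨lam, fun i => ⟨fun h => hcl _ h (P.ne_zero i), fun h => ?_⟩, fun i => ⟨fun h => hneg i h, fun h => ?_⟩,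
    fun i => ?_⟩
  · exact (b.root_mem_or_neg_mem i).resolve_right fun h' => by have := hneg i h'; omega
  · exact (b.root_mem_or_neg_mem i).resolve_left fun h' => by have := hcl _ h' (P.ne_zero i); omega
  · rcases b.root_mem_or_neg_mem i with h | h
    · exact (hcl _ h (P.ne_zero i)).ne'
    · exact (hneg i h).ne

end Groth.Agent.BigCell29
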