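import Groth.Agent.BigCell29.Dyn
import Mathlib.Tactic.LinearCombination
import Mathlib.RingTheory.Ideal.Maps

/-!
# Points congruent to the identity modulo a square-zero ideal
-/

set_option autoImplicit false

universe u

open TensorProduct WithConv Finsupp
open scoped AddMonoidAlgebra

namespace Groth.Agent.BigCell29

variable {R : Type u} [CommRing R] {A : Type u} [CommRing A] [HopfAlgebra R A]
  {B C : Type u} [CommRing B] [Algebra R B] [CommRing C] [Algebra R C]

variable (R) in
/-- The counit as a linear map to `B`. -/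
noncomputable def eps (B : Type u) [CommRing B] [Algebra R B] (A : Type u) [CommRing A] [HopfAlgebra R A] :
    A →ₗ[R] B := (1 : Pt R A B).ofConv.toLinearMap

@[simp] theorem eps_apply (a : A) : eps R B A a = algebraMap R B (Coalgebra.counit a) := rfl

/-- Derivations at the identity with values in a square-zero ideal. -/
structure IsTan (I : Ideal B) (d : A →ₗ[R] B) : Prop where
  mem : ∀ a, d a ∈ I
  leibniz : ∀ a b, d (a * b) = eps R B A a * d b + eps R B A b * d a

variable {I : Ideal B}

theorem IsTan.map_one' {d : A →ₗ[R] B} (h : IsTan I d) : d 1 = 0 := by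
  have := h.leibniz 1 1
  simp only [mul_one, eps_apply, Bialgebra.counit_one, map_one, one_mul] at this
  exact left_eq_add.mp this

theorem IsTan.zero : IsTan I (0 : A →ₗ[R] B) := ⟨by simp, by simp⟩

theorem IsTan.add {d d' : A →ₗ[R] B} (h : IsTan I d) (h' : IsTan I d') : IsTan I (d + d') :=
  ⟨fun a => by simpa using add_mem (h.mem a) (h'.mem a), fun a b => by
    simp only [LinearMap.add_apply, h.leibniz, h'.leibniz]; ring⟩

theorem IsTan.neg {d : A →ₗ[R] B} (h : IsTan I d) : IsTan I (-d) :=
  ⟨fun a => by simpa using h.mem a, fun a b => by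
    simp only [LinearMap.neg_apply, h.leibniz]; ring⟩

theorem IsTan.sum {ι : Type*} (s : Finset ι) (d : ι → A →ₗ[R] B) (h : ∀ i ∈ s, IsTan I (d i)) :
    IsTan I (∑ i ∈ s, d i) := by
  classical
  induction s using Finset.induction with
  | empty => simpa using IsTan.zero
  | insert i s hi ih =>
    rw [Finset.sum_insert hi]
    exact (h i (Finset.mem_insert_self i s)).add (ih fun j hj => h j (Finset.mem_insert_of_mem hj))

variable (hI : ∀ x ∈ I, ∀ y ∈ I, x * y = (0 : B))

/-- The point `ε + d`. -/
noncomputable def tanPt {d : A →ₗ[R] B} (h : IsTan I d) : Pt R A B :=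
  toConv
    { toFun := fun a => eps R B A a + d a
      map_one' := by simp [h.map_one']
      map_mul' := fun a b => by
        have := hI _ (h.mem a) _ (h.mem b)
        rw [h.leibniz, eps_apply, Bialgebra.counit_mul, map_mul, eps_apply, eps_apply]
        linear_combination -this
      map_zero' := by simp
      map_add' := fun a b => by simp only [map_add]; ring
      commutes' := fun r => by
        rw [Algebra.algebraMap_eq_smul_one, map_smul, map_smul, h.map_one', smul_zero, add_zero,
          eps_apply, Bialgebra.counit_one, map_one, Algebra.algebraMap_eq_smul_one] }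

@[simp] theorem tanPt_apply {d : A →ₗ[R] B} (h : IsTan I d) (a : A) :
    tanPt hI h a = eps R B A a + d a := rfl

theorem tanPt_zero : tanPt (A := A) (R := R) hI IsTan.zero = 1 := pt_ext fun a => by simp

include hI in
theorem tan_conv_zero {d d' : A →ₗ[R] B} (h : IsTan I d) (h' : IsTan I d') :
    toConv d * toConv d' = 0 := by
  ext a
  rw [LinearMap.convMul_apply]
  induction Coalgebra.comul (R := R) a using TensorProduct.induction_on with
  | zero => simp
  | add x y hx hy => simp_all [map_add]
  | tmul x y => simpa using hI _ (h.mem x) _ (h'.mem y)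

theorem tanPt_mul {d d' : A →ₗ[R] B} (h : IsTan I d) (h' : IsTan I d') :
    tanPt hI h * tanPt hI h' = tanPt hI (h.add h') := by
  apply ofConv_injective
  apply AlgHom.toLinearMap_injective
  apply WithConv.toConv_injective
  rw [AlgHom.toLinearMap_convMul]
  have e : ∀ {d : A →ₗ[R] B} (h : IsTan I d),
      toConv (tanPt hI h).ofConv.toLinearMap = 1 + toConv d := by
    intro d h; ext a; simp
  rw [e, e, e, add_mul, mul_add, mul_add, one_mul, one_mul, mul_one, tan_conv_zero hI h h', add_zero]
  ext a
  simp [add_left_comm, add_comm]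

theorem tanPt_inv {d : A →ₗ[R] B} (h : IsTan I d) : (tanPt hI h)⁻¹ = tanPt hI h.neg := by
  refine inv_eq_of_mul_eq_one_left ?_
  rw [tanPt_mul]
  exact pt_ext fun a => by simp

variable {φ : B →ₐ[R] C} (hφI : RingHom.ker φ.toRingHom = I)

include hφI in
theorem mapPt_tanPt {d : A →ₗ[R] B} (h : IsTan I d) : mapPt φ (tanPt hI h) = 1 := by
  refine pt_ext fun a => ?_
  have : φ (d a) = 0 := RingHom.mem_ker.mp (hφI ▸ h.mem a : d a ∈ RingHom.ker φ.toRingHom)
  simp [this]

/-- The tangent vector of a point congruent to the identity. -/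
noncomputable def tanOf (k : Pt R A B) : A →ₗ[R] B := k.ofConv.toLinearMap - eps R B A

@[simp] theorem tanOf_apply (k : Pt R A B) (a : A) :
    tanOf k a = k a - algebraMap R B (Coalgebra.counit a) := rfl

include hI hφI in
theorem isTan_tanOf {k : Pt R A B} (hk : mapPt φ k = 1) : IsTan I (tanOf k) := by
  have hm : ∀ a, tanOf k a ∈ I := fun a => by
    rw [← hφI, RingHom.mem_ker]
    have := DFunLike.congr_fun (congrArg WithConv.ofConv hk) a
    simp at this
    simp [this]
  refine ⟨hm, fun a b => ?_⟩
  have := hI _ (hm a) _ (hm b)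
  simp only [tanOf_apply, eps_apply, map_mul, Bialgebra.counit_mul] at this ⊢
  linear_combination this

theorem tanPt_tanOf {k : Pt R A B} (h : IsTan I (tanOf k)) : tanPt hI h = k :=
  pt_ext fun a => by simp

include hI hφI in
theorem exists_tanPt {k : Pt R A B} (hk : mapPt φ k = 1) :
    ∃ (d : A →ₗ[R] B) (h : IsTan I d), k = tanPt hI h :=
  ⟨_, isTan_tanOf hI hφI hk, (tanPt_tanOf hI _).symm⟩

section Grade

variable {Γ : Type} [AddCommGroup Γ] (D : Coact R A Γ)

theorem IsTan.comp_p {d : A →ₗ[R] B} (h : IsTan I d) (n : Γ) : IsTan I (d ∘ₗ D.p n) := by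
  classical
  refine ⟨fun a => h.mem _, fun a b => ?_⟩
  let s := insert 0 (insert n (D.c a).coeff.support)
  simp only [LinearMap.comp_apply, D.p_mul, map_sum, h.leibniz]
  rw [Finset.sum_subset (s₂ := s) (fun x hx => by simp [s, hx]) (fun i _ hi => by
    simp [Finsupp.notMem_support_iff.mp hi, Coact.p_def])]
  rw [Finset.sum_add_distrib, Finset.sum_eq_single 0, Finset.sum_eq_single n]
  · simp [D.counit_p_zero]
  · intro i _ hi
    simp [D.counit_p_ne (sub_ne_zero.mpr hi.symm)]
  · intro hn; simp [s] at hn
  · intro i _ hi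
    simp [D.counit_p_ne hi]
  · intro h0; simp [s] at h0

open scoped Classical in
/-- The sum of `e n` over the degrees in `P`, for a family supported on the components. -/
noncomputable def gradedSum (P : Γ → Prop) (e : Γ → A →ₗ[R] B) : A →ₗ[R] B where
  toFun a := (D.c a).coeff.sum fun n x => if P n then e n x else 0
  map_add' a b := by
    rw [map_add, AddMonoidAlgebra.coeff_add]
    refine Finsupp.sum_add_index' (fun n => by simp) fun n x y => ?_
    split_ifs <;> simp
  map_smul' r a := by
    rw [map_smul, AddMonoidAlgebra.coeff_smul, RingHom.id_apply, Finsupp.sum_smul_index' (fun n => by simp),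
      Finsupp.smul_sum]
    exact Finsupp.sum_congr fun n _ => by split_ifs <;> simp

open scoped Classical in
theorem gradedSum_apply (P : Γ → Prop) (e : Γ → A →ₗ[R] B) (a : A) {s : Finset Γ}
    (hs : (D.c a).coeff.support ⊆ s) :
    gradedSum D P e a = ∑ n ∈ s with P n, e n (D.p n a) := by
  rw [Finset.sum_filter]
  exact Finsupp.sum_of_support_subset _ hs (fun n x => if P n then e n x else 0)
    fun n _ => by split_ifs <;> simp

theorem gradedSum_p (P : Γ → Prop) [DecidablePred P] (e : Γ → A →ₗ[R] B) (n : Γ) (a : A) :
    gradedSum D P e (D.p n a) = if P n then e n (D.p n a) else 0 := by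
  classical
  rw [gradedSum_apply D P e (D.p n a) (s := insert n (D.c (D.p n a)).coeff.support) (Finset.subset_insert _ _),
    Finset.sum_filter, Finset.sum_eq_single n]
  · simp [D.p_p_self]
  · intro b _ hb; simp [D.p_p_ne hb.symm]
  · simp

theorem IsTan.gradedSum (P : Γ → Prop) (e : Γ → A →ₗ[R] B) (he : ∀ n, P n → IsTan I (e n ∘ₗ D.p n)) :
    IsTan I (gradedSum D P e) := by
  classical
  refine ⟨fun a => ?_, fun a b => ?_⟩
  · rw [gradedSum_apply D P e a subset_rfl]
    exact sum_mem fun n hn => (he n (Finset.mem_filter.mp hn).2).mem a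
  · let s := (D.c a).coeff.support ∪ (D.c b).coeff.support ∪ (D.c (a * b)).coeff.support
    have ha : (D.c a).coeff.support ⊆ s := Finset.subset_union_left.trans Finset.subset_union_left
    have hb : (D.c b).coeff.support ⊆ s := Finset.subset_union_right.trans Finset.subset_union_left
    have hab : (D.c (a * b)).coeff.support ⊆ s := Finset.subset_union_right
    rw [gradedSum_apply D P e _ ha, gradedSum_apply D P e _ hb, gradedSum_apply D P e _ hab,
      Finset.mul_sum, Finset.mul_sum, ← Finset.sum_add_distrib]
    exact Finset.sum_congr rfl fun n hn => (he n (Finset.mem_filter.mp hn).2).leibniz a b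

end Grade

end Groth.Agent.BigCell29
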