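import Groth.Agent.BigCell29.Lift

/-!
# Split tori in a Hopf algebra and the grading by conjugation
-/

set_option autoImplicit false

universe u

open TensorProduct WithConv Finsupp
open scoped AddMonoidAlgebra

namespace Groth.Agent.BigCell29

variable {R : Type u} [CommRing R] {A : Type u} [CommRing A] [HopfAlgebra R A]
  {B C : Type u} [CommRing B] [Algebra R B] [CommRing C] [Algebra R C] {M : Type} [AddCommGroup M]

/-- The point of `A` defined by a character of `M`. -/
noncomputable def torPt (π : A →ₐ[R] R[M]) (χ : Multiplicative M →* B) : Pt R A B :=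
  toConv ((AddMonoidAlgebra.lift R B M χ).comp π)

/-- A homomorphism from a split torus into the group of `A`. -/
structure SplitTorus (R : Type u) (A : Type u) (M : Type) [CommRing R] [CommRing A] [HopfAlgebra R A]
    [AddCommGroup M] where
  /-- the comorphism -/
  π : A →ₐ[R] R[M]
  tor_mul : ∀ (B : Type u) [CommRing B] [Algebra R B] (χ χ' : Multiplicative M →* B),
    torPt π (χ * χ') = torPt π χ * torPt π χ'

variable (T : SplitTorus R A M)

/-- Points of the torus. -/
noncomputable def SplitTorus.tor : (Multiplicative M →* B) →* Pt R A B where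
  toFun := torPt T.π
  map_one' := by
    have h := T.tor_mul B 1 1
    rw [one_mul] at h
    exact mul_eq_left.mp h.symm
  map_mul' := T.tor_mul B

theorem SplitTorus.mapPt_tor (f : B →ₐ[R] C) (χ : Multiplicative M →* B) :
    mapPt f (T.tor χ) = T.tor (f.toRingHom.toMonoidHom.comp χ) := by
  refine pt_ext fun a => ?_
  show f (AddMonoidAlgebra.lift R B M χ (T.π a)) = AddMonoidAlgebra.lift R C M _ (T.π a)
  induction T.π a using AddMonoidAlgebra.induction_linear with
  | zero => simp
  | add x y hx hy => simp [hx, hy]
  | single m r => simp [AddMonoidAlgebra.lift_single]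

/-- The universal character. -/
noncomputable def univChar (B : Type u) [CommRing B] (M : Type) [AddCommGroup M] : Multiplicative M →* B[M] :=
  AddMonoidAlgebra.of B M

@[simp] theorem univChar_apply (m : Multiplicative M) :
    univChar B M m = AddMonoidAlgebra.single m.toAdd 1 := rfl

/-- Conjugation by the universal point of the torus. -/
noncomputable def SplitTorus.conjPt (g : Pt R A B) : Pt R A B[M] :=
  T.tor (univChar B M) * mapPt AddMonoidAlgebra.singleZeroAlgHom g * (T.tor (univChar B M))⁻¹

theorem SplitTorus.mapPt_conjPt (f : B →ₐ[R] C) (g : Pt R A B) :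
    mapPt (AddMonoidAlgebra.mapAlgHom M f) (T.conjPt g) = T.conjPt (mapPt f g) := by
  simp only [conjPt, map_mul, map_inv, T.mapPt_tor, mapPt_mapPt]
  have e1 : (AddMonoidAlgebra.mapAlgHom M f).toRingHom.toMonoidHom.comp (univChar B M) = univChar C M := by
    ext m; simp
  have e2 : (AddMonoidAlgebra.mapAlgHom M f).comp AddMonoidAlgebra.singleZeroAlgHom =
      (AddMonoidAlgebra.singleZeroAlgHom (M := M)).comp f := by
    ext x; simp
  rw [e1, e2]

theorem SplitTorus.mapPt_diag_conjPt (g : Pt R A B) :
    mapPt diagMap (T.conjPt g) = T.conjPt (T.conjPt g) := by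
  simp only [conjPt, map_mul, map_inv, T.mapPt_tor, mapPt_mapPt]
  have e0 : (diagMap (R := R) (B := B) (Γ := M)).toRingHom.toMonoidHom.comp (univChar B M) =
      univChar B[M] M * ((AddMonoidAlgebra.singleZeroAlgHom (R := R) (A := B[M]) (M := M)).toRingHom.toMonoidHom.comp
        (univChar B M)) := by
    ext m
    simp [diagMap_single, AddMonoidAlgebra.single_mul_single]
  have e1 : (diagMap (R := R) (B := B) (Γ := M)).comp AddMonoidAlgebra.singleZeroAlgHom =
      (AddMonoidAlgebra.singleZeroAlgHom (R := R) (A := B[M]) (M := M)).comp AddMonoidAlgebra.singleZeroAlgHom := by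
    ext x; simp [diagMap_single]
  rw [e0, e1, map_mul]
  group

/-- The grading of `A` by conjugation by the torus. -/
noncomputable def SplitTorus.coact : Coact R A M where
  c := (T.conjPt (toConv (AlgHom.id R A))).ofConv
  act_mul B _ _ g h := by
    have key : ∀ k : Pt R A B, toConv ((AddMonoidAlgebra.mapAlgHom M k.ofConv).comp
        (T.conjPt (toConv (AlgHom.id R A))).ofConv) = T.conjPt k := fun k => by
      have := T.mapPt_conjPt k.ofConv (toConv (AlgHom.id R A))
      exact this
    rw [key, key, key, conjPt, conjPt, conjPt, map_mul]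
    group
  coassoc a m := by
    set I : Pt R A A := toConv (AlgHom.id R A)
    have h := DFunLike.congr_fun (congrArg WithConv.ofConv
      ((T.mapPt_conjPt ((T.conjPt I).ofConv) I).trans (T.mapPt_diag_conjPt I).symm)) a
    have h' := congrArg (fun x : A[M][M] => x.coeff m) h
    simp only [mapPt_apply, AddMonoidAlgebra.coeff_mapAlgHom] at h'
    rw [h']
    classical
    refine AddMonoidAlgebra.coeff_injective (Finsupp.ext fun n => ?_)
    rw [diagMap_coeff, AddMonoidAlgebra.coeff_single, Finsupp.single_apply]
  counit a := by
    let ev : A[M] →ₐ[R] A := (AddMonoidAlgebra.lift A A M 1).restrictScalars R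
    have h : mapPt ev (T.conjPt (toConv (AlgHom.id R A))) = toConv (AlgHom.id R A) := by
      simp only [conjPt, map_mul, map_inv, T.mapPt_tor, mapPt_mapPt]
      have e1 : ev.toRingHom.toMonoidHom.comp (univChar A M) = 1 := by ext m; simp [ev]
      have e2 : ev.comp AddMonoidAlgebra.singleZeroAlgHom = AlgHom.id R A := by ext x; simp [ev]
      rw [e1, e2, map_one, inv_one, mul_one, one_mul]
      rfl
    have h' := DFunLike.congr_fun (congrArg WithConv.ofConv h) a
    rw [mapPt_apply] at h'
    simp only [ev, AlgHom.restrictScalars_apply, AddMonoidAlgebra.lift_apply] at h'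
    simpa using h'

theorem SplitTorus.act_eq (g : Pt R A B) :
    T.coact.act g = T.tor (univChar B M) * mapPt AddMonoidAlgebra.singleZeroAlgHom g * (T.tor (univChar B M))⁻¹ :=
  T.mapPt_conjPt g.ofConv (toConv (AlgHom.id R A))

end Groth.Agent.BigCell29
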