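import Groth.Agent.BigCell29.UProd
import Mathlib.LinearAlgebra.Basis.Basic
import Mathlib.LinearAlgebra.FreeModule.Basic
import Mathlib.RingTheory.Etale.Basic

/-!
# The torus is open in the fixed points of a regular cocharacter
-/

set_option autoImplicit false

universe u

open TensorProduct WithConv Finsupp
open scoped AddMonoidAlgebra

namespace Groth.Agent.BigCell29

variable {R : Type u} [CommRing R] {A : Type u} [CommRing A] [HopfAlgebra R A]
  {B C : Type u} [CommRing B] [Algebra R B] [CommRing C] [Algebra R C] {M ι : Type} [AddCommGroup M]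
  (F : Frame R A M ι) (lam : M →+ ℤ)

theorem Frame.π_cochar_p_ne {n : ℤ} (hn : n ≠ 0) (a : A) : F.T.π ((F.cochar lam).p n a) = 0 := by
  classical
  rw [Coact.push_p, Finset.sum_filter, map_sum]
  refine Finset.sum_eq_zero fun m _ => ?_
  split_ifs with h
  · exact F.π_p_ne (fun h0 => hn (by rw [← h, h0, map_zero])) a
  · simp

theorem Frame.π_cochar_p_zero (a : A) : F.T.π ((F.cochar lam).p 0 a) = F.T.π a := by
  classical
  conv_rhs => rw [← (F.cochar lam).sum_p_subset a (s := insert 0 ((F.cochar lam).c a).coeff.support)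
    (Finset.subset_insert _ _), map_sum]
  rw [Finset.sum_eq_single 0]
  · intro n _ hn; exact F.π_cochar_p_ne lam hn a
  · simp

theorem Frame.cochar_inZ_tor (χ : Multiplicative M →* B) : (F.cochar lam).InZ (F.T.tor χ) := by
  intro a n hn
  show AddMonoidAlgebra.lift R B M χ (F.T.π _) = 0
  rw [F.π_cochar_p_ne lam hn, map_zero]

/-- The comorphism of the torus, on the fixed subgroup. -/
noncomputable def Frame.torZ : (F.cochar lam).ZRing →ₐ[R] R[M] :=
  (F.cochar lam).zLift (F.cochar_inZ_tor lam (univChar R M))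

theorem Frame.torZ_mk (a : A) : F.torZ lam (Ideal.Quotient.mk _ a) = F.T.π a := by
  have e : AddMonoidAlgebra.lift R R[M] M (univChar R M) = AlgHom.id R R[M] := by
    refine AlgHom.ext fun x => ?_
    induction x using AddMonoidAlgebra.induction_linear with
    | zero => simp
    | add x y hx hy => simp [hx, hy]
    | single m r => simp [AddMonoidAlgebra.smul_single]
  show AddMonoidAlgebra.lift R R[M] M (univChar R M) (F.T.π a) = F.T.π a
  rw [e]; rfl

theorem Frame.torZ_surjective : Function.Surjective (F.torZ lam) := fun x => by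
  obtain ⟨a, rfl⟩ := F.π_surj x
  exact ⟨Ideal.Quotient.mk _ a, F.torZ_mk lam a⟩

theorem Frame.tor_apply_counit (a : A) :
    Coalgebra.counit (R := R) a = (F.T.π a).coeff.sum fun _ r => r := by
  have h := DFunLike.congr_fun (congrArg WithConv.ofConv (map_one (F.T.tor (B := R)))) a
  rw [AlgHom.convOne_apply, Algebra.algebraMap_self, RingHom.id_apply] at h
  rw [← h]
  show AddMonoidAlgebra.lift R R M 1 (F.T.π a) = _
  simp [AddMonoidAlgebra.lift_apply]

variable [Fintype ι] (hreg : ∀ i, lam (F.root i) ≠ 0) [Module.Free ℤ M] [Module.Finite ℤ M]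

include hreg in
/-- Fixed infinitesimal points come from the torus. -/
theorem Frame.exists_tor_of_inZ_tan {φ : B →ₐ[R] C} (h : SqZero φ) {k : Pt R A B} (hk : mapPt φ k = 1)
    (hkZ : (F.cochar lam).InZ k) :
    ∃ χ : Multiplicative M →* B, φ.toRingHom.toMonoidHom.comp χ = 1 ∧ F.T.tor χ = k := by
  classical
  obtain ⟨d, hd, rfl⟩ := exists_tanPt h.ker rfl hk
  set D := F.cochar lam
  let b := Module.Free.chooseBasis ℤ M
  choose a₀ ha₀ using fun q => F.π_surj (AddMonoidAlgebra.single (b q) 1 - AddMonoidAlgebra.single 0 1)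
  let w := fun q => D.p 0 (a₀ q)
  have hmem : ∀ a, φ (d a) = 0 := fun a => hd.mem a
  let l : M →+ B := (b.constr ℤ fun q => d (w q)).toAddMonoidHom
  have hl : ∀ m, φ (l m) = 0 := fun m => by
    have : φ.toLinearMap.restrictScalars ℤ ∘ₗ b.constr ℤ (fun q => d (w q)) = 0 := by
      refine b.ext fun q => ?_
      simp [hmem]
    exact LinearMap.congr_fun this m
  let χ : Multiplicative M →* B :=
    { toFun := fun m => 1 + l m.toAdd
      map_one' := by simp
      map_mul' := fun m n => by
        rw [toAdd_mul, map_add]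
        linear_combination -(h _ _ (hl m.toAdd) (hl n.toAdd)) }
  refine ⟨χ, MonoidHom.ext fun m => by simp [χ, hl], pt_ext fun a => ?_⟩
  rw [tanPt_apply, eps_apply, F.tor_apply_counit]
  show AddMonoidAlgebra.lift R B M χ (F.T.π a) = _
  have e1 : AddMonoidAlgebra.lift R B M χ (F.T.π a) =
      algebraMap R B ((F.T.π a).coeff.sum fun _ r => r) + (F.T.π a).coeff.sum fun m r => r • l m := by
    rw [AddMonoidAlgebra.lift_apply, map_finsuppSum, ← Finsupp.sum_add]
    exact Finsupp.sum_congr fun m _ => by simp [χ, Algebra.algebraMap_eq_smul_one]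
  rw [e1]
  congr 1
  -- the tangent vector is determined by the derivatives along the torus
  let coord : Module.Free.ChooseBasisIndex ℤ M → (M →+ R) := fun q =>
    (Int.castAddHom R).comp (b.coord q).toAddMonoidHom
  have hlin : ∀ m, l m = ∑ q, coord q m • d (w q) := fun m => by
    show b.constr ℤ (fun q => d (w q)) m = _
    rw [Module.Basis.constr_apply_fintype]
    exact Finset.sum_congr rfl fun q _ => by simp [coord, Int.cast_smul_eq_zsmul]
  have e2 : ((F.T.π a).coeff.sum fun m r => r • l m) = ∑ q, F.dT (coord q) a • d (w q) := by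
    simp only [hlin, Finset.smul_sum, smul_smul, PreFrame.dT, LinearMap.coe_mk, AddHom.coe_mk]
    rw [Finsupp.sum, Finset.sum_comm]
    exact Finset.sum_congr rfl fun q _ => by rw [Finsupp.sum, Finset.sum_smul]
  rw [e2]
  have hker : ∀ x ∈ aug R A ^ 2, d x = 0 := by
    intro x hx
    rw [pow_two] at hx
    refine Submodule.mul_induction_on hx (fun y hy z hz => ?_) fun y z hy hz => by simp [hy, hz]
    simp [hd.leibniz, mem_aug.mp hy, mem_aug.mp hz]
  have hdp : d (D.p 0 a) = d a := by
    have h0 : ∀ n : ℤ, n ≠ 0 → d (D.p n a) = 0 := fun n hn => by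
      have := hkZ a n hn
      simpa [D.counit_p_ne hn] using this
    conv_rhs => rw [← D.sum_p_subset a (s := insert 0 (D.c a).coeff.support) (Finset.subset_insert _ _), map_sum]
    rw [Finset.sum_eq_single 0]
    · intro n _ hn; exact h0 n hn
    · simp
  let c := D.p 0 a - algebraMap R A (Coalgebra.counit (R := R) a) - ∑ q, F.dT (coord q) a • w q
  have hduZ : ∀ i x, F.du i (D.p 0 x) = 0 := fun i x => by
    rw [show F.du i (D.p 0 x) = _ from F.du_cochar_p lam i 0 x, if_neg (hreg i)]
  have hdT0 : ∀ l x, F.dT l (D.p 0 x) = F.dT l x := fun l x => by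
    simp only [PreFrame.dT, LinearMap.coe_mk, AddHom.coe_mk, D, F.π_cochar_p_zero]
  have hwε : ∀ q, Coalgebra.counit (R := R) (w q) = 0 := fun q => by
    rw [show w q = D.p 0 (a₀ q) from rfl, D.counit_p_zero, F.tor_apply_counit, ha₀]
    simp [sub_eq_add_neg, Finsupp.sum_add_index', Finsupp.sum_neg_index, Finsupp.sum_single_index]
  have hc : c ∈ aug R A ^ 2 := by
    refine F.cot' ?_ (fun l => ?_) fun i => ?_
    · simp [c, D.counit_p_zero, hwε, map_sum]
    · have hw : ∀ q, F.dT l (w q) = l (b q) := fun q => by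
        rw [show w q = D.p 0 (a₀ q) from rfl, hdT0]
        simp [PreFrame.dT, ha₀, sub_eq_add_neg, Finsupp.sum_add_index', add_mul, Finsupp.sum_neg_index,
          Finsupp.sum_single_index]
      have hl' : ∀ m, l m = ∑ q, coord q m * l (b q) := fun m => by
        conv_lhs => rw [← b.sum_repr m, map_sum]
        exact Finset.sum_congr rfl fun q _ => by simp [coord]
      simp only [c, map_sub, map_sum, map_smul, hdT0, hw, smul_eq_mul, Algebra.algebraMap_eq_smul_one]
      have : F.dT l (1 : A) = 0 := by simp [PreFrame.dT, AddMonoidAlgebra.one_def]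
      rw [this, mul_zero, sub_zero, sub_eq_zero]
      simp only [PreFrame.dT, LinearMap.coe_mk, AddHom.coe_mk, Finsupp.sum]
      conv_lhs => arg 2; ext m; rw [hl' m, Finset.mul_sum]
      rw [Finset.sum_comm]
      refine Finset.sum_congr rfl fun q _ => ?_
      rw [Finset.sum_mul]
      exact Finset.sum_congr rfl fun m _ => by ring
    · have : F.du i (1 : A) = 0 := by simp [F.du_apply, Polynomial.coeff_one]
      simp [c, hduZ, w, map_sum, Algebra.algebraMap_eq_smul_one, this]
  have := hker c hc
  simp only [c, map_sub, map_sum, map_smul, hdp, Algebra.algebraMap_eq_smul_one, hd.map_one', smul_zero,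
    sub_zero, sub_eq_zero] at this
  exact this.symm

include hreg in
theorem Frame.exists_tor_lift {φ : B →ₐ[R] C} (h : SqZero φ) (hφ : Function.Surjective φ) (g : Pt R A B)
    (hg : (F.cochar lam).InZ g) (χ : Multiplicative M →* C) (hχ : mapPt φ g = F.T.tor χ) :
    ∃ χ' : Multiplicative M →* B, φ.toRingHom.toMonoidHom.comp χ' = χ ∧ F.T.tor χ' = g := by
  classical
  have hunit : ∀ x : B, IsUnit (φ x) → IsUnit x := fun x hx => by
    obtain ⟨y, hy⟩ := hx.exists_right_inv
    obtain ⟨y, rfl⟩ := hφ y
    have h2 : (x * y - 1) * (x * y - 1) = 0 := h _ _ (by simp [hy]) (by simp [hy])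
    exact isUnit_iff_exists_inv.mpr ⟨y * (2 - x * y), by linear_combination -h2⟩
  let b := Module.Free.chooseBasis ℤ M
  have hu : ∀ q, ∃ x : Bˣ, φ x = χ (Multiplicative.ofAdd (b q)) := fun q => by
    obtain ⟨x, hx⟩ := hφ (χ (Multiplicative.ofAdd (b q)))
    have : IsUnit (χ (Multiplicative.ofAdd (b q))) :=
      isUnit_iff_exists_inv.mpr ⟨χ (Multiplicative.ofAdd (-b q)), by rw [← map_mul, ← ofAdd_add]; simp⟩
    exact ⟨(hunit x (hx ▸ this)).unit, hx⟩
  choose x hx using hu
  let L : M →ₗ[ℤ] Additive Bˣ := b.constr ℤ fun q => Additive.ofMul (x q)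
  let χ₀ : Multiplicative M →* B := (Units.coeHom B).comp (AddMonoidHom.toMultiplicativeLeft L.toAddMonoidHom)
  have hχ₀ : φ.toRingHom.toMonoidHom.comp χ₀ = χ := by
    have key : ∀ q, φ.toRingHom.toMonoidHom.comp χ₀ (Multiplicative.ofAdd (b q)) = χ (Multiplicative.ofAdd (b q)) :=
      fun q => by simp [χ₀, L, hx]
    have e : Submodule.span ℤ (Set.range b) = ⊤ := b.span_eq
    refine MonoidHom.ext fun m => ?_
    obtain ⟨m, rfl⟩ := Multiplicative.ofAdd.surjective m
    have hm : m ∈ Submodule.span ℤ (Set.range b) := e ▸ trivial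
    induction hm using Submodule.span_induction with
    | mem m hm => obtain ⟨q, rfl⟩ := hm; exact key q
    | zero => simp
    | add m n _ _ hm hn => rw [ofAdd_add, map_mul, map_mul, hm, hn]
    | smul z m _ hm =>
      rw [ofAdd_zsmul]
      have h1 := map_zpow (φ.toRingHom.toMonoidHom.comp χ₀).toHomUnits (Multiplicative.ofAdd m) z
      have h2 := map_zpow χ.toHomUnits (Multiplicative.ofAdd m) z
      have h3 : (φ.toRingHom.toMonoidHom.comp χ₀).toHomUnits (Multiplicative.ofAdd m) =
          χ.toHomUnits (Multiplicative.ofAdd m) := Units.ext hm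
      rw [h3, ← h2] at h1
      exact congrArg Units.val h1
  have hk : mapPt φ ((F.T.tor χ₀)⁻¹ * g) = 1 := by rw [map_mul, map_inv, F.T.mapPt_tor, hχ₀, hχ, inv_mul_cancel]
  obtain ⟨χ₁, h1, e⟩ := F.exists_tor_of_inZ_tan lam hreg h hk
    (Coact.InZ.mul _ (Coact.InZ.inv _ (F.cochar_inZ_tor lam _)) hg)
  refine ⟨χ₀ * χ₁, ?_, by rw [map_mul, e, mul_inv_cancel_left]⟩
  rw [MonoidHom.comp_mul, hχ₀, h1, mul_one]

include hreg in
theorem Frame.formallyEtale_torZ :
    letI : Algebra (F.cochar lam).ZRing R[M] := (F.torZ lam).toRingHom.toAlgebra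
    Algebra.FormallyEtale (F.cochar lam).ZRing R[M] := by
  let : Algebra (F.cochar lam).ZRing R[M] := (F.torZ lam).toRingHom.toAlgebra
  refine Algebra.FormallyEtale.iff_comp_bijective.mpr fun B _ _ I hI => ⟨fun f f' _ => ?_, fun gb => ?_⟩
  · refine AlgHom.ext fun x => ?_
    obtain ⟨z, rfl⟩ := F.torZ_surjective lam x
    show f (algebraMap _ R[M] z) = f' (algebraMap _ R[M] z)
    rw [f.commutes, f'.commutes]
  · let : Algebra R B := ((algebraMap (F.cochar lam).ZRing B).comp (algebraMap R _)).toAlgebra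
    have : IsScalarTower R (F.cochar lam).ZRing B := .of_algebraMap_eq fun r => rfl
    let π : B →ₐ[R] B ⧸ I := Ideal.Quotient.mkₐ R I
    have hsq : SqZero π := fun x y hx hy => by
      have : x * y ∈ I * I := Ideal.mul_mem_mul (Ideal.Quotient.eq_zero_iff_mem.mp hx)
        (Ideal.Quotient.eq_zero_iff_mem.mp hy)
      rwa [← pow_two, hI] at this
    let g : Pt R A B := mapPt (IsScalarTower.toAlgHom R (F.cochar lam).ZRing B) (F.cochar lam).zPt
    let gR : R[M] →ₐ[R] B ⧸ I :=
      { gb.toRingHom with
        commutes' := fun r => by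
          have := gb.commutes (algebraMap R (F.cochar lam).ZRing r)
          rw [show algebraMap (F.cochar lam).ZRing R[M] (algebraMap R _ r) = algebraMap R R[M] r from
            (F.torZ lam).commutes r] at this
          exact this }
    have hg : mapPt π g = F.T.tor ((AddMonoidAlgebra.lift R (B ⧸ I) M).symm gR) := by
      refine pt_ext fun a => ?_
      show _ = AddMonoidAlgebra.lift R (B ⧸ I) M ((AddMonoidAlgebra.lift R (B ⧸ I) M).symm gR) (F.T.π a)
      rw [Equiv.apply_symm_apply, ← F.torZ_mk lam a]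
      exact (gb.commutes _).symm
    obtain ⟨χ, hχ, e⟩ := F.exists_tor_lift lam hreg hsq Ideal.Quotient.mk_surjective g
      (Coact.InZ.map _ (F.cochar lam).inZ_zPt _) _ hg
    refine ⟨⟨(AddMonoidAlgebra.lift R B M χ).toRingHom, fun z => ?_⟩, ?_⟩
    · obtain ⟨a, rfl⟩ := Ideal.Quotient.mk_surjective z
      have := DFunLike.congr_fun (congrArg WithConv.ofConv e) a
      rw [show algebraMap (F.cochar lam).ZRing R[M] (Ideal.Quotient.mk _ a) = F.T.π a from F.torZ_mk lam a]
      exact this
    · refine AlgHom.ext fun x => ?_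
      show π (AddMonoidAlgebra.lift R B M χ x) = gR x
      have : π.comp (AddMonoidAlgebra.lift R B M χ) = gR := by
        refine (AddMonoidAlgebra.lift R (B ⧸ I) M).symm.injective ?_
        refine Eq.trans ?_ hχ
        ext m
        simp
      exact DFunLike.congr_fun this x

end Groth.Agent.BigCell29
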