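import Mathlib.Algebra.MvPolynomial.CommRing
import Mathlib.Algebra.MvPolynomial.Variables
import Mathlib.RingTheory.Adjoin.Polynomial.Basic

/-!
# Triangular endomorphisms of polynomial rings
-/

set_option autoImplicit false

universe u

namespace Groth.Agent.BigCell29

variable {R : Type u} [CommRing R] {κ : Type} (n : κ → ℕ)

/-- Endomorphisms `X j ↦ X j + (variables of smaller weight)`. -/
def IsTri (σ : MvPolynomial κ R →ₐ[R] MvPolynomial κ R) : Prop :=
  ∀ j, σ (MvPolynomial.X j) - MvPolynomial.X j ∈ Algebra.adjoin R (MvPolynomial.X '' {l | n l < n j})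

variable {n}

theorem IsTri.exists_preimage {σ : MvPolynomial κ R →ₐ[R] MvPolynomial κ R} (h : IsTri n σ) (j : κ) :
    ∃ q, σ q = MvPolynomial.X j ∧ q - MvPolynomial.X j ∈ Algebra.adjoin R (MvPolynomial.X '' {l | n l < n j}) := by
  induction hn : n j using Nat.strong_induction_on generalizing j with
  | _ k ih =>
    subst hn
    let G := Algebra.adjoin R (MvPolynomial.X '' {l | n l < n j} : Set (MvPolynomial κ R))
    have hG : G ≤ G.map σ := by
      refine Algebra.adjoin_le ?_
      rintro _ ⟨l, hl, rfl⟩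
      obtain ⟨q, hq, hq'⟩ := ih (n l) hl l rfl
      refine ⟨q, ?_, hq⟩
      have hX : (MvPolynomial.X l : MvPolynomial κ R) ∈ G := Algebra.subset_adjoin ⟨l, hl, rfl⟩
      have : q - MvPolynomial.X l ∈ G :=
        Algebra.adjoin_mono (Set.image_mono fun x (hx : n x < n l) => hx.trans hl) hq'
      simpa using add_mem this hX
    obtain ⟨r, hr, hr'⟩ := Subalgebra.mem_map.mp (hG (h j))
    refine ⟨MvPolynomial.X j - r, ?_, by simpa using neg_mem hr⟩
    rw [map_sub, hr']
    ring

theorem IsTri.exists_rightInverse {σ : MvPolynomial κ R →ₐ[R] MvPolynomial κ R} (h : IsTri n σ) :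
    ∃ τ : MvPolynomial κ R →ₐ[R] MvPolynomial κ R, IsTri n τ ∧ σ.comp τ = AlgHom.id R _ := by
  choose q hq hq' using h.exists_preimage
  refine ⟨MvPolynomial.aeval q, fun j => by simpa using hq' j, MvPolynomial.algHom_ext fun j => ?_⟩
  simp [hq]

theorem IsTri.bijective {σ : MvPolynomial κ R →ₐ[R] MvPolynomial κ R} (h : IsTri n σ) :
    Function.Bijective σ := by
  obtain ⟨τ, hτ, e⟩ := h.exists_rightInverse
  obtain ⟨σ', -, e'⟩ := hτ.exists_rightInverse
  have : σ' = σ := by
    rw [← AlgHom.id_comp σ', ← e, AlgHom.comp_assoc, e', AlgHom.comp_id]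
  subst this
  exact ⟨Function.LeftInverse.injective (g := τ) (AlgHom.congr_fun e'),
    Function.RightInverse.surjective (g := τ) (AlgHom.congr_fun e)⟩

end Groth.Agent.BigCell29
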