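import Groth.Agent.BigCell29.Frame
import Groth.Agent.BigCell29.Quot
import Groth.Agent.BigCell29.Triangular
import Mathlib.Algebra.TrivSqZeroExt.Basic

/-!
# The attracting subgroup is the product of its root groups, in any order
-/

set_option autoImplicit false

universe u

open TensorProduct WithConv Finsupp
open scoped AddMonoidAlgebra

namespace Groth.Agent.BigCell29

variable {R : Type u} [CommRing R] {A : Type u} [CommRing A] [HopfAlgebra R A]
  {B C : Type u} [CommRing B] [Algebra R B] [CommRing C] [Algebra R C] {M ι : Type} [AddCommGroup M]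
  (F : Frame R A M ι) (lam : M →+ ℤ)

/-- The grading by a cocharacter. -/
noncomputable abbrev Frame.cochar : Coact R A ℤ := F.T.coact.push lam

theorem Frame.cochar_p_p (n : ℤ) (m : M) (a : A) :
    (F.cochar lam).p n (F.T.coact.p m a) = if lam m = n then F.T.coact.p m a else 0 := by
  classical
  rw [Coact.push_p, Finset.sum_filter, Finset.sum_eq_single m]
  · simp [Coact.p_p_self]
  · intro k _ hk; simp [Coact.p_p_ne _ hk.symm]
  · intro h; simp [Coact.p_eq_zero_of_notMem _ h]

theorem Frame.du_cochar_p (i : ι) (n : ℤ) (a : A) :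
    F.du i ((F.cochar lam).p n a) = if lam (F.root i) = n then F.du i a else 0 := by
  classical
  rw [Coact.push_p, Finset.sum_filter, map_sum, Finset.sum_eq_single (F.root i)]
  · simp [apply_ite (F.du i), F.du_p_self]
  · intro k _ hk; simp [apply_ite (F.du i), F.du_p_ne hk.symm]
  · intro h
    simp [Coact.p_eq_zero_of_notMem _ h]

theorem Frame.dT_cochar_p {n : ℤ} (hn : n ≠ 0) (l : M →+ R) (a : A) :
    F.dT l ((F.cochar lam).p n a) = 0 := by
  classical
  rw [Coact.push_p, Finset.sum_filter, map_sum]
  refine Finset.sum_eq_zero fun m _ => ?_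
  split_ifs with h
  · exact F.dT_p_ne (fun h0 => hn (by rw [← h, h0, map_zero])) l a
  · simp

theorem Frame.inU_rt {i : ι} (hi : 0 < lam (F.root i)) (x : B) : (F.cochar lam).InU (F.rt i x) := by
  rw [← Coact.isPos_act_iff]
  refine ⟨linePt (F.φ i) (⟨AddMonoidAlgebra.single (lam (F.root i)) x, fun n hn => ?_⟩ : nonneg R B), ?_, ?_⟩
  · rw [AddMonoidAlgebra.coeff_single, Finsupp.single_apply, if_neg (by omega)]
  · rw [mapPt_linePt]
    show F.rt i _ = 1
    rw [ev0_apply]
    convert F.rt_zero i
    rw [AddMonoidAlgebra.coeff_single, Finsupp.single_apply, if_neg hi.ne']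
  · rw [mapPt_linePt, Coact.act_push, F.act_rt, F.mapPt_rt]
    simp [PreFrame.rt]

variable {k : ℕ} (e : Fin k → ι)

/-- The ordered product of root homomorphisms. -/
noncomputable def Frame.prodPt (x : Fin k → B) : Pt R A B :=
  (List.ofFn fun j => F.rt (e j) (x j)).prod

theorem Frame.mapPt_prodPt (f : B →ₐ[R] C) (x : Fin k → B) :
    mapPt f (F.prodPt e x) = F.prodPt e (f ∘ x) := by
  rw [prodPt, map_list_prod, List.map_ofFn]
  simp [prodPt, Function.comp_def, F.mapPt_rt]

theorem Frame.prodPt_inU (he : ∀ j, 0 < lam (F.root (e j))) (x : Fin k → B) :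
    (F.cochar lam).InU (F.prodPt e x) := by
  rw [prodPt]
  refine List.prod_induction _ (fun a b ha hb => Coact.InU.mul _ ha hb) (Coact.inU_one _) fun g hg => ?_
  obtain ⟨j, rfl⟩ := List.mem_ofFn.mp hg
  exact F.inU_rt lam (he j) _

/-- The comorphism of the product of root homomorphisms. -/
noncomputable def Frame.prodHom : A →ₐ[R] MvPolynomial (Fin k) R :=
  (F.prodPt e MvPolynomial.X).ofConv

/-- The weights of the variables. -/
def Frame.wt (j : Fin k) : ℕ := (lam (F.root (e j))).toNat

theorem Frame.coe_wt {j : Fin k} (hj : 0 < lam (F.root (e j))) : (F.wt lam e j : ℤ) = lam (F.root (e j)) :=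
  Int.toNat_of_nonneg hj.le

variable (he : ∀ j, 0 < lam (F.root (e j)))
include he

theorem Frame.prodHom_p_coeff (n : ℤ) (a : A) (s : Fin k →₀ ℕ)
    (hs : (∑ j, s j • (lam (F.root (e j)))) ≠ n) :
    MvPolynomial.coeff s (F.prodHom e ((F.cochar lam).p n a)) = 0 := by
  classical
  let γ : MvPolynomial (Fin k) R →ₐ[R] (MvPolynomial (Fin k) R)[ℤ] :=
    MvPolynomial.aeval fun j => AddMonoidAlgebra.single (lam (F.root (e j))) (MvPolynomial.X j)
  have hγ : ∀ P : MvPolynomial (Fin k) R,
      γ P = ∑ t ∈ P.support, AddMonoidAlgebra.single (∑ j, t j • lam (F.root (e j)))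
        (MvPolynomial.monomial t (MvPolynomial.coeff t P)) := fun P => by
    conv_lhs => rw [P.as_sum, map_sum]
    refine Finset.sum_congr rfl fun t _ => ?_
    rw [MvPolynomial.aeval_monomial, Finsupp.prod_fintype _ _ fun _ => pow_zero _, MvPolynomial.monomial_eq,
      Finsupp.prod_fintype _ _ fun _ => pow_zero _]
    have : ∀ S : Finset (Fin k), (∏ j ∈ S, AddMonoidAlgebra.single (lam (F.root (e j)))
          (MvPolynomial.X j : MvPolynomial (Fin k) R) ^ t j) =
        AddMonoidAlgebra.single (∑ j ∈ S, t j • lam (F.root (e j))) (∏ j ∈ S, MvPolynomial.X j ^ t j) := by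
      intro S
      induction S using Finset.induction with
      | empty => rw [Finset.prod_empty, Finset.sum_empty, Finset.prod_empty]; exact AddMonoidAlgebra.one_def
      | insert j S hj ih =>
        rw [Finset.prod_insert hj, ih, Finset.sum_insert hj, Finset.prod_insert hj,
          AddMonoidAlgebra.single_pow, AddMonoidAlgebra.single_mul_single]
    rw [this]
    rw [AddMonoidAlgebra.coe_algebraMap, Function.comp_apply, AddMonoidAlgebra.single_mul_single, zero_add]
    rfl
  have h : (F.cochar lam).act (F.prodPt e (MvPolynomial.X (R := R))) = mapPt γ (F.prodPt e MvPolynomial.X) := by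
    rw [F.mapPt_prodPt, prodPt, prodPt, map_list_prod, List.map_ofFn]
    congr 1
    refine List.ofFn_inj.mpr (funext fun j => ?_)
    simp [γ, Coact.act_push, F.act_rt, F.mapPt_rt]
  have h' := congrArg (fun x : (MvPolynomial (Fin k) R)[ℤ] => MvPolynomial.coeff s (x.coeff n))
    (DFunLike.congr_fun (congrArg WithConv.ofConv h) a)
  simp only [Coact.act_coeff, mapPt_apply, hγ, AddMonoidAlgebra.coeff_sum, Finsupp.finsetSum_apply,
    MvPolynomial.coeff_sum] at h'
  rw [show F.prodHom e ((F.cochar lam).p n a) = (F.prodPt e MvPolynomial.X).ofConv ((F.cochar lam).p n a) from rfl,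
    h']
  refine Finset.sum_eq_zero fun t _ => ?_
  rw [AddMonoidAlgebra.coeff_single, Finsupp.single_apply]
  split_ifs with ht
  · rw [MvPolynomial.coeff_monomial, if_neg (by rintro rfl; exact hs ht)]
  · simp

omit he in
theorem Frame.prodHom_coeff_zero (a : A) :
    MvPolynomial.coeff 0 (F.prodHom e a) = Coalgebra.counit (R := R) a := by
  let ev : MvPolynomial (Fin k) R →ₐ[R] R := MvPolynomial.aeval fun _ => 0
  have h : mapPt ev (F.prodPt e MvPolynomial.X) = 1 := by
    rw [F.mapPt_prodPt, prodPt]
    refine List.prod_eq_one fun g hg => ?_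
    obtain ⟨j, rfl⟩ := List.mem_ofFn.mp hg
    simp [ev, F.rt_zero]
  have h' := DFunLike.congr_fun (congrArg WithConv.ofConv h) a
  simpa [ev, MvPolynomial.aeval_zero', MvPolynomial.constantCoeff_eq, Frame.prodHom] using h'

omit he in
theorem Frame.prodHom_coeff_one (hinj : Function.Injective e) (a : A) (j : Fin k) :
    MvPolynomial.coeff (Finsupp.single j 1) (F.prodHom e a) = F.du (e j) a := by
  classical
  let f : MvPolynomial (Fin k) R →ₐ[R] TrivSqZeroExt R R :=
    MvPolynomial.aeval fun l => if l = j then TrivSqZeroExt.inr 1 else 0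
  have hinr : ∀ r : R, (TrivSqZeroExt.inr r : TrivSqZeroExt R R) * TrivSqZeroExt.inr r = 0 := fun r => by simp
  have hf : ∀ P : MvPolynomial (Fin k) R, (f P).snd = MvPolynomial.coeff (Finsupp.single j 1) P ∧
      (f P).fst = MvPolynomial.coeff 0 P := by
    intro P
    induction P using MvPolynomial.induction_on with
    | C r => simp [f, TrivSqZeroExt.algebraMap_eq_inl, MvPolynomial.coeff_C, eq_comm (a := (0 : Fin k →₀ ℕ))]
    | add p q hp hq => simp [hp, hq]
    | mul_X p l hp =>
      rw [map_mul, show f (MvPolynomial.X l) = if l = j then TrivSqZeroExt.inr 1 else 0 by simp [f]]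
      refine ⟨?_, ?_⟩
      · rw [MvPolynomial.coeff_mul_X']
        by_cases h : l = j
        · subst h; simp [hp.2]
        · simp [h]
      · rw [MvPolynomial.coeff_mul_X']
        split_ifs <;> simp_all
  have h : mapPt f (F.prodPt e MvPolynomial.X) = F.rt (e j) (TrivSqZeroExt.inr 1) := by
    rw [F.mapPt_prodPt, prodPt]
    obtain ⟨pre, post, hl⟩ := List.append_of_mem (List.mem_finRange j)
    have hnd : (List.finRange k).Nodup := List.nodup_finRange k
    rw [hl] at hnd
    rw [List.ofFn_eq_map, hl]
    have h1 : ∀ l ∈ pre ++ post, F.rt (e l) ((f ∘ MvPolynomial.X) l) = 1 := by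
      intro l hmem
      have : l ≠ j := by
        rintro rfl
        rw [List.nodup_middle, List.nodup_cons] at hnd
        exact hnd.1 hmem
      simp [f, this, F.rt_zero]
    rw [List.map_append, List.map_cons, List.prod_append, List.prod_cons]
    rw [List.prod_eq_one fun g hg => by
        obtain ⟨l, hl, rfl⟩ := List.mem_map.mp hg; exact h1 l (List.mem_append_left _ hl),
      List.prod_eq_one fun g hg => by
        obtain ⟨l, hl, rfl⟩ := List.mem_map.mp hg; exact h1 l (List.mem_append_right _ hl)]
    simp [f]
  have h' := congrArg TrivSqZeroExt.snd (DFunLike.congr_fun (congrArg WithConv.ofConv h) a)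
  rw [mapPt_apply, (hf _).1] at h'
  rw [show F.prodHom e a = (F.prodPt e MvPolynomial.X).ofConv a from rfl, h', PreFrame.rt, linePt_apply, F.du_apply]
  generalize F.φ (e j) a = P
  induction P using Polynomial.induction_on' with
  | add p q hp hq => simp [hp, hq]
  | monomial n r =>
    rw [Polynomial.aeval_monomial, Polynomial.coeff_monomial]
    match n with
    | 0 => simp [TrivSqZeroExt.algebraMap_eq_inl]
    | 1 => simp [TrivSqZeroExt.algebraMap_eq_inl]
    | n + 2 => simp [pow_succ, mul_assoc]

variable (hinj : Function.Injective e) (hrange : ∀ i, 0 < lam (F.root i) → i ∈ Set.range e)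
include hinj hrange

/-- The product of the positive root groups is the attracting subgroup, in any order. -/
theorem Frame.bijective_uLift_prodPt :
    Function.Bijective ((F.cochar lam).uLift (F.prodPt_inU lam e he (MvPolynomial.X (R := R)))) := by
  classical
  set D := F.cochar lam
  set ψ := D.uLift (F.prodPt_inU lam e he (MvPolynomial.X (R := R)))
  set u : A →ₐ[R] D.URing := D.uPt.ofConv
  have hψu : ∀ a, ψ (u a) = F.prodHom e a := fun a => rfl
  choose a₀ ha₀ using fun j => F.φ_surj (e j) Polynomial.X
  let w : Fin k → A := fun j => F.T.coact.p (F.root (e j)) (a₀ j)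
  have hwdu : ∀ (i : ι) (j), F.du i (w j) = if i = e j then 1 else 0 := by
    intro i j
    by_cases h : i = e j
    · subst h; simp [w, F.du_p_self, F.du_apply, ha₀]
    · simp [w, h, F.du_p_ne (fun hh => h (F.root_inj hh))]
  have hwp : ∀ j, D.p (F.wt lam e j) (w j) = w j := fun j => by
    simp [w, D, F.cochar_p_p, F.coe_wt lam e (he j)]
  have hwε : ∀ j, Coalgebra.counit (R := R) (w j) = 0 := fun j => by
    rw [← hwp j, D.counit_p_ne]
    simp [F.coe_wt lam e (he j), (he j).ne']
  let θ : MvPolynomial (Fin k) R →ₐ[R] D.URing := MvPolynomial.aeval fun j => u (w j)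
  -- generation
  have hu := D.inU_uPt
  have hneg : ∀ (n : ℤ) b, n < 0 → u (D.p n b) = 0 := fun n b hn => hu.1 b n hn
  have hzero : ∀ b, u (D.p 0 b) = algebraMap R _ (Coalgebra.counit (R := R) b) := fun b => hu.2 b
  have gen : ∀ (n : ℕ) a, u (D.p n a) ∈ θ.range := by
    intro n
    induction n using Nat.strong_induction_on with
    | _ n ih =>
      intro a
      rcases Nat.eq_zero_or_pos n with rfl | hn
      · rw [show ((0 : ℕ) : ℤ) = 0 from rfl, hzero]; exact θ.range.algebraMap_mem _
      have hn' : (n : ℤ) ≠ 0 := by omega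
      let b := D.p n a
      let c := b - ∑ j with F.wt lam e j = n, F.du (e j) b • w j
      have hc : c ∈ aug R A ^ 2 := by
        refine F.cot' ?_ (fun l => ?_) fun i => ?_
        · simp [c, b, D.counit_p_ne hn', hwε, map_sum]
        · simp only [c, b, map_sub, map_sum, map_smul, D, F.dT_cochar_p lam hn']
          rw [Finset.sum_eq_zero fun j _ => ?_, sub_zero]
          rw [show F.dT l (w j) = 0 from F.dT_p_ne (fun h => by have := he j; simp [h] at this) l _, smul_zero]
        · simp only [c, map_sub, map_sum, map_smul, hwdu, smul_eq_mul, mul_ite, mul_one, mul_zero]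
          rw [show F.du i b = if lam (F.root i) = n then F.du i a else 0 from F.du_cochar_p lam i n a]
          by_cases hi : lam (F.root i) = n
          · obtain ⟨j, rfl⟩ := hrange i (by omega)
            have hj : F.wt lam e j = n := by have := F.coe_wt lam e (he j); omega
            rw [Finset.sum_eq_single j]
            · simp [b, D, F.du_cochar_p, hi]
            · intro l _ hl; exact if_neg fun h => hl (hinj h).symm
            · simp [hj]
          · rw [if_neg hi, Finset.sum_eq_zero fun j hj => ?_, sub_zero]
            rw [if_neg]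
            rintro rfl
            simp only [Finset.mem_filter, Finset.mem_univ, true_and] at hj
            exact hi (by rw [← F.coe_wt lam e (he j), hj])
      have hcmem : u (D.p n c) ∈ θ.range := by
        rw [pow_two] at hc
        suffices h : ∀ z ∈ aug R A * aug R A, u (D.p n z) ∈ θ.range from h c hc
        intro z hz
        refine Submodule.mul_induction_on hz (fun x hx y hy => ?_) fun x y hx hy => ?_
        swap
        · rw [map_add, map_add]; exact add_mem hx hy
        ·
          rw [D.p_mul, map_sum]
          refine sum_mem fun i _ => ?_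
          rw [map_mul]
          rcases lt_trichotomy i 0 with h | h | h
          · rw [hneg i x h, zero_mul]; exact zero_mem _
          · subst h; rw [hzero, mem_aug.mp hx, map_zero, zero_mul]; exact zero_mem _
          rcases lt_trichotomy i n with h' | h' | h'
          · obtain ⟨i, rfl⟩ := Int.eq_ofNat_of_zero_le h.le
            rw [show (n : ℤ) - (i : ℤ) = ((n - i : ℕ) : ℤ) by omega]
            exact mul_mem (ih i (by omega) x) (ih (n - i) (by omega) y)
          · subst h'; rw [sub_self, hzero, mem_aug.mp hy, map_zero, mul_zero]; exact zero_mem _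
          · rw [hneg _ y (by omega), mul_zero]; exact zero_mem _
      have hb : D.p n a = D.p n c + ∑ j with F.wt lam e j = n, F.du (e j) b • w j := by
        have : ∀ j ∈ Finset.univ.filter (fun j => F.wt lam e j = n), F.du (e j) b • D.p n (w j) =
            F.du (e j) b • w j := fun j hj => by
          simp only [Finset.mem_filter, Finset.mem_univ, true_and] at hj
          rw [← hj, hwp]
        simp only [c, map_sub, map_sum, map_smul]
        rw [Finset.sum_congr rfl this, show D.p n b = D.p n a from D.p_p_self _ _, sub_add_cancel]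
      rw [hb, map_add, map_sum]
      refine add_mem hcmem (sum_mem fun j _ => ?_)
      rw [map_smul]
      exact Subalgebra.smul_mem _ ((AlgHom.mem_range _).mpr ⟨MvPolynomial.X j, by simp [θ]⟩) _
  have θsurj : Function.Surjective θ := fun x => by
    obtain ⟨a, rfl⟩ := Ideal.Quotient.mk_surjective x
    have : u a ∈ θ.range := by
      rw [← D.sum_p a, map_sum]
      refine sum_mem fun n _ => ?_
      rcases lt_or_ge n 0 with h | h
      · rw [hneg n a h]; exact zero_mem _
      · obtain ⟨n, rfl⟩ := Int.eq_ofNat_of_zero_le h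
        exact gen n a
    exact this
  -- triangularity
  have tri : IsTri (F.wt lam e) (ψ.comp θ) := by
    intro j
    simp only [AlgHom.comp_apply, θ, MvPolynomial.aeval_X, hψu]
    set P := F.prodHom e (w j) - MvPolynomial.X j
    rw [P.as_sum]
    refine sum_mem fun s hs => ?_
    have hs' : MvPolynomial.coeff s P ≠ 0 := MvPolynomial.mem_support_iff.mp hs
    by_cases hlow : ∀ l ∈ s.support, F.wt lam e l < F.wt lam e j
    · rw [MvPolynomial.monomial_eq]
      refine mul_mem (Subalgebra.algebraMap_mem _ _) (prod_mem fun l hl => pow_mem ?_ _)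
      exact Algebra.subset_adjoin ⟨l, hlow l hl, rfl⟩
    exfalso
    push Not at hlow
    obtain ⟨l, hl, hl'⟩ := hlow
    apply hs'
    by_cases hwt : (∑ i, s i • lam (F.root (e i))) = (F.wt lam e j : ℤ)
    · have hwt' : ∑ i, s i * F.wt lam e i = F.wt lam e j := by
        apply Int.natCast_inj.mp
        rw [← hwt]
        push_cast
        exact Finset.sum_congr rfl fun i _ => by rw [nsmul_eq_mul, F.coe_wt lam e (he i)]
      have hpos : ∀ i, 0 < F.wt lam e i := fun i => by have := F.coe_wt lam e (he i); have := he i; omega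
      have hsl : s = Finsupp.single l 1 := by
        rw [← Finset.sum_erase_add _ _ (Finset.mem_univ l)] at hwt'
        have h1 : 1 ≤ s l := Nat.one_le_iff_ne_zero.mpr (Finsupp.mem_support_iff.mp hl)
        have h2 : F.wt lam e l ≤ s l * F.wt lam e l := Nat.le_mul_of_pos_left _ h1
        have h3 : ∑ i ∈ Finset.univ.erase l, s i * F.wt lam e i = 0 := by omega
        have h4 : s l = 1 := Nat.eq_of_mul_eq_mul_right (hpos l) (by rw [one_mul]; omega)
        refine Finsupp.ext fun i => ?_
        by_cases hi : i = l
        · subst hi; simpa using h4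
        · have := (Finset.sum_eq_zero_iff.mp h3) i (Finset.mem_erase.mpr ⟨hi, Finset.mem_univ _⟩)
          simp only [Nat.mul_eq_zero, (hpos i).ne', or_false] at this
          simpa [Finsupp.single_apply, Ne.symm hi] using this
      subst hsl
      simp only [P, MvPolynomial.coeff_sub, F.prodHom_coeff_one e hinj, hwdu, hinj.eq_iff,
        MvPolynomial.coeff_X]
      simp [Finsupp.single_eq_single_iff, eq_comm]
    · have hPs : MvPolynomial.coeff s (F.prodHom e (w j)) = 0 := by
        rw [← hwp j]; exact F.prodHom_p_coeff lam e he _ _ s hwt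
      have hne : Finsupp.single j 1 ≠ s := by
        rintro rfl
        refine hwt ?_
        simp [Finsupp.single_apply, F.coe_wt lam e (he j)]
      simp [P, hPs, MvPolynomial.coeff_X, hne]
  have hb := tri.bijective
  refine ⟨fun x y hxy => ?_, fun z => ?_⟩
  · obtain ⟨x, rfl⟩ := θsurj x
    obtain ⟨y, rfl⟩ := θsurj y
    rw [hb.1 hxy]
  · obtain ⟨x, hx⟩ := hb.2 z
    exact ⟨θ x, hx⟩

end Groth.Agent.BigCell29
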